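import Groth.Agent.L02.SchDom.BaseChange
import Groth.Agent.L25.GeomIrred
import Groth.Agent.L21.Smooth.Scheme
import Groth.Prelude.Def_Red
import Mathlib.AlgebraicGeometry.Morphisms.Smooth
import Mathlib.AlgebraicGeometry.Properties
import Mathlib.AlgebraicGeometry.Noetherian
import Mathlib.FieldTheory.IsAlgClosed.AlgebraicClosure

/-!
# Smooth morphisms with irreducible geometric fibres: rings of the fibres
-/

set_option autoImplicit false

universe u

open CategoryTheory Limits AlgebraicGeometry TopologicalSpace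
open scoped TensorProduct

noncomputable section

namespace Groth.L02.SchDom

/-- A connected locally Noetherian scheme whose local rings are domains is irreducible. -/
theorem irreducibleSpace_of_connected {X : Scheme.{u}} [IsLocallyNoetherian X] [ConnectedSpace X]
    (h : ∀ x : X, IsDomain (X.presheaf.stalk x)) : IrreducibleSpace X := by
  classical
  -- unique component through each point
  have huniq : ∀ (x : X) (Z : Set X), Z ∈ irreducibleComponents X → x ∈ Z →
      ∀ W : Set X, IsIrreducible W → x ∈ closure W → W ⊆ Z := by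
    intro x Z hZ hxZ W hW hxW
    haveI := h x
    set η := X.fromSpecStalk x (⟨⊥, Ideal.isPrime_bot⟩ : PrimeSpectrum (X.presheaf.stalk x))
    have hle : ∀ T : Set X, IsClosed T → IsIrreducible T → x ∈ T → T ⊆ closure {η} := by
      intro T hTc hT hxT
      obtain ⟨ξ, hξ⟩ := QuasiSober.sober hT hTc
      obtain ⟨p, hp⟩ : ξ ∈ Set.range (X.fromSpecStalk x) := by
        rw [Scheme.range_fromSpecStalk]
        exact hξ.specializes hxT
      have hs : η ⤳ ξ := by
        rw [← hp]
        exact ((PrimeSpectrum.le_iff_specializes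
          (⟨⊥, Ideal.isPrime_bot⟩ : PrimeSpectrum (X.presheaf.stalk x)) p).1
            bot_le).map (X.fromSpecStalk x).continuous
      rw [← hξ.def]
      exact closure_minimal (Set.singleton_subset_iff.2 hs.mem_closure) isClosed_closure
    have hZη : Z = closure {η} := subset_antisymm (hle Z (isClosed_of_mem_irreducibleComponents Z hZ) hZ.1 hxZ)
      (hZ.2 isIrreducible_singleton.closure (hle Z (isClosed_of_mem_irreducibleComponents Z hZ) hZ.1 hxZ))
    exact subset_closure.trans ((hle _ isClosed_closure hW.closure hxW).trans hZη.ge)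
  obtain ⟨x₀⟩ := (inferInstance : Nonempty X)
  let Z := irreducibleComponent x₀
  have hZ : Z ∈ irreducibleComponents X := irreducibleComponent_mem_irreducibleComponents x₀
  have hopen : IsOpen Z := by
    rw [isOpen_iff_mem_nhds]
    intro x hx
    obtain ⟨U, hU, hxU, -⟩ := exists_isAffineOpen_mem_and_subset (U := (⊤ : X.Opens)) (x := x)
      (Opens.mem_top _)
    haveI : IsNoetherianRing Γ(X, U) := IsLocallyNoetherian.component_noetherian ⟨U, hU⟩
    haveI : NoetherianSpace (Spec Γ(X, U)) := inferInstance
    let D := irreducibleComponents (Spec Γ(X, U))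
    have hfin : D.Finite := NoetherianSpace.finite_irreducibleComponents
    let bad : Set (Spec Γ(X, U)) := ⋃ C ∈ {C ∈ D | x ∉ hU.fromSpec '' C}, C
    have hbad : IsClosed bad :=
      (hfin.subset (fun C hC => hC.1)).isClosed_biUnion fun C hC => isClosed_of_mem_irreducibleComponents C hC.1
    have hN : IsOpen (hU.fromSpec '' badᶜ) := hU.fromSpec.isOpenEmbedding.isOpenMap _ hbad.isOpen_compl
    refine Filter.mem_of_superset (hN.mem_nhds ?_) ?_
    · obtain ⟨w, rfl⟩ : x ∈ Set.range hU.fromSpec := by rw [hU.range_fromSpec]; exact hxU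
      refine ⟨w, fun hw => ?_, rfl⟩
      simp only [bad, Set.mem_iUnion, Set.mem_setOf_eq, exists_prop] at hw
      obtain ⟨C, ⟨-, hC⟩, hwC⟩ := hw
      exact hC ⟨w, hwC, rfl⟩
    · rintro _ ⟨w, hw, rfl⟩
      let C := irreducibleComponent w
      have hxC : x ∈ hU.fromSpec '' C := by
        by_contra hc
        exact hw (Set.mem_biUnion ⟨irreducibleComponent_mem_irreducibleComponents w, hc⟩
          mem_irreducibleComponent)
      exact huniq x Z hZ hx _
        ((irreducibleComponent_mem_irreducibleComponents w).1.image _ hU.fromSpec.continuous.continuousOn)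
        (subset_closure hxC) ⟨w, mem_irreducibleComponent, rfl⟩
  have huniv : Z = Set.univ := (isClopen_iff.1 ⟨isClosed_irreducibleComponent, hopen⟩).resolve_left
    (Set.Nonempty.ne_empty ⟨x₀, mem_irreducibleComponent⟩)
  exact { toPreirreducibleSpace := ⟨huniv ▸ isIrreducible_irreducibleComponent.2⟩,
          toNonempty := inferInstance }

/-- All fibres over algebraically closed fields are irreducible. -/
def IrrFib {X S : Scheme.{u}} (f : X ⟶ S) : Prop :=
  ∀ (K : Type u) [Field K] [IsAlgClosed K] (q : Spec (CommRingCat.of K) ⟶ S),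
    IrreducibleSpace ↥(pullback f q)

/-- Smooth with connected geometric fibres implies irreducible fibres over algebraically closed fields. -/
theorem IrrFib.of_connected {X S : Scheme.{u}} (f : X ⟶ S) [Smooth f]
    (hconn : ∀ s : S, ConnectedSpace ↥(pullback f (Red.geomPt s))) : IrrFib f := by
  intro K _ _ q
  let s : S := q (IsLocalRing.closedPoint K)
  haveI := hconn s
  let kb := AlgebraicClosure (S.residueField s)
  haveI : IsLocallyNoetherian (pullback f (Red.geomPt s)) :=
    LocallyOfFiniteType.isLocallyNoetherian (pullback.snd f (Red.geomPt s))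
  haveI : IrreducibleSpace ↥(pullback f (Red.geomPt s)) :=
    irreducibleSpace_of_connected fun x => Groth.L21.Smooth.isDomain_stalk (pullback.snd f (Red.geomPt s)) x
  haveI := Groth.L25.GeomIrred.geometricallyIrreducible_of_isAlgClosed (pullback.snd f (Red.geomPt s))
  let φ : S.residueField s ⟶ CommRingCat.of K := Scheme.SpecToEquivOfField K S q |>.2
  letI : Algebra (S.residueField s) K := φ.hom.toAlgebra
  let ψ : kb →ₐ[S.residueField s] K := IsAlgClosed.lift
  let r : Spec (CommRingCat.of K) ⟶ Spec (CommRingCat.of kb) := Spec.map (CommRingCat.ofHom ψ.toRingHom)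
  have hr : r ≫ Red.geomPt s = q := by
    rw [← Category.assoc, ← Spec.map_comp, ← CommRingCat.ofHom_comp,
      show ψ.toRingHom.comp (algebraMap (S.residueField s) kb) = φ.hom from ψ.comp_algebraMap,
      CommRingCat.ofHom_hom]
    exact (Scheme.SpecToEquivOfField K S).symm_apply_apply q
  haveI : IrreducibleSpace ↥(pullback (pullback.snd f (Red.geomPt s)) r) :=
    (GeometricallyIrreducible.geometrically_irreducibleSpace
      (f := pullback.snd f (Red.geomPt s))) r _ _ (IsPullback.of_hasPullback _ _)
  exact ((pullbackLeftPullbackSndIso f (Red.geomPt s) r ≪≫ pullback.congrHom rfl hr).hom.homeomorph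
    ).irreducibleSpace_iff.1 inferInstance

theorem IrrFib.baseChange {X S S' : Scheme.{u}} {f : X ⟶ S} (hf : IrrFib f) (g : S' ⟶ S) :
    IrrFib (pullback.snd f g) := by
  intro K _ _ q
  haveI := hf K (q ≫ g)
  exact (pullbackLeftPullbackSndIso f g q).hom.homeomorph.irreducibleSpace_iff.2 inferInstance

/-- Fibres are preirreducible. -/
theorem IrrFib.exists_mem_inter {X S : Scheme.{u}} {f : X ⟶ S} (hf : IrrFib f) {s : S} {U V : X.Opens}
    (hU : ∃ x ∈ U, f x = s) (hV : ∃ x ∈ V, f x = s) : ∃ x ∈ U, x ∈ V ∧ f x = s := by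
  haveI := hf (AlgebraicClosure (S.residueField s)) (Red.geomPt s)
  have hs : ∀ z, Red.geomPt s z = s := fun z => by
    rw [Scheme.Hom.comp_apply]
    exact Scheme.fromSpecResidueField_apply s _
  let π := pullback.fst f (Red.geomPt s)
  have hne : ∀ W : X.Opens, (∃ x ∈ W, f x = s) → ((π ⁻¹ᵁ W) : Set ↥(pullback f (Red.geomPt s))).Nonempty := by
    rintro W ⟨x, hxW, hx⟩
    obtain ⟨z, hz, -⟩ := Scheme.Pullback.exists_preimage_pullback (f := f) (g := Red.geomPt s) x
      (IsLocalRing.closedPoint _) (hx.trans (hs _).symm)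
    exact ⟨z, show π z ∈ W from hz.symm ▸ hxW⟩
  obtain ⟨z, hzU, hzV⟩ := nonempty_preirreducible_inter (π ⁻¹ᵁ U).2 (π ⁻¹ᵁ V).2 (hne U hU) (hne V hV)
  refine ⟨π z, hzU, hzV, ?_⟩
  rw [← Scheme.Hom.comp_apply, pullback.condition, Scheme.Hom.comp_apply, hs]

variable {A B : Type u} [CommRing A] [CommRing B] [Algebra A B] {X : Scheme.{u}}

/-- The rings of the fibres of an affine open of a smooth scheme with irreducible geometric fibres
have no zero divisors. -/
theorem IrrFib.noZeroDivisors (f : X ⟶ Spec (CommRingCat.of A)) [Smooth f] (hf : IrrFib f)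
    (b : Spec (CommRingCat.of B) ⟶ X) [IsOpenImmersion b]
    (hb : b ≫ f = Spec.map (CommRingCat.ofHom (algebraMap A B)))
    (K : Type u) [Field K] [Algebra A K] : NoZeroDivisors (K ⊗[A] B) := by
  let Kb := AlgebraicClosure K
  let q : Spec (CommRingCat.of Kb) ⟶ Spec (CommRingCat.of A) :=
    Spec.map (CommRingCat.ofHom (algebraMap A Kb))
  haveI := hf Kb q
  haveI : ∀ x : ↥(pullback f q), _root_.IsReduced ((pullback f q).presheaf.stalk x) := fun x => by
    haveI := Groth.L21.Smooth.isDomain_stalk (pullback.snd f q) x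
    infer_instance
  haveI := isReduced_of_isReduced_stalk (pullback f q)
  haveI := isIntegral_of_irreducibleSpace_of_isReduced (pullback f q)
  have hb' : b ≫ f = Spec.map (CommRingCat.ofHom (algebraMap A B)) ≫ 𝟙 _ := by
    rw [Category.comp_id, hb]
  let E := bcChart f q (A := A) (A' := Kb) (a := 𝟙 _) (g₀ := 𝟙 _) (b := b)
    ((Category.id_comp _).trans (Category.comp_id _).symm) hb'
  haveI : IsOpenImmersion E := bcChart_isOpenImmersion f q _ _
  haveI : NoZeroDivisors (Kb ⊗[A] B) := by
    by_cases hne : Nonempty (Spec (CommRingCat.of (Kb ⊗[A] B)))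
    · haveI := isIntegral_of_isOpenImmersion E
      haveI := (affine_isIntegral_iff _).1 this
      exact IsDomain.to_noZeroDivisors _
    · haveI : IsEmpty (PrimeSpectrum (Kb ⊗[A] B)) := not_nonempty_iff.1 hne
      haveI : Subsingleton (Kb ⊗[A] B) := PrimeSpectrum.isEmpty_iff_subsingleton.1 ‹_›
      exact ⟨fun {x y} _ => Or.inl (Subsingleton.elim _ _)⟩
  let ι : K ⊗[A] B →ₐ[A] Kb ⊗[A] B :=
    Algebra.TensorProduct.map (IsScalarTower.toAlgHom A K Kb) (AlgHom.id A B)
  have hι : Function.Injective ι := by
    let e := Algebra.TensorProduct.cancelBaseChange A K Kb Kb B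
    have h : ∀ z, ι z = e (1 ⊗ₜ z) := by
      intro z
      induction z using TensorProduct.induction_on with
      | zero => simp
      | tmul a b => simp [ι, e, Algebra.TensorProduct.cancelBaseChange_tmul, Algebra.algebraMap_eq_smul_one]
      | add a b ha hb => simp only [map_add, TensorProduct.tmul_add, ha, hb]
    intro z w hzw
    rw [h, h] at hzw
    exact Module.FaithfullyFlat.tensorProduct_mk_injective (A := K) (B := Kb) (K ⊗[A] B) (e.injective hzw)
  exact hι.noZeroDivisors _ (map_zero _) (map_mul _)

/-- An element which does not vanish at some point of the fibre is nonzero on the fibre. -/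
theorem tmul_ne_zero_of_notMem (K : Type u) [Field K] [Algebra A K] (q : Ideal B) [q.IsPrime]
    (hq : q.comap (algebraMap A B) = RingHom.ker (algebraMap A K)) (h : B) (hh : h ∉ q) :
    (1 : K) ⊗ₜ[A] h ≠ 0 := by
  let p := RingHom.ker (algebraMap A K)
  haveI : p.IsPrime := RingHom.ker_isPrime _
  let κ := p.ResidueField
  let L := q.ResidueField
  let α : κ →ₐ[A] K := Ideal.ResidueField.liftₐ p (Algebra.ofId A K) le_rfl
    (fun a ha => IsUnit.mk0 _ ha)
  haveI : q.LiesOver p := ⟨hq.symm⟩
  letI := α.toRingHom.toAlgebra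
  haveI : IsScalarTower A κ K := IsScalarTower.of_algebraMap_eq fun a => (α.commutes a).symm
  letI : Algebra κ L := (Ideal.ResidueField.mapₐ p q (Algebra.ofId A B) hq.symm).toRingHom.toAlgebra
  haveI : IsScalarTower A κ L := IsScalarTower.of_algebraMap_eq fun a =>
    ((Ideal.ResidueField.mapₐ p q (Algebra.ofId A B) hq.symm).commutes a).symm
  haveI : Nontrivial (K ⊗[κ] L) :=
    Algebra.TensorProduct.nontrivial_of_algebraMap_injective_of_flat_left κ K L
      (algebraMap κ L).injective
  let χ : K ⊗[A] B →ₐ[A] K ⊗[κ] L := Algebra.TensorProduct.lift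
    ((Algebra.TensorProduct.includeLeft : K →ₐ[κ] K ⊗[κ] L).restrictScalars A)
    (((Algebra.TensorProduct.includeRight : L →ₐ[κ] K ⊗[κ] L).restrictScalars A).comp
      (IsScalarTower.toAlgHom A B L)) fun _ _ => Commute.all _ _
  intro h0
  have hu : IsUnit (χ ((1 : K) ⊗ₜ[A] h)) := by
    simp only [χ, Algebra.TensorProduct.lift_tmul, map_one, one_mul]
    simp only [AlgHom.comp_apply, IsScalarTower.coe_toAlgHom']
    exact (IsUnit.mk0 _ fun e => hh (Ideal.algebraMap_residueField_eq_zero.1 e)).map _
  rw [h0, map_zero] at hu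
  exact not_isUnit_zero hu

end Groth.L02.SchDom
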