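import Groth.Agent.L02.SchDom.Basic
import Groth.Agent.L13.FixedLocus.Finite
import Groth.Agent.L25.Locus.Factor
import Mathlib.AlgebraicGeometry.Noetherian
import Mathlib.AlgebraicGeometry.Morphisms.Finite

/-!
# Factorisation loci through closed subschemes

* a schematically dominant family detects factorisation through a closed immersion;
* the locus in `S` where a finite flat finitely presented `P ⟶ S` maps into a closed subscheme is
  closed (Weil restriction of a closed immersion along a finite flat morphism);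
* intersections of closed subschemes, and stationarity of directed families on Noetherian schemes.
-/

set_option autoImplicit false

universe u w

open CategoryTheory Limits AlgebraicGeometry TopologicalSpace
open TensorProduct

noncomputable section

namespace Groth.L02.SchDom

/-- A schematically dominant family detects factorisation through a closed immersion. -/
theorem Dom.factors {X W Y : Scheme.{u}} {ι : Type w} {Z : ι → Scheme.{u}} {f : ∀ i, Z i ⟶ X}
    (H : Dom f) (y : Y ⟶ W) [IsClosedImmersion y] (a : X ⟶ W)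
    (h : ∀ i, ∃ l, l ≫ y = f i ≫ a) : ∃ l, l ≫ y = a := by
  have hle : y.ker ≤ a.ker := by
    refine Scheme.IdealSheafData.le_ofIdeals_iff.2 fun U r hr => RingHom.mem_ker.2 (H _ _ fun i => ?_)
    obtain ⟨l, hl⟩ := h i
    have h1 : y.app U.1 r = 0 := by
      rw [Scheme.Hom.ker_apply] at hr
      exact RingHom.mem_ker.1 hr
    have h2 : (l ≫ y).app U.1 r = 0 := by
      rw [Scheme.Hom.comp_app]
      exact (congrArg (l.app (y ⁻¹ᵁ U.1)) h1).trans (map_zero _)
    have h3 : ∀ (φ : Z i ⟶ W) (_ : φ = l ≫ y), φ.app U.1 r = 0 := by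
      rintro _ rfl
      exact h2
    have h4 := h3 (f i ≫ a) hl.symm
    rw [Scheme.Hom.comp_app] at h4
    exact h4
  exact ⟨IsClosedImmersion.lift y a hle, IsClosedImmersion.lift_fac _ _ _⟩

/-- A morphism factors through a closed immersion iff it kills the ideal. -/
theorem exists_factor_iff_ker_le {T S Y : Scheme.{u}} (t : T ⟶ S) [IsClosedImmersion t] (g : Y ⟶ S) :
    (∃ g' : Y ⟶ T, g' ≫ t = g) ↔ t.ker ≤ g.ker :=
  ⟨fun ⟨g', hg⟩ => hg ▸ g'.le_ker_comp t,
    fun h => ⟨IsClosedImmersion.lift t g h, IsClosedImmersion.lift_fac _ _ _⟩⟩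

section FiniteFlat

variable {P S W Y : Scheme.{u}} (p : P ⟶ S) [IsFinite p] [Flat p] [LocallyOfFinitePresentation p]
  (y : Y ⟶ W) [IsClosedImmersion y] (a : P ⟶ W)

/-- **Weil restriction of a closed immersion along a finite flat morphism**: the locus where
`P ⟶ W` lands in `Y` is a closed subscheme of `S`. -/
theorem exists_factorLocus : ∃ (T : Scheme.{u}) (t : T ⟶ S), IsClosedImmersion t ∧
    (LocallyOfFinitePresentation y → LocallyOfFinitePresentation t) ∧
    ∀ (S' : Scheme.{u}) (g : S' ⟶ S), (∃ g' : S' ⟶ T, g' ≫ t = g) ↔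
      ∃ l, l ≫ y = pullback.fst p g ≫ a := by
  have hU : ∀ U : S.affineOpens, ∃ I : Ideal Γ(S, U.1), (LocallyOfFinitePresentation y → I.FG) ∧
      ∀ (R : CommRingCat.{u}) (φ : Γ(S, U.1) ⟶ R),
        (∃ l, l ≫ y = pullback.fst p (Spec.map φ ≫ U.2.fromSpec) ≫ a) ↔ I ≤ RingHom.ker φ.hom := by
    intro U
    have hV : IsAffineOpen (p ⁻¹ᵁ U.1) := U.2.preimage p
    have hq : IsPullback hV.fromSpec (Spec.map (p.app U.1)) p U.2.fromSpec := by
      refine ((isPullback_morphismRestrict p U.1).flip).of_iso hV.isoSpec (Iso.refl _) U.2.isoSpec (Iso.refl _)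
        ?_ ?_ ?_ ?_
      · rw [Iso.refl_hom, Category.comp_id, IsAffineOpen.isoSpec_hom, hV.toSpecΓ_fromSpec]
      · rw [← cancel_mono U.2.fromSpec, Category.assoc, Category.assoc, IsAffineOpen.isoSpec_hom,
          U.2.toSpecΓ_fromSpec, morphismRestrict_ι, IsAffineOpen.isoSpec_hom]
        have h := IsAffineOpen.SpecMap_appLE_fromSpec p U.2 hV le_rfl
        rw [← Scheme.Hom.app_eq_appLE] at h
        rw [h, ← Category.assoc, hV.toSpecΓ_fromSpec]
      · simp
      · rw [Iso.refl_hom, Category.comp_id, IsAffineOpen.isoSpec_hom, U.2.toSpecΓ_fromSpec]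
    letI : Algebra Γ(S, U.1) Γ(P, p ⁻¹ᵁ U.1) := (p.app U.1).hom.toAlgebra
    haveI : Module.Finite Γ(S, U.1) Γ(P, p ⁻¹ᵁ U.1) := IsFinite.finite_app p U.1 U.2
    haveI : Algebra.FinitePresentation Γ(S, U.1) Γ(P, p ⁻¹ᵁ U.1) := by
      have := p.finitePresentation_appLE U.2 hV le_rfl
      rwa [← Scheme.Hom.app_eq_appLE] at this
    haveI : Module.Flat Γ(S, U.1) Γ(P, p ⁻¹ᵁ U.1) := by
      have := p.flat_appLE U.2 hV le_rfl
      rwa [← Scheme.Hom.app_eq_appLE] at this
    haveI := Module.FinitePresentation.of_finite_of_finitePresentation (R := Γ(S, U.1)) (S := Γ(P, p ⁻¹ᵁ U.1))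
    haveI : Module.Projective Γ(S, U.1) Γ(P, p ⁻¹ᵁ U.1) := Module.Flat.projective_of_finitePresentation
    obtain ⟨J, hJfg, hJ⟩ := Groth.L25.Locus.exists_ideal_factors y (hV.fromSpec ≫ a)
    let M := Γ(P, p ⁻¹ᵁ U.1)
    obtain ⟨I, hIfg, hI⟩ : ∃ I : Ideal Γ(S, U.1), (LocallyOfFinitePresentation y → I.FG) ∧
        ∀ (R : Type u) [CommRing R] [Algebra Γ(S, U.1) R],
          (∀ x ∈ J, (1 : R) ⊗ₜ[Γ(S, U.1)] x = 0) ↔ I ≤ RingHom.ker (algebraMap Γ(S, U.1) R) := by
      by_cases hy : LocallyOfFinitePresentation y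
      · obtain ⟨I, hIfg, hI⟩ := Groth.L13.FixedLocus.exists_fg_ideal_of_fg (B := Γ(S, U.1)) J (hJfg hy)
        exact ⟨I, fun _ => hIfg, hI⟩
      · exact ⟨Groth.L13.FixedLocus.coeffIdeal Γ(S, U.1) (J : Set M), fun h => absurd h hy,
          fun R _ _ => Groth.L13.FixedLocus.tmul_eq_zero_iff Γ(S, U.1) (J : Set M) R⟩
    refine ⟨I, hIfg, fun R φ => ?_⟩
    letI : Algebra Γ(S, U.1) R := φ.hom.toAlgebra
    have hR : IsPullback
        (Spec.map (CommRingCat.ofHom (Algebra.TensorProduct.includeRight : M →ₐ[Γ(S, U.1)] R ⊗[Γ(S, U.1)] M).toRingHom) ≫ hV.fromSpec)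
        (Spec.map (CommRingCat.ofHom (algebraMap R (R ⊗[Γ(S, U.1)] M)))) p (Spec.map φ ≫ U.2.fromSpec) := by
      refine IsPullback.paste_horiz ?_ hq
      refine ((IsPullback.of_hasPullback (Spec.map (CommRingCat.ofHom (algebraMap Γ(S, U.1) R)))
        (Spec.map (CommRingCat.ofHom (algebraMap Γ(S, U.1) M)))).flip).of_iso
          (pullbackSpecIso Γ(S, U.1) R M) (Iso.refl _) (Iso.refl _) (Iso.refl _) ?_ ?_ ?_ ?_
      · rw [Iso.refl_hom, Category.comp_id]
        exact (pullbackSpecIso_hom_snd Γ(S, U.1) R M).symm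
      · rw [Iso.refl_hom, Category.comp_id]
        exact (pullbackSpecIso_hom_fst' Γ(S, U.1) R M).symm
      · simp [RingHom.algebraMap_toAlgebra]
      · simp [RingHom.algebraMap_toAlgebra]
    refine Iff.trans ?_ (((hJ (R ⊗[Γ(S, U.1)] M)
      (Algebra.TensorProduct.includeRight : M →ₐ[Γ(S, U.1)] R ⊗[Γ(S, U.1)] M).toRingHom).trans (hI R)))
    constructor
    · rintro ⟨l, hl⟩
      refine ⟨hR.isoPullback.hom ≫ l, ?_⟩
      rw [Category.assoc, hl, hR.isoPullback_hom_fst_assoc, Category.assoc]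
    · rintro ⟨w, hw⟩
      refine ⟨hR.isoPullback.inv ≫ w, ?_⟩
      rw [Category.assoc, hw, ← hR.isoPullback_inv_fst, Category.assoc, Category.assoc]
  choose I hIfg hI using hU
  have hcomp : ∀ (Z Z' : Scheme.{u}) (h : Z' ⟶ Z) (g : Z ⟶ S),
      (∃ l, l ≫ y = pullback.fst p g ≫ a) → ∃ l, l ≫ y = pullback.fst p (h ≫ g) ≫ a := by
    rintro Z Z' h g ⟨l, hl⟩
    let m : pullback p (h ≫ g) ⟶ pullback p g :=
      pullback.lift (pullback.fst _ _) (pullback.snd _ _ ≫ h) (by rw [Category.assoc]; exact pullback.condition)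
    exact ⟨m ≫ l, by rw [Category.assoc, hl, pullback.lift_fst_assoc]⟩
  have hloc : ∀ (Z : Scheme.{u}) (g : Z ⟶ S),
      (∀ z : Z, ∃ V : Z.Opens, z ∈ V ∧ ∃ l, l ≫ y = pullback.fst p (V.ι ≫ g) ≫ a) →
        ∃ l, l ≫ y = pullback.fst p g ≫ a := by
    intro Z g hg
    refine Groth.L25.Locus.factors_of_cover y _ fun w => ?_
    obtain ⟨V, hwV, l, hl⟩ := hg (pullback.snd p g w)
    let o := (pullback.snd p g ⁻¹ᵁ V).ι
    let m : (pullback.snd p g ⁻¹ᵁ V : Scheme.{u}) ⟶ pullback p (V.ι ≫ g) :=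
      pullback.lift (o ≫ pullback.fst p g) (pullback.snd p g ∣_ V) (by
        rw [Category.assoc, pullback.condition, morphismRestrict_ι_assoc])
    refine ⟨_, o, inferInstance, ?_, m ≫ l, ?_⟩
    · rw [Scheme.Opens.range_ι]
      exact hwV
    · rw [Category.assoc, hl, pullback.lift_fst_assoc, Category.assoc]
  obtain ⟨T, t, ht, hker, h⟩ := Groth.L13.FixedLocus.exists_closedImmersion_of_ideals
    (fun S' g => ∃ l, l ≫ y = pullback.fst p g ≫ a) hcomp hloc I hI
  exact ⟨T, t, ht, fun hy => Groth.L13.FixedLocus.locallyOfFinitePresentation_of_fg t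
    fun U => hker U ▸ hIfg U hy, h⟩

end FiniteFlat

/-- Intersection of a family of closed subschemes. -/
theorem exists_inter {S : Scheme.{u}} {ι : Type w} {T : ι → Scheme.{u}} (t : ∀ i, T i ⟶ S)
    [∀ i, IsClosedImmersion (t i)] : ∃ (T₀ : Scheme.{u}) (t₀ : T₀ ⟶ S), IsClosedImmersion t₀ ∧
      ∀ (Y : Scheme.{u}) (g : Y ⟶ S), (∃ g', g' ≫ t₀ = g) ↔ ∀ i, ∃ g', g' ≫ t i = g := by
  refine ⟨_, (⨆ i, (t i).ker).subschemeι, inferInstance, fun Y g => ?_⟩
  rw [exists_factor_iff_ker_le, Scheme.IdealSheafData.ker_subschemeι, iSup_le_iff]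
  exact forall_congr' fun i => (exists_factor_iff_ker_le _ _).symm

/-- On a Noetherian scheme a directed family of ideal sheaves has a largest member. -/
theorem exists_ge_of_directed {S : Scheme.{u}} [IsNoetherian S] {ι : Type w} [Nonempty ι]
    (K : ι → S.IdealSheafData) (hd : Directed (· ≤ ·) K) : ∃ i, ∀ j, K j ≤ K i := by
  classical
  let 𝒰 := S.affineCover.finiteSubcover
  let U : 𝒰.I₀ → S.affineOpens := fun k => ⟨(𝒰.f k).opensRange, isAffineOpen_opensRange _⟩
  have hU : ⨆ k, (U k).1 = ⊤ := top_le_iff.1 fun x _ => by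
    obtain ⟨k, z, hz⟩ := 𝒰.exists_eq x
    exact Opens.mem_iSup.2 ⟨k, z, hz⟩
  have hk : ∀ k, ∃ i, ∀ j, (K j).ideal (U k) ≤ (K i).ideal (U k) := by
    intro k
    haveI := IsLocallyNoetherian.component_noetherian (X := S) (U k)
    obtain ⟨-, ⟨i, rfl⟩, hmax⟩ := set_has_maximal_iff_noetherian.2 ‹IsNoetherianRing Γ(S, (U k).1)›
      (Set.range fun i => (K i).ideal (U k)) (Set.range_nonempty _)
    refine ⟨i, fun j => ?_⟩
    obtain ⟨l, hil, hjl⟩ := hd i j
    exact (hjl (U k)).trans ((not_lt_iff_le_imp_ge.1 (hmax _ ⟨l, rfl⟩)) (hil (U k)))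
  choose i hi using hk
  obtain ⟨i₀, hi₀⟩ := hd.finset_le (Finset.univ.image i)
  refine ⟨i₀, fun j => Scheme.IdealSheafData.le_of_iSup_eq_top U hU fun k => (hi k j).trans ?_⟩
  exact hi₀ (i k) (Finset.mem_image_of_mem _ (Finset.mem_univ k)) (U k)

end Groth.L02.SchDom
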