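import Groth.Agent.L07.FibreRegular
import Groth.Agent.L20.ModFlat
import Groth.Agent.L20.ModPullback
import Groth.Agent.L16.AffineBC.Pullback
import Groth.Agent.L16.QCohSections
import Groth.Prelude.Def_FlatMod2
import Groth.Prelude.Def_CohB1
import Mathlib.RingTheory.Flat.Equalizer
import Mathlib.RingTheory.Ideal.AssociatedPrime.Finiteness
import Mathlib.RingTheory.LocalRing.ResidueField.Ideal
import Mathlib.AlgebraicGeometry.Fiber

/-!
# Universal injectivity of restriction for flat modules of finite presentation (EGA IV 11.10.10)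
-/

set_option autoImplicit false
set_option linter.style.haveILetI false
set_option maxSynthPendingDepth 3

universe u

open CategoryTheory Limits AlgebraicGeometry TopologicalSpace
open TensorProduct

namespace Groth.L02.SchDom

section Algebra

variable {A B : Type u} [CommRing A] [CommRing B] [Algebra A B]

/-- Regularity of `g` on a localisation, with flat cokernel, survives base change. -/
theorem isSMulRegular_tensor_of_flat (M : Type u) [AddCommGroup M] [Module B M] [Module A M]
    [IsScalarTower A B M] (q : Ideal B) [q.IsPrime] (g : B)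
    (hreg : IsSMulRegular (LocalizedModule q.primeCompl M) g)
    (hflat : Module.Flat A (LocalizedModule q.primeCompl (QuotSMulTop g M)))
    (A' T : Type u) [CommRing A'] [CommRing T] [Algebra A A'] [Algebra A T] [Algebra A' T]
    [Algebra B T] [IsScalarTower A A' T] [IsScalarTower A B T] [Algebra.IsPushout A A' B T]
    (R' : Type u) [CommRing R'] [Algebra T R'] [Algebra B R'] [IsScalarTower B T R']
    [Module.Flat T R'] (hunit : ∀ b : q.primeCompl, IsUnit (algebraMap B R' b)) :
    IsSMulRegular (R' ⊗[B] M) g := by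
  let L := LocalizedModule q.primeCompl M
  let ℓ : M →ₗ[B] L := LocalizedModule.mkLinearMap q.primeCompl M
  let Q := QuotSMulTop g M
  let ℓQ : Q →ₗ[B] LocalizedModule q.primeCompl Q := LocalizedModule.mkLinearMap q.primeCompl Q
  let π : M →ₗ[B] Q := Submodule.mkQ _
  have hπ : Function.Exact (LinearMap.lsmul B M g) π := by
    intro m
    show Submodule.Quotient.mk m = 0 ↔ _
    rw [Submodule.Quotient.mk_eq_zero, Submodule.mem_smul_pointwise_iff_exists]
    exact ⟨fun ⟨n, _, hn⟩ => ⟨n, hn⟩, fun ⟨n, hn⟩ => ⟨n, trivial, hn⟩⟩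
  let f : L →ₗ[B] LocalizedModule q.primeCompl Q := IsLocalizedModule.map q.primeCompl ℓ ℓQ π
  have hf : Function.Surjective f :=
    IsLocalizedModule.map_surjective q.primeCompl ℓ ℓQ π (Submodule.mkQ_surjective _)
  have hgL : IsLocalizedModule.map q.primeCompl ℓ ℓ (LinearMap.lsmul B M g) = LinearMap.lsmul B L g := by
    refine IsLocalizedModule.linearMap_ext q.primeCompl ℓ ℓ ?_
    ext m
    rw [LinearMap.comp_apply, LinearMap.comp_apply, IsLocalizedModule.map_apply]
    simp
  have hex : Function.Exact (LinearMap.lsmul B L g) f :=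
    hgL ▸ IsLocalizedModule.map_exact q.primeCompl ℓ ℓ ℓQ (LinearMap.lsmul B M g) π hπ
  haveI := hflat
  have hA : Function.Injective (((LinearMap.lsmul B L g).restrictScalars A).lTensor A') :=
    LinearMap.lTensor_injective_of_exact_of_flat (f.restrictScalars A) hf
      ((LinearMap.lsmul B L g).restrictScalars A) hreg hex A'
  -- transport to `T ⊗ L`
  let c := Algebra.IsPushout.cancelBaseChange A A' B T L
  have hnat : ∀ z : T ⊗[B] L, c ((LinearMap.lsmul B L g).lTensor T z) =
      ((LinearMap.lsmul B L g).restrictScalars A).lTensor A' (c z) := by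
    have : ∀ w : A' ⊗[A] L, (LinearMap.lsmul B L g).lTensor T (c.symm w) =
        c.symm (((LinearMap.lsmul B L g).restrictScalars A).lTensor A' w) := by
      intro w
      induction w with
      | zero => simp
      | tmul a l => simp [c]
      | add x y hx hy => simp only [map_add, hx, hy]
    intro z
    obtain ⟨w, rfl⟩ := c.symm.surjective z
    rw [this, c.apply_symm_apply, c.apply_symm_apply]
  have hT : Function.Injective ((LinearMap.lsmul B L g).lTensor T) := fun a b hab =>
    c.injective (hA (by rw [← hnat, ← hnat, hab]))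
  -- transport to `R' ⊗ L`
  let d := TensorProduct.AlgebraTensorModule.cancelBaseChange B T T R' L
  let mT : T ⊗[B] L →ₗ[T] T ⊗[B] L := (LinearMap.lsmul B L g).baseChange T
  have hR : Function.Injective ((LinearMap.lsmul B L g).lTensor R') := by
    have h1 : Function.Injective (mT.lTensor R') :=
      Module.Flat.lTensor_preserves_injective_linearMap mT hT
    have h2 : ∀ z, (LinearMap.lsmul B L g).lTensor R' (d z) = d (mT.lTensor R' z) := by
      intro z
      induction z with
      | zero => simp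
      | tmul r w =>
        induction w with
        | zero => simp
        | tmul t l =>
          simp only [d, mT, LinearMap.lTensor_tmul, LinearMap.baseChange_tmul,
            TensorProduct.AlgebraTensorModule.cancelBaseChange_tmul]
        | add x y hx hy => simp only [TensorProduct.tmul_add, map_add, hx, hy]
      | add x y hx hy => simp only [map_add, hx, hy]
    intro a b hab
    obtain ⟨a, rfl⟩ := d.surjective a
    obtain ⟨b, rfl⟩ := d.surjective b
    rw [h2, h2] at hab
    rw [h1 (d.injective hab)]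
  -- `R' ⊗ M → R' ⊗ L` is injective
  have hu : ∀ b : q.primeCompl, IsUnit (algebraMap B (Module.End B (R' ⊗[B] M)) b) := by
    intro b
    rw [Module.End.isUnit_iff]
    obtain ⟨v, hv⟩ := hunit b
    refine Function.bijective_iff_has_inverse.mpr ⟨fun z => (↑v⁻¹ : R') • z, fun z => ?_, fun z => ?_⟩
    · show (↑v⁻¹ : R') • ((b : B) • z) = z
      rw [← algebraMap_smul R' (b : B) z, smul_smul, ← hv, Units.inv_mul, one_smul]
    · show (b : B) • ((↑v⁻¹ : R') • z) = z
      rw [← algebraMap_smul R' (b : B), smul_smul, ← hv, Units.mul_inv, one_smul]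
  let ψ : L →ₗ[B] R' ⊗[B] M :=
    IsLocalizedModule.lift q.primeCompl ℓ (TensorProduct.mk B R' M 1) hu
  have hψ : ∀ m, ψ (ℓ m) = 1 ⊗ₜ m := fun m => IsLocalizedModule.lift_apply _ _ _ hu m
  have hinj : Function.Injective (ℓ.lTensor R') := by
    refine Function.LeftInverse.injective (g := fun z => (ψ.liftBaseChange R') z) fun z => ?_
    induction z with
    | zero => simp
    | tmul r m => simp [hψ, TensorProduct.smul_tmul']
    | add x y hx hy => simp only [map_add, hx, hy]
  intro a b hab
  apply hinj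
  apply hR
  have h3 : ∀ z : R' ⊗[B] M, (LinearMap.lsmul B L g).lTensor R' (ℓ.lTensor R' z) = ℓ.lTensor R' (g • z) := by
    intro z
    rw [map_smul]
    generalize ℓ.lTensor R' z = w
    induction w with
    | zero => simp
    | tmul r l => simp [TensorProduct.smul_tmul']
    | add x y hx hy => simp only [map_add, smul_add, hx, hy]
  rw [h3, h3]
  exact congrArg _ hab

/-- Prime avoidance in a Noetherian fibre. -/
theorem exists_mem_isSMulRegular (C N : Type u) [CommRing C] [IsNoetherianRing C] [Algebra B C]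
    [AddCommGroup N] [Module C N] [Module B N] [IsScalarTower B C N] [Module.Finite C N]
    (I : Ideal B) (h : ∀ y : N, (∀ b ∈ I, b • y = 0) → y = 0) :
    ∃ g ∈ I, IsSMulRegular N g := by
  classical
  have hfin := associatedPrimes.finite C N
  have hnot : ∀ P ∈ associatedPrimes C N, ¬ I.map (algebraMap B C) ≤ P := by
    intro P hP hle
    obtain ⟨hp, f, hf⟩ := (isAssociatedPrime_iff_exists_injective_linearMap P N).mp hP
    have h0 : f 1 = 0 := h _ fun b hb => by
      rw [← algebraMap_smul C b, ← map_smul, Algebra.smul_def, mul_one,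
        Ideal.Quotient.algebraMap_eq, Ideal.Quotient.eq_zero_iff_mem.mpr (hle (Ideal.mem_map_of_mem _ hb)),
        map_zero]
    have h1 : (1 : C ⧸ P) = 0 := hf (h0.trans (map_zero f).symm)
    exact hp.ne_top ((Ideal.eq_top_iff_one P).mpr (Ideal.Quotient.eq_zero_iff_mem.mp h1))
  by_contra hcon
  push_neg at hcon
  let F : Finset (Ideal B) := hfin.toFinset.image fun P => P.comap (algebraMap B C)
  have hsub : (I : Set B) ⊆ ⋃ P ∈ (F : Set (Ideal B)), (P : Set B) := by
    intro b hb
    have := hcon b hb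
    rw [isSMulRegular_iff_right_eq_zero_of_smul] at this
    push_neg at this
    obtain ⟨y, hy, hy0⟩ := this
    have hz : algebraMap B C b ∈ ⋃ P ∈ associatedPrimes C N, (P : Set C) := by
      rw [biUnion_associatedPrimes_eq_zero_divisors]
      exact ⟨y, hy0, by rw [algebraMap_smul]; exact hy⟩
    obtain ⟨P, hP, hbP⟩ := Set.mem_iUnion₂.mp hz
    exact Set.mem_iUnion₂.mpr ⟨_, Finset.mem_image.mpr ⟨P, hfin.mem_toFinset.mpr hP, rfl⟩, hbP⟩
  obtain ⟨P', hP', hle⟩ : ∃ P ∈ hfin.toFinset.image fun P => P.comap (algebraMap B C), I ≤ P := by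
    refine (Ideal.subset_union_prime (f := id) ⊥ ⊥ fun P hP _ _ => ?_).1 hsub
    obtain ⟨P, hP', rfl⟩ := Finset.mem_image.mp hP
    haveI := IsAssociatedPrime.isPrime (hfin.mem_toFinset.mp hP')
    exact Ideal.IsPrime.comap _
  obtain ⟨P, hP, rfl⟩ := Finset.mem_image.mp hP'
  exact hnot P (hfin.mem_toFinset.mp hP) (Ideal.map_le_iff_le_comap.mpr hle)

theorem isSMulRegular_localizedModule (N : Type u) [AddCommGroup N] [Module B N] (S : Submonoid B)
    (g : B) (h : IsSMulRegular N g) : IsSMulRegular (LocalizedModule S N) g := by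
  let ℓ : N →ₗ[B] LocalizedModule S N := LocalizedModule.mkLinearMap S N
  have hg : IsLocalizedModule.map S ℓ ℓ (LinearMap.lsmul B N g) =
      LinearMap.lsmul B (LocalizedModule S N) g := by
    refine IsLocalizedModule.linearMap_ext S ℓ ℓ ?_
    ext m
    rw [LinearMap.comp_apply, LinearMap.comp_apply, IsLocalizedModule.map_apply]
    simp
  have := IsLocalizedModule.map_injective S ℓ ℓ (LinearMap.lsmul B N g) h
  rw [hg] at this
  exact this

end Algebra

section Scheme

open Groth.L18.Frame (rs rs_smul)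
open Groth.L20.ModStalk (germ_rs germ_smul)

/-- Injectivity of the restriction maps to an open. -/
def RestrInj {X : Scheme.{u}} (F : X.Modules) (U : X.Opens) : Prop :=
  ∀ V : X.Opens, Function.Injective (F.presheaf.map (homOfLE (inf_le_left : V ⊓ U ≤ V)).op)

lemma RestrInj.eq_zero {X : Scheme.{u}} {F : X.Modules} {U V : X.Opens} (h : RestrInj F U)
    (s : Γ(F, V)) (hs : rs F (inf_le_left : V ⊓ U ≤ V) s = 0) : s = 0 :=
  h V (by exact hs.trans (map_zero _).symm)

/-- The affine cartesian square over given affine opens. -/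
theorem affine_square {X S X' S' : Scheme.{u}} {f : X ⟶ S} {f' : X' ⟶ S'} {g' : X' ⟶ X}
    {g : S' ⟶ S} (hc : IsPullback g' f' f g) {W : S.Opens} {V : X.Opens} {W' : S'.Opens}
    (hW : IsAffineOpen W) (hV : IsAffineOpen V) (hW' : IsAffineOpen W') (eV : V ≤ f ⁻¹ᵁ W)
    (eW : W' ≤ g ⁻¹ᵁ W) :
    IsAffineOpen (g' ⁻¹ᵁ V ⊓ f' ⁻¹ᵁ W') ∧
      IsPushout (f.appLE W V eV) (g.appLE W W' eW)
        (g'.appLE V (g' ⁻¹ᵁ V ⊓ f' ⁻¹ᵁ W') inf_le_left)
        (f'.appLE W' (g' ⁻¹ᵁ V ⊓ f' ⁻¹ᵁ W') inf_le_right) := by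
  have hpb := Scheme.Hom.isPullback_resLE hc (UT := W') eW eV (UY := g' ⁻¹ᵁ V ⊓ f' ⁻¹ᵁ W') rfl
  haveI : IsAffine W.toScheme := hW
  haveI : IsAffine V.toScheme := hV
  haveI : IsAffine W'.toScheme := hW'
  have hU : IsAffineOpen (g' ⁻¹ᵁ V ⊓ f' ⁻¹ᵁ W') := IsAffine.of_isPullback hpb
  haveI : IsAffine (g' ⁻¹ᵁ V ⊓ f' ⁻¹ᵁ W').toScheme := hU
  refine ⟨hU, (isPushout_appTop_of_isPullback hpb).of_iso W.topIso V.topIso W'.topIso
    (g' ⁻¹ᵁ V ⊓ f' ⁻¹ᵁ W').topIso ?_ ?_ ?_ ?_⟩ <;>
  simp only [Scheme.Hom.appTop, Scheme.Hom.resLE_app_top, Category.assoc, Iso.inv_hom_id, Category.comp_id]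

/-- The ideal of functions on an affine open with non-vanishing locus inside `U`. -/
noncomputable def offIdeal {X : Scheme.{u}} {V : X.Opens} (hV : IsAffineOpen V) (U : X.Opens) : Ideal Γ(X, V) :=
  ⨅ (z : V) (_ : z.1 ∉ U), (hV.primeIdealOf z).asIdeal

lemma basicOpen_le_of_mem_offIdeal {X : Scheme.{u}} {V : X.Opens} (hV : IsAffineOpen V)
    (U : X.Opens) {b : Γ(X, V)} (hb : b ∈ offIdeal hV U) : X.basicOpen b ≤ U := by
  intro x hx
  by_contra hxU
  have hxV : x ∈ V := X.basicOpen_le b hx
  have h1 : b ∈ (hV.primeIdealOf ⟨x, hxV⟩).asIdeal :=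
    (Submodule.mem_iInf _).mp ((Submodule.mem_iInf _).mp hb ⟨x, hxV⟩) hxU
  have h2 : hV.primeIdealOf ⟨x, hxV⟩ ∈ PrimeSpectrum.basicOpen b := by
    rw [← hV.fromSpec_preimage_basicOpen]
    show hV.fromSpec (hV.primeIdealOf ⟨x, hxV⟩) ∈ X.basicOpen b
    rw [hV.fromSpec_primeIdealOf]
    exact hx
  exact h2 h1

lemma mem_offIdeal_of_basicOpen_le {X : Scheme.{u}} {V : X.Opens} (hV : IsAffineOpen V)
    (U : X.Opens) {b : Γ(X, V)} (hb : X.basicOpen b ≤ U) : b ∈ offIdeal hV U := by
  refine (Submodule.mem_iInf _).mpr fun z => (Submodule.mem_iInf _).mpr fun hz => ?_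
  by_contra hn
  refine hz (hb ?_)
  have h2 : hV.primeIdealOf z ∈ PrimeSpectrum.basicOpen b := hn
  rw [← hV.fromSpec_preimage_basicOpen] at h2
  have h3 : hV.fromSpec (hV.primeIdealOf z) ∈ X.basicOpen b := h2
  rwa [hV.fromSpec_primeIdealOf] at h3

/-- On the fibre: a module element killed by the ideal of the complement is zero. -/
theorem eq_zero_of_killed {X S : Scheme.{u}} (f : X ⟶ S) (F : X.Modules) [Coh.IsQCoh F]
    (U : X.Opens) {W : S.Opens} (hW : IsAffineOpen W) {V : X.Opens} (hV : IsAffineOpen V)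
    (eV : V ≤ f ⁻¹ᵁ W) (x : V)
    (hfib : RestrInj ((Scheme.Modules.pullback (f.fiberι (f x.1))).obj F) ((f.fiberι (f x.1)) ⁻¹ᵁ U)) :
    letI := (f.appLE W V eV).hom.toAlgebra
    letI := Module.compHom Γ(F, V) (f.appLE W V eV).hom
    haveI : IsScalarTower Γ(S, W) Γ(X, V) Γ(F, V) := IsScalarTower.of_algebraMap_smul fun _ _ => rfl
    ∀ y : Γ(F, V) ⊗[Γ(S, W)]
        ((hV.primeIdealOf x).asIdeal.comap (algebraMap Γ(S, W) Γ(X, V))).ResidueField,
      (∀ b ∈ offIdeal hV U, b • y = 0) → y = 0 := by
  letI algB : Algebra Γ(S, W) Γ(X, V) := (f.appLE W V eV).hom.toAlgebra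
  letI modA := Module.compHom Γ(F, V) (f.appLE W V eV).hom
  haveI : IsScalarTower Γ(S, W) Γ(X, V) Γ(F, V) := IsScalarTower.of_algebraMap_smul fun _ _ => rfl
  intro y hy
  let A := Γ(S, W)
  let B := Γ(X, V)
  let M := Γ(F, V)
  let p : Ideal A := (hV.primeIdealOf x).asIdeal.comap (algebraMap A B)
  let s := f x.1
  let Sκ := Spec (S.residueField s)
  let gs : Sκ ⟶ S := S.fromSpecResidueField s
  have hc : IsPullback (f.fiberι s) (f.fiberToSpecResidueField s) f gs := IsPullback.of_hasPullback _ _
  have eW : (⊤ : Sκ.Opens) ≤ gs ⁻¹ᵁ W := fun z _ => by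
    show gs z ∈ W
    rw [show gs z = s from Scheme.fromSpecResidueField_apply _ _]
    exact eV x.2
  have hW' : IsAffineOpen (⊤ : Sκ.Opens) := isAffineOpen_top _
  obtain ⟨hU'', hpush⟩ := affine_square hc hW hV hW' eV eW
  let U'' := (f.fiberι s) ⁻¹ᵁ V ⊓ (f.fiberToSpecResidueField s) ⁻¹ᵁ ⊤
  let K := Γ(Sκ, ⊤)
  let T := Γ(f.fiber s, U'')
  letI algK : Algebra A K := (gs.appLE W ⊤ eW).hom.toAlgebra
  letI algBT : Algebra B T := ((f.fiberι s).appLE V U'' inf_le_left).hom.toAlgebra
  letI algKT : Algebra K T := ((f.fiberToSpecResidueField s).appLE ⊤ U'' inf_le_right).hom.toAlgebra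
  letI algAT : Algebra A T := ((algebraMap B T).comp (algebraMap A B)).toAlgebra
  haveI : IsScalarTower A B T := IsScalarTower.of_algebraMap_eq fun _ => rfl
  haveI : IsScalarTower A K T := IsScalarTower.of_algebraMap_eq fun a => congr($(hpush.w).hom a)
  haveI hP : Algebra.IsPushout A K B T :=
    (CommRingCat.isPushout_iff_isPushout.mp hpush).symm
  have hKf : IsField K :=
    MulEquiv.isField (Field.toIsField (S.residueField s))
      (Scheme.ΓSpecIso (S.residueField s)).commRingCatIsoToRingEquiv.toMulEquiv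
  have hker : RingHom.ker (algebraMap A K) = p := by
    let z : (⊤ : Sκ.Opens) := ⟨IsLocalRing.closedPoint (S.residueField s), trivial⟩
    have h1 := IsAffineOpen.comap_primeIdealOf_appLE W hW ⊤ hW' eW z.2
    have h2 := IsAffineOpen.comap_primeIdealOf_appLE W hW V hV eV x.2
    have hz : gs z.1 = f x.1 := Scheme.fromSpecResidueField_apply _ _
    have hbot : (hW'.primeIdealOf z).asIdeal = ⊥ := by
      letI := hKf.toField
      exact (Ideal.eq_bot_or_top _).resolve_right (hW'.primeIdealOf z).isPrime.ne_top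
    have h3 : p = (hW.primeIdealOf ⟨f x.1, eV x.2⟩).asIdeal := congrArg PrimeSpectrum.asIdeal h2
    have h4 : RingHom.ker (algebraMap A K) = (hW.primeIdealOf ⟨gs z.1, eW z.2⟩).asIdeal := by
      rw [← congrArg PrimeSpectrum.asIdeal h1]
      show _ = Ideal.comap (algebraMap A K) (hW'.primeIdealOf z).asIdeal
      rw [hbot]
      rfl
    rw [h3, h4]
    congr 3
  letI : Field K := hKf.toField
  let e : p.ResidueField →ₐ[A] K := Ideal.ResidueField.liftₐ p (Algebra.ofId A K) hker.ge
    (fun a ha => IsUnit.mk0 _ fun h => ha (hker.le (RingHom.mem_ker.mpr h)))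
  letI := e.toRingHom.toAlgebra
  haveI : IsScalarTower A p.ResidueField K :=
    IsScalarTower.of_algebraMap_eq fun r => (e.commutes r).symm
  haveI : Coh.IsQCoh ((Scheme.Modules.pullback (f.fiberι s)).obj F) :=
    Groth.L16.AffineBC.isQCoh_pullback _ F
  let F' := (Scheme.Modules.pullback (f.fiberι s)).obj F
  letI modBT := Module.compHom Γ(F', U'') ((f.fiberι s).appLE V U'' inf_le_left).hom
  haveI : IsScalarTower B T Γ(F', U'') := IsScalarTower.of_algebraMap_smul fun _ _ => rfl
  have hbc := Groth.L16.AffineBC.isBaseChange_pull (f.fiberι s) F hV hU''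
    (inf_le_left : U'' ≤ (f.fiberι s) ⁻¹ᵁ V)
  let c := Algebra.IsPushout.cancelBaseChange A K B T M
  -- the comparison map
  let ν : M ⊗[A] p.ResidueField → Γ(F', U'') := fun y =>
    hbc.equiv (c.symm ((e.toLinearMap.rTensor M) (TensorProduct.comm A M p.ResidueField y)))
  have hν : Function.Injective ν := by
    refine hbc.equiv.injective.comp (c.symm.injective.comp (Function.Injective.comp ?_
      (TensorProduct.comm A M p.ResidueField).injective))
    have h1 : ∀ w : p.ResidueField ⊗[A] M, e.toLinearMap.rTensor M w =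
        TensorProduct.AlgebraTensorModule.cancelBaseChange A p.ResidueField p.ResidueField K M
          ((1 : K) ⊗ₜ w) := by
      intro w
      induction w with
      | zero => simp
      | tmul a m => simp [Algebra.smul_def, RingHom.algebraMap_toAlgebra]
      | add a b ha hb => simp only [map_add, TensorProduct.tmul_add, ha, hb]
    intro a b hab
    rw [h1, h1] at hab
    exact Module.FaithfullyFlat.tensorProduct_mk_injective (A := p.ResidueField) (B := K)
      (p.ResidueField ⊗[A] M)
      ((TensorProduct.AlgebraTensorModule.cancelBaseChange A p.ResidueField p.ResidueField K M).injective hab)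
  have hν0 : ν 0 = 0 := by
    simp only [ν, map_zero]
  have hνadd : ∀ a b, ν (a + b) = ν a + ν b := fun a b => by
    simp only [ν, map_add]
  have hνtmul : ∀ m c', ν (m ⊗ₜ c') = algebraMap K T (e c') •
      Groth.L16.AffineBC.pullRes (f.fiberι s) F (inf_le_left : U'' ≤ (f.fiberι s) ⁻¹ᵁ V) m := by
    intro m c'
    simp only [ν, TensorProduct.comm_tmul, LinearMap.rTensor_tmul, AlgHom.toLinearMap_apply, c]
    rw [Algebra.IsPushout.cancelBaseChange_symm_tmul, IsBaseChange.equiv_tmul]
  have hνsmul : ∀ (b : B) y, ν (b • y) = algebraMap B T b • ν y := by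
    intro b y
    induction y with
    | zero => rw [smul_zero, hν0, smul_zero]
    | tmul m c' =>
      rw [TensorProduct.smul_tmul', hνtmul, hνtmul, map_smul, ← algebraMap_smul T b, smul_comm]
    | add a b ha hb => rw [smul_add, hνadd, hνadd, ha, hb, smul_add]
  refine hν ((hfib.eq_zero (ν y) ?_).trans hν0.symm)
  -- `ν y` vanishes off the complement
  let F'' := F'.presheaf
  refine TopCat.Presheaf.section_ext
    (⟨F'.presheaf, F'.isSheaf⟩ : TopCat.Sheaf Ab (f.fiber s).toTopCat) _ _ _ fun w hw => ?_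
  obtain ⟨b, hbU, hwb⟩ := hV.exists_basicOpen_le (V := V ⊓ U)
    ⟨f.fiberι s w, hw.1.1, hw.2⟩ hw.1.1
  have hb : b ∈ offIdeal hV U := mem_offIdeal_of_basicOpen_le hV U (hbU.trans inf_le_right)
  have h1 : algebraMap B T b • ν y = 0 := by rw [← hνsmul, hy b hb, hν0]
  show F'.presheaf.germ _ w hw (rs F' inf_le_left (ν y)) = F'.presheaf.germ _ w hw 0
  rw [map_zero, germ_rs]
  have h2 := congrArg (F'.presheaf.germ U'' w hw.1) h1
  rw [germ_smul, map_zero] at h2
  have hu : IsUnit ((f.fiber s).presheaf.germ U'' w hw.1 (algebraMap B T b)) := by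
    have hwb' : w ∈ (f.fiber s).basicOpen (algebraMap B T b) := by
      show w ∈ (f.fiber s).basicOpen ((f.fiberι s).appLE V U'' inf_le_left b)
      rw [Scheme.Hom.appLE, CommRingCat.comp_apply, Scheme.basicOpen_res,
        ← Scheme.preimage_basicOpen]
      exact ⟨hw.1, hwb⟩
    exact ((f.fiber s).mem_basicOpen _ w hw.1).mp hwb'
  exact hu.smul_eq_zero.mp h2

/-- **EGA IV 11.10.10**: universal injectivity of restriction from fibrewise injectivity. -/
theorem restrInj_baseChange {X S S' : Scheme.{u}} (f : X ⟶ S) [LocallyOfFinitePresentation f]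
    (F : X.Modules) [Coh.IsQCoh F] (hF : CohB1.IsFP F) (hflat : FlatMod.IsFlatOver f F)
    (U : X.Opens)
    (hfib : ∀ s : S, RestrInj ((Scheme.Modules.pullback (f.fiberι s)).obj F) ((f.fiberι s) ⁻¹ᵁ U))
    (g : S' ⟶ S) :
    RestrInj ((Scheme.Modules.pullback (pullback.fst f g)).obj F) ((pullback.fst f g) ⁻¹ᵁ U) := by
  intro V₀
  rw [injective_iff_map_eq_zero]
  intro σ hσ
  let F' := (Scheme.Modules.pullback (pullback.fst f g)).obj F
  haveI : Coh.IsQCoh F' := Groth.L16.AffineBC.isQCoh_pullback _ F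
  refine TopCat.Presheaf.section_ext
    (⟨F'.presheaf, F'.isSheaf⟩ : TopCat.Sheaf Ab (pullback f g).toTopCat) _ _ _ fun x' hx' => ?_
  show F'.presheaf.germ V₀ x' hx' σ = F'.presheaf.germ V₀ x' hx' 0
  rw [map_zero]
  by_cases hxU : x' ∈ (pullback.fst f g) ⁻¹ᵁ U
  · have hmem : x' ∈ V₀ ⊓ (pullback.fst f g) ⁻¹ᵁ U := ⟨hx', hxU⟩
    have h := congrArg (F'.presheaf.germ (V₀ ⊓ (pullback.fst f g) ⁻¹ᵁ U) x' hmem) hσ
    rw [map_zero] at h
    rw [← h]
    exact (TopCat.Presheaf.germ_res_apply F'.presheaf _ x' hmem σ).symm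
  obtain ⟨W, V, W', U'', eV, eW, eU, eU', hW, hV, hW', hU'', hxU'', hpush⟩ :=
    Groth.L20.ModStalk.exists_affine_square (IsPullback.of_hasPullback f g) x'
  let x : V := ⟨pullback.fst f g x', eU hxU''⟩
  let A := Γ(S, W)
  let B := Γ(X, V)
  let M := Γ(F, V)
  let A' := Γ(S', W')
  let T := Γ(pullback f g, U'')
  let R' := (pullback f g).presheaf.stalk x'
  letI algB : Algebra A B := (f.appLE W V eV).hom.toAlgebra
  letI modA : Module A M := Module.compHom Γ(F, V) (f.appLE W V eV).hom
  haveI : IsScalarTower A B M := IsScalarTower.of_algebraMap_smul fun _ _ => rfl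
  haveI : Algebra.FinitePresentation A B := f.finitePresentation_appLE hW hV eV
  haveI : Module.FinitePresentation B M := Groth.L20.ModStalk.finitePresentation_sections F hF hV
  let q : Ideal B := (hV.primeIdealOf x).asIdeal
  let p : Ideal A := q.comap (algebraMap A B)
  -- a regular element on the fibre
  have hkill := eq_zero_of_killed f F U hW hV eV x (hfib _)
  let C := B ⊗[A] p.ResidueField
  haveI : Algebra.FiniteType p.ResidueField (p.ResidueField ⊗[A] B) := inferInstance
  haveI : IsNoetherianRing (p.ResidueField ⊗[A] B) :=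
    Algebra.FiniteType.isNoetherianRing p.ResidueField _
  haveI : IsNoetherianRing C :=
    isNoetherianRing_of_ringEquiv _ (Algebra.TensorProduct.comm A p.ResidueField B).toRingEquiv
  let eN : C ⊗[B] M ≃ₗ[B] M ⊗[A] p.ResidueField :=
    (TensorProduct.comm B C M) ≪≫ₗ
      TensorProduct.AlgebraTensorModule.cancelBaseChange A B B M p.ResidueField
  obtain ⟨γ, hγI, hγ⟩ := exists_mem_isSMulRegular C (C ⊗[B] M) (offIdeal hV U) fun y hy =>
    eN.injective (by rw [map_zero]; exact hkill (eN y) fun b hb => by rw [← map_smul, hy b hb, map_zero])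
  have hγ' : IsSMulRegular (M ⊗[A] p.ResidueField) γ := fun a b hab =>
    eN.symm.injective (hγ (by
      show γ • eN.symm a = γ • eN.symm b
      rw [← map_smul, ← map_smul]
      exact congrArg eN.symm hab))
  have hγq : γ ∈ q := (Submodule.mem_iInf _).mp ((Submodule.mem_iInf _).mp hγI x) hxU
  have hflatq : Module.Flat A (LocalizedModule q.primeCompl M) :=
    (Groth.L20.ModStalk.isFlatOverAt_iff f F hW hV eV x.2).mp (hflat x.1)
  obtain ⟨h1, h2⟩ := Groth.L07.FibreRegular.isSMulRegular_and_flat (A := A) M q γ hγq hflatq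
    (isSMulRegular_localizedModule _ q.primeCompl γ hγ')
  -- the stalk upstairs
  letI algA' : Algebra A A' := (g.appLE W W' eW).hom.toAlgebra
  letI algBT : Algebra B T := ((pullback.fst f g).appLE V U'' eU).hom.toAlgebra
  letI algA'T : Algebra A' T := ((pullback.snd f g).appLE W' U'' eU').hom.toAlgebra
  letI algAT : Algebra A T := ((algebraMap B T).comp (algebraMap A B)).toAlgebra
  haveI : IsScalarTower A B T := IsScalarTower.of_algebraMap_eq fun _ => rfl
  haveI : IsScalarTower A A' T := IsScalarTower.of_algebraMap_eq fun a => congr($(hpush.w).hom a)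
  haveI hP : Algebra.IsPushout A A' B T :=
    (CommRingCat.isPushout_iff_isPushout.mp hpush).symm
  letI := (pullback f g).presheaf.algebra_section_stalk ⟨x', hxU''⟩
  haveI := hU''.isLocalization_stalk ⟨x', hxU''⟩
  haveI : Module.Flat T R' := IsLocalization.flat R' (hU''.primeIdealOf ⟨x', hxU''⟩).asIdeal.primeCompl
  letI algBR : Algebra B R' :=
    (((pullback f g).presheaf.germ U'' x' hxU'').hom.comp ((pullback.fst f g).appLE V U'' eU).hom).toAlgebra
  haveI : IsScalarTower B T R' := IsScalarTower.of_algebraMap_eq fun _ => rfl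
  have hunit : ∀ b : q.primeCompl, IsUnit (algebraMap B R' b) := by
    intro b
    have hmem : pullback.fst f g x' ∈ X.basicOpen (b : B) := by
      have h3 : hV.primeIdealOf x ∈ PrimeSpectrum.basicOpen (b : B) := b.2
      rw [← hV.fromSpec_preimage_basicOpen] at h3
      have h4 : hV.fromSpec (hV.primeIdealOf x) ∈ X.basicOpen (b : B) := h3
      rwa [hV.fromSpec_primeIdealOf] at h4
    have hwb' : x' ∈ (pullback f g).basicOpen (algebraMap B T b) := by
      show x' ∈ (pullback f g).basicOpen ((pullback.fst f g).appLE V U'' eU b)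
      rw [Scheme.Hom.appLE, CommRingCat.comp_apply, Scheme.basicOpen_res,
        ← Scheme.preimage_basicOpen]
      exact ⟨hxU'', hmem⟩
    exact ((pullback f g).mem_basicOpen _ x' hxU'').mp hwb'
  have hreg := isSMulRegular_tensor_of_flat M q γ h1 h2 A' T R' hunit
  letI modBF : Module B (F'.presheaf.stalk x') :=
    Module.compHom _ (((pullback f g).presheaf.germ U'' x' hxU'').hom.comp
      ((pullback.fst f g).appLE V U'' eU).hom)
  haveI : IsScalarTower B R' (F'.presheaf.stalk x') := IsScalarTower.of_algebraMap_smul fun _ _ => rfl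
  letI modBT := Module.compHom Γ(F', U'') ((pullback.fst f g).appLE V U'' eU).hom
  let gG : M →ₗ[B] F'.presheaf.stalk x' :=
    { toFun := fun m => F'.presheaf.germ U'' x' hxU''
        (Groth.L16.AffineBC.pullRes (pullback.fst f g) F eU m)
      map_add' := fun a b => by rw [map_add, map_add]
      map_smul' := fun b m => by
        rw [map_smul]
        exact germ_smul F' hxU'' _ _ }
  have hbc := Groth.L16.AffineBC.isBaseChange_germ_pull (pullback.fst f g) F hV eU hxU'' gG
    (fun m => rfl)
  -- the germ is killed by a power of `γ`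
  obtain ⟨bT, hbT, hxbT⟩ := hU''.exists_basicOpen_le (V := U'' ⊓ V₀) ⟨x', hxU'', hx'⟩ hxU''
  let W₂ := (pullback f g).basicOpen bT
  have hW₂ : IsAffineOpen W₂ := hU''.basicOpen bT
  let gγ : Γ(pullback f g, W₂) :=
    (pullback f g).presheaf.map (homOfLE (hbT.trans inf_le_left)).op (algebraMap B T γ)
  let σ₂ := rs F' (hbT.trans inf_le_right) σ
  have hσ₂ : rs F' ((pullback f g).basicOpen_le gγ) σ₂ = 0 := by
    have hle : (pullback f g).basicOpen gγ ≤ V₀ ⊓ (pullback.fst f g) ⁻¹ᵁ U := by
      refine le_inf (((pullback f g).basicOpen_le gγ).trans (hbT.trans inf_le_right)) ?_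
      show (pullback f g).basicOpen ((pullback f g).presheaf.map (homOfLE (hbT.trans inf_le_left)).op
        ((pullback.fst f g).appLE V U'' eU γ)) ≤ _
      rw [Scheme.basicOpen_res, Scheme.Hom.appLE, CommRingCat.comp_apply, Scheme.basicOpen_res,
        ← Scheme.preimage_basicOpen]
      exact inf_le_right.trans (inf_le_right.trans
        ((pullback.fst f g).preimage_mono (basicOpen_le_of_mem_offIdeal hV U hγI)))
    show rs F' _ (rs F' _ σ) = 0
    rw [Groth.L18.Frame.rs_rs]
    have : rs F' (inf_le_left : V₀ ⊓ (pullback.fst f g) ⁻¹ᵁ U ≤ V₀) σ = 0 := hσ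
    rw [← Groth.L18.Frame.rs_rs F' inf_le_left hle σ, this]
    exact map_zero _
  obtain ⟨n, hn⟩ := Groth.L16.QCohSect.exists_pow_smul_eq_zero hW₂ F' gγ σ₂ hσ₂
  have hn' := congrArg (F'.presheaf.germ W₂ x' hxbT) hn
  rw [germ_smul, map_zero, map_pow] at hn'
  simp only [σ₂, germ_rs] at hn'
  have hgerm : ((pullback f g).presheaf.germ W₂ x' hxbT).hom gγ = algebraMap B R' γ :=
    TopCat.Presheaf.germ_res_apply (pullback f g).presheaf _ x' hxbT _
  rw [hgerm, ← map_pow, algebraMap_smul] at hn'
  have hregF : IsSMulRegular (F'.presheaf.stalk x') γ := by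
    intro a b hab
    apply hbc.equiv.symm.injective
    apply hreg
    have hlin : ∀ z, hbc.equiv.symm (γ • z) = γ • hbc.equiv.symm z := fun z => by
      rw [← algebraMap_smul R' γ z, map_smul, algebraMap_smul]
    show γ • hbc.equiv.symm a = γ • hbc.equiv.symm b
    rw [← hlin, ← hlin]
    exact congrArg _ hab
  exact (hregF.pow n) (by simpa using hn')

end Scheme

end Groth.L02.SchDom
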