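import Groth.Agent.L02.SchDom.Field
import Mathlib.RingTheory.LocalRing.ResidueField.Ideal
import Mathlib.RingTheory.Filtration
import Mathlib.RingTheory.Ideal.Maps
import Mathlib.RingTheory.Nilpotent.Basic
import Mathlib.RingTheory.LocalRing.ResidueField.Instances

/-!
# Fibrewise criterion for separating families (EGA IV 11.10.9)
-/

universe u v w

namespace Groth.L02.SchDom

open TensorProduct

section Filtration

variable {R : Type u} [CommRing R] (J : Ideal R) {M : Type u} [AddCommGroup M] [Module R M]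
  {ι : Type w} {N : ι → Type u} [∀ j, AddCommGroup (N j)] [∀ j, Module R (N j)]
  [∀ j, Module.Flat R (N j)] (h : M →ₗ[R] M) (k : ∀ j, N j →ₗ[R] N j) (φ : ∀ j, M →ₗ[R] N j)

/-- One step of the `J`-adic dévissage. -/
lemma smul_top_step (hcomp : ∀ j x, φ j (h x) = k j (φ j x)) (n : ℕ)
    [Module.Projective (R ⧸ J) ((R ⧸ J) ⊗[R] ↥(J ^ n))]
    (H : ∀ y : (R ⧸ J) ⊗[R] M,
      (∀ j, ∃ m : ℕ, (k j ^ m).baseChange (R ⧸ J) ((φ j).baseChange (R ⧸ J) y) = 0) →
      ∃ m : ℕ, (h ^ m).baseChange (R ⧸ J) y = 0)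
    (u : M) (hu : u ∈ (J ^ n) • (⊤ : Submodule R M))
    (hφ : ∀ j, ∃ m : ℕ, (k j ^ m) (φ j u) = 0) :
    ∃ m : ℕ, (h ^ m) u ∈ (J ^ (n + 1)) • (⊤ : Submodule R M) := by
  let I := J ^ n
  let G := (R ⧸ J) ⊗[R] ↥I
  let μ : ∀ (P : Type u) [AddCommGroup P] [Module R P], ↥I ⊗[R] P →ₗ[R] P := fun P _ _ =>
    (TensorProduct.lid R P).toLinearMap ∘ₗ I.subtype.rTensor P
  have hμ : ∀ {P Q : Type u} [AddCommGroup P] [Module R P] [AddCommGroup Q] [Module R Q]
      (f : P →ₗ[R] Q) (w : ↥I ⊗[R] P), μ Q (f.lTensor I w) = f (μ P w) := by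
    intro P Q _ _ _ _ f w
    induction w with
    | zero => simp
    | tmul a p => simp [μ]
    | add a b ha hb => simp only [map_add, ha, hb]
  obtain ⟨w, rfl⟩ : ∃ w, μ M w = u := by
    refine Submodule.smul_induction_on hu (fun a ha m _ => ⟨⟨a, ha⟩ ⊗ₜ m, by simp [μ]⟩) ?_
    rintro x y ⟨a, rfl⟩ ⟨b, rfl⟩
    exact ⟨a + b, map_add _ _ _⟩
  have hinj : ∀ j, Function.Injective (μ (N j)) := fun j =>
    (TensorProduct.lid R (N j)).injective.comp
      (Module.Flat.rTensor_preserves_injective_linearMap I.subtype Subtype.val_injective)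
  have hw : ∀ j, ∃ m : ℕ, (k j ^ m).lTensor I ((φ j).lTensor I w) = 0 := fun j => by
    obtain ⟨m, hm⟩ := hφ j
    exact ⟨m, hinj j (by rw [hμ, hμ, hm, map_zero])⟩
  have Hsep : LSep (M := (R ⧸ J) ⊗[R] M) (N := fun j => (R ⧸ J) ⊗[R] N j)
      (h.baseChange (R ⧸ J)) (fun j => (k j).baseChange (R ⧸ J))
      (fun j => (φ j).baseChange (R ⧸ J)) := by
    intro y hy
    obtain ⟨m, hm⟩ := H y fun j => by
      obtain ⟨m, hm⟩ := hy j
      exact ⟨m, by rw [LinearMap.baseChange_pow]; exact hm⟩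
    exact ⟨m, by rw [← LinearMap.baseChange_pow]; exact hm⟩
  have hG := Hsep.lTensor_projective G
  let Φ : ∀ (P : Type u) [AddCommGroup P] [Module R P],
      ↥I ⊗[R] P →ₗ[R] G ⊗[R ⧸ J] ((R ⧸ J) ⊗[R] P) := fun P _ _ =>
    ((TensorProduct.AlgebraTensorModule.cancelBaseChange R (R ⧸ J) (R ⧸ J) G P).symm.toLinearMap.restrictScalars R)
      ∘ₗ (TensorProduct.mk R (R ⧸ J) I 1).rTensor P
  have hΦ : ∀ {P Q : Type u} [AddCommGroup P] [Module R P] [AddCommGroup Q] [Module R Q]
      (f : P →ₗ[R] Q) (v : ↥I ⊗[R] P),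
      (f.baseChange (R ⧸ J)).lTensor G (Φ P v) = Φ Q (f.lTensor I v) := by
    intro P Q _ _ _ _ f v
    induction v with
    | zero => simp
    | tmul a p => simp [Φ]
    | add a b ha hb => simp only [map_add, ha, hb]
  obtain ⟨m, hm⟩ := hG (Φ M w) fun j => by
    obtain ⟨m, hm⟩ := hw j
    refine ⟨m, ?_⟩
    rw [← lTensor_pow_apply, ← LinearMap.baseChange_pow, hΦ, hΦ, hm, map_zero]
  refine ⟨m, ?_⟩
  rw [← lTensor_pow_apply, ← LinearMap.baseChange_pow, hΦ] at hm
  rw [← hμ]
  let v := (h ^ m).lTensor I w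
  have h1 : (TensorProduct.mk R (R ⧸ J) I 1).rTensor M v = 0 := by
    have := congrArg (TensorProduct.AlgebraTensorModule.cancelBaseChange R (R ⧸ J) (R ⧸ J) G M) hm
    simpa [Φ, v] using this
  have h2 : (1 : R ⧸ J) ⊗ₜ[R] v = 0 := by
    have hassoc : ∀ v : ↥I ⊗[R] M, TensorProduct.assoc R (R ⧸ J) I M
        ((TensorProduct.mk R (R ⧸ J) I 1).rTensor M v) = (1 : R ⧸ J) ⊗ₜ v := by
      intro v
      induction v with
      | zero => simp
      | tmul r n => simp
      | add a b ha hb => simp only [map_add, ha, hb, TensorProduct.tmul_add]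
    rw [← hassoc, h1, map_zero]
  have h3 : v ∈ J • (⊤ : Submodule R (↥I ⊗[R] M)) := by
    rw [← Submodule.Quotient.mk_eq_zero]
    have := congrArg (TensorProduct.quotTensorEquivQuotSMul (↥I ⊗[R] M) J) h2
    rw [map_zero] at this
    rw [← this]
    erw [TensorProduct.quotTensorEquivQuotSMul_mk_tmul]
    simp
  have hrange : ∀ z : ↥I ⊗[R] M, μ M z ∈ I • (⊤ : Submodule R M) := by
    intro z
    induction z with
    | zero => simp
    | tmul a p => simpa [μ] using Submodule.smul_mem_smul a.2 (Submodule.mem_top (x := p))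
    | add a b ha hb => rw [map_add]; exact add_mem ha hb
  refine Submodule.smul_induction_on (p := fun z => μ M z ∈ J ^ (n + 1) • ⊤) h3 (fun a ha z _ => ?_) fun x y hx hy => ?_
  · rw [map_smul, pow_succ', mul_smul]
    exact Submodule.smul_mem_smul ha (hrange z)
  · rw [map_add]; exact add_mem hx hy

/-- Iterated dévissage: up to powers of `h`, the kernel lies in every power of `J`. -/
lemma mem_pow_smul_top (hcomp : ∀ j x, φ j (h x) = k j (φ j x))
    (hproj : ∀ n, Module.Projective (R ⧸ J) ((R ⧸ J) ⊗[R] ↥(J ^ n)))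
    (H : ∀ y : (R ⧸ J) ⊗[R] M,
      (∀ j, ∃ m : ℕ, (k j ^ m).baseChange (R ⧸ J) ((φ j).baseChange (R ⧸ J) y) = 0) →
      ∃ m : ℕ, (h ^ m).baseChange (R ⧸ J) y = 0)
    (u : M) (hφ : ∀ j, ∃ m : ℕ, (k j ^ m) (φ j u) = 0) (n : ℕ) :
    ∃ m : ℕ, (h ^ m) u ∈ (J ^ n) • (⊤ : Submodule R M) := by
  induction n with
  | zero => exact ⟨0, by simp⟩
  | succ n ih =>
    obtain ⟨m, hm⟩ := ih
    haveI := hproj n
    have hpow : ∀ (m : ℕ) j x, φ j ((h ^ m) x) = (k j ^ m) (φ j x) := by
      intro m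
      induction m with
      | zero => simp
      | succ m ihm => intro j x; rw [pow_succ', pow_succ', Module.End.mul_apply,
          Module.End.mul_apply, hcomp, ihm]
    obtain ⟨m', hm'⟩ := smul_top_step J h k φ hcomp n H _ hm fun j => by
      obtain ⟨l, hl⟩ := hφ j
      refine ⟨l, ?_⟩
      rw [hpow, ← Module.End.mul_apply, ← pow_add, add_comm, pow_add, Module.End.mul_apply, hl,
        map_zero]
    exact ⟨m' + m, by rwa [pow_add h, Module.End.mul_apply]⟩

end Filtration

section Absolute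

variable {A B : Type u} [CommRing A] [CommRing B] [Algebra A B] {ι : Type w} {C : ι → Type u}
  [∀ j, CommRing (C j)] [∀ j, Algebra A (C j)] (φ : ∀ j, B →ₐ[A] C j)

-- Fibrewise separation implies separation, for a Noetherian algebra and flat targets.
set_option maxSynthPendingDepth 3 in
set_option synthInstance.maxHeartbeats 200000 in
theorem LocSep.of_fibrewise [IsNoetherianRing B] [∀ j, Module.Flat A (C j)]
    (H : ∀ (p : Ideal A) [p.IsPrime], LocSep fun j =>
      (Algebra.TensorProduct.map (AlgHom.id A p.ResidueField) (φ j)).toRingHom) :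
    LocSep fun j => (φ j).toRingHom := by
  intro g x hx
  let I : Ideal B :=
    { carrier := {b | b * x = 0}
      add_mem' := fun {a b} ha hb => by
        simp only [Set.mem_setOf_eq] at ha hb ⊢; rw [add_mul, ha, hb, add_zero]
      zero_mem' := zero_mul x
      smul_mem' := fun c b hb => by
        simp only [Set.mem_setOf_eq, smul_eq_mul] at hb ⊢; rw [mul_assoc, hb, mul_zero] }
  suffices g ∈ I.radical from this
  rw [Ideal.radical_eq_sInf, Ideal.mem_sInf]
  rintro Q ⟨hIQ, hQ⟩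
  by_contra hgQ
  haveI := hQ
  let p := Q.under A
  let Ap := Localization.AtPrime p
  let BQ := Localization.AtPrime Q
  haveI : IsLocalRing BQ := inferInstance
  let lh : Ap →+* BQ := Localization.localRingHom p Q (algebraMap A B) rfl
  letI : Algebra Ap BQ := lh.toAlgebra
  haveI : IsScalarTower A Ap BQ := IsScalarTower.of_algebraMap_eq fun r => by
    rw [RingHom.algebraMap_toAlgebra, Localization.localRingHom_to_map,
      IsScalarTower.algebraMap_apply A B BQ]
  let χ : Ap ⊗[A] B →ₐ[Ap] BQ :=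
    Algebra.TensorProduct.lift (Algebra.ofId Ap BQ) (IsScalarTower.toAlgHom A B BQ)
      fun _ _ => Commute.all _ _
  have hχ : ∀ b : B, χ (1 ⊗ₜ b) = algebraMap B BQ b := fun b => by simp [χ]
  let J := IsLocalRing.maximalIdeal Ap
  have hproj : ∀ n, Module.Projective (Ap ⧸ J) ((Ap ⧸ J) ⊗[Ap] ↥(J ^ n)) := fun n =>
    @Module.Projective.of_free _ _ _ _ _ (by letI := Ideal.Quotient.field J; infer_instance)
  let e : Ap ⊗[A] B → Module.End Ap (Ap ⊗[A] B) := fun b => LinearMap.mulLeft Ap b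
  let ψ : ∀ j, Ap ⊗[A] B →ₐ[Ap] Ap ⊗[A] C j := fun j =>
    Algebra.TensorProduct.map (AlgHom.id Ap Ap) (φ j)
  let hh : Ap ⊗[A] B := 1 ⊗ₜ g
  have hsep := H p
  have Hy : ∀ y : (Ap ⧸ J) ⊗[Ap] (Ap ⊗[A] B),
      (∀ j, ∃ m : ℕ, ((LinearMap.mulLeft Ap (ψ j hh)) ^ m).baseChange (Ap ⧸ J)
        ((ψ j).toLinearMap.baseChange (Ap ⧸ J) y) = 0) →
      ∃ m : ℕ, ((LinearMap.mulLeft Ap hh) ^ m).baseChange (Ap ⧸ J) y = 0 := by
    intro y hy
    let eB : (Ap ⧸ J) ⊗[Ap] (Ap ⊗[A] B) ≃ₐ[Ap] p.ResidueField ⊗[A] B :=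
      Algebra.TensorProduct.cancelBaseChange A Ap Ap (Ap ⧸ J) B
    let eC : ∀ j, (Ap ⧸ J) ⊗[Ap] (Ap ⊗[A] C j) ≃ₐ[Ap] p.ResidueField ⊗[A] C j := fun j =>
      Algebra.TensorProduct.cancelBaseChange A Ap Ap (Ap ⧸ J) (C j)
    have hmulB : ∀ (m : ℕ) (z : (Ap ⧸ J) ⊗[Ap] (Ap ⊗[A] B)),
        ((LinearMap.mulLeft Ap hh) ^ m).baseChange (Ap ⧸ J) z = ((1 : Ap ⧸ J) ⊗ₜ hh) ^ m * z := by
      intro m z
      induction z with
      | zero => rw [map_zero]; exact (mul_zero _).symm
      | tmul a b => simp [LinearMap.pow_mulLeft]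
      | add a b ha hb => rw [map_add, ha, hb]; exact (mul_add _ _ _).symm
    have hmulC : ∀ j (m : ℕ) (z : (Ap ⧸ J) ⊗[Ap] (Ap ⊗[A] C j)),
        ((LinearMap.mulLeft Ap (ψ j hh)) ^ m).baseChange (Ap ⧸ J) z =
          ((1 : Ap ⧸ J) ⊗ₜ ψ j hh) ^ m * z := by
      intro j m z
      induction z with
      | zero => rw [map_zero]; exact (mul_zero _).symm
      | tmul a b => simp [LinearMap.pow_mulLeft]
      | add a b ha hb => rw [map_add, ha, hb]; exact (mul_add _ _ _).symm
    have hnat : ∀ j (z : (Ap ⧸ J) ⊗[Ap] (Ap ⊗[A] B)),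
        Algebra.TensorProduct.map (AlgHom.id A p.ResidueField) (φ j) (eB z) =
          eC j ((ψ j).toLinearMap.baseChange (Ap ⧸ J) z) := by
      intro j z
      induction z with
      | zero => simp
      | tmul a b =>
        induction b with
        | zero => simp
        | tmul r b => simp [eB, eC, ψ]; rfl
        | add b c hb hc => simp only [TensorProduct.tmul_add, map_add, hb, hc]
      | add a b ha hb => simp only [map_add, ha, hb]
    obtain ⟨m, hm⟩ := hsep (eB (1 ⊗ₜ hh)) (eB y) fun j => by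
      obtain ⟨m, hm⟩ := hy j
      refine ⟨m, ?_⟩
      change Algebra.TensorProduct.map (AlgHom.id A p.ResidueField) (φ j) _ = 0
      rw [map_mul, map_pow, hnat, hnat, LinearMap.baseChange_tmul]
      change eC j (1 ⊗ₜ ψ j hh) ^ m * _ = 0
      rw [← map_pow, ← map_mul, ← hmulC, hm, map_zero]
    refine ⟨m, eB.injective ?_⟩
    rw [hmulB, map_mul, map_pow, map_zero, hm]
  -- the image of `x` in `BQ` lies in every power of the maximal ideal
  have hmem : ∀ n, algebraMap B BQ x ∈ IsLocalRing.maximalIdeal BQ ^ n := by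
    intro n
    obtain ⟨m, hm⟩ := mem_pow_smul_top (R := Ap) J (M := Ap ⊗[A] B) (N := fun j => Ap ⊗[A] C j)
      (LinearMap.mulLeft Ap hh) (fun j => LinearMap.mulLeft Ap (ψ j hh))
      (fun j => (ψ j).toLinearMap)
      (fun j z => map_mul (ψ j) hh z) hproj Hy (1 ⊗ₜ x) (fun j => by
        obtain ⟨m, hm⟩ := hx j
        refine ⟨m, ?_⟩
        change φ j (g ^ m * x) = 0 at hm
        rw [LinearMap.pow_mulLeft]
        change ψ j hh ^ m * ψ j (1 ⊗ₜ x) = 0
        rw [← map_pow, ← map_mul]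
        have hmul : hh ^ m * (1 : Ap) ⊗ₜ[A] x =
            (Algebra.TensorProduct.includeRight : B →ₐ[A] Ap ⊗[A] B) (g ^ m * x) := by
          rw [map_mul, map_pow]; rfl
        rw [hmul]
        change ψ j ((1 : Ap) ⊗ₜ[A] (g ^ m * x)) = 0
        simp only [ψ]
        erw [Algebra.TensorProduct.map_tmul]
        rw [hm, TensorProduct.tmul_zero]) n
    have hmap : ∀ z ∈ (J ^ n) • (⊤ : Submodule Ap (Ap ⊗[A] B)),
        χ z ∈ IsLocalRing.maximalIdeal BQ ^ n := by
      intro z hz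
      refine Submodule.smul_induction_on hz (fun a ha b _ => ?_) fun a b ha hb => ?_
      · rw [map_smul, Algebra.smul_def]
        refine Ideal.mul_mem_right _ _ ?_
        have hle : J.map lh ≤ IsLocalRing.maximalIdeal BQ := by
          haveI : IsLocalHom lh := Localization.isLocalHom_localRingHom p Q _ rfl
          exact ((IsLocalRing.local_hom_TFAE lh).out 0 2 rfl rfl).mp ‹IsLocalHom lh›
        exact Ideal.pow_right_mono hle n (Ideal.map_pow lh J n ▸ Ideal.mem_map_of_mem _ ha)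
      · rw [map_add]; exact add_mem ha hb
    have h1 := hmap _ hm
    rw [LinearMap.pow_mulLeft] at h1
    change χ (hh ^ m * 1 ⊗ₜ x) ∈ _ at h1
    rw [map_mul, map_pow, hχ, hχ] at h1
    have hu : IsUnit (algebraMap B BQ g) := IsLocalization.map_units BQ (⟨g, hgQ⟩ : Q.primeCompl)
    obtain ⟨v, hv⟩ := hu.pow m
    have := Ideal.mul_mem_left _ (↑v⁻¹ : BQ) h1
    rwa [← mul_assoc, ← hv, Units.inv_mul, one_mul] at this
  have hzero : algebraMap B BQ x = 0 := by
    haveI : IsNoetherianRing BQ := IsLocalization.isNoetherianRing Q.primeCompl BQ inferInstance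
    have h2 : algebraMap B BQ x ∈ (⨅ n, IsLocalRing.maximalIdeal BQ ^ n : Ideal BQ) :=
      Ideal.mem_iInf.mpr hmem
    rwa [Ideal.iInf_pow_eq_bot_of_isLocalRing _ (IsLocalRing.maximalIdeal.isMaximal BQ).ne_top] at h2
  obtain ⟨⟨t, ht⟩, h3⟩ := (IsLocalization.map_eq_zero_iff Q.primeCompl BQ x).mp hzero
  exact ht (hIQ (show t ∈ I from h3))

/-- **EGA IV 11.10.9**: fibrewise separation implies universal separation. -/
theorem LocSep.baseChange_of_fibrewise [IsNoetherianRing B] [∀ j, Module.Flat A (C j)]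
    (H : ∀ (p : Ideal A) [p.IsPrime], LocSep fun j =>
      (Algebra.TensorProduct.map (AlgHom.id A p.ResidueField) (φ j)).toRingHom)
    (A' : Type u) [CommRing A'] [Algebra A A'] :
    LocSep fun j => (Algebra.TensorProduct.map (AlgHom.id A A') (φ j)).toRingHom := by
  refine LocSep.tensor_of_fg φ fun A₀ hfg => ?_
  haveI : Algebra.FiniteType A A₀ := (Subalgebra.fg_iff_finiteType A₀).mp hfg
  haveI : IsNoetherianRing (B ⊗[A] A₀) := Algebra.FiniteType.isNoetherianRing B (B ⊗[A] A₀)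
  haveI : IsNoetherianRing (A₀ ⊗[A] B) :=
    isNoetherianRing_of_ringEquiv _ (Algebra.TensorProduct.comm A B A₀).toRingEquiv
  let ψ : ∀ j, A₀ ⊗[A] B →ₐ[A₀] A₀ ⊗[A] C j := fun j =>
    Algebra.TensorProduct.map (AlgHom.id A₀ A₀) (φ j)
  suffices h : LocSep fun j => (ψ j).toRingHom by
    exact h
  refine LocSep.of_fibrewise ψ fun P _ => ?_
  let p := P.under A
  let f : p.ResidueField →+* P.ResidueField := Ideal.ResidueField.map p P (algebraMap A A₀) rfl
  letI : Algebra p.ResidueField P.ResidueField := f.toAlgebra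
  haveI : IsScalarTower A p.ResidueField P.ResidueField := IsScalarTower.of_algebraMap_eq fun r => by
    rw [RingHom.algebraMap_toAlgebra, Ideal.ResidueField.map_algebraMap,
      IsScalarTower.algebraMap_apply A A₀ P.ResidueField]
  let φk : ∀ j, p.ResidueField ⊗[A] B →ₐ[p.ResidueField] p.ResidueField ⊗[A] C j := fun j =>
    Algebra.TensorProduct.map (AlgHom.id p.ResidueField p.ResidueField) (φ j)
  have h1 := LocSep.field_baseChange φk (H p) P.ResidueField
  refine h1.of_equiv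
    ((Algebra.TensorProduct.cancelBaseChange A p.ResidueField p.ResidueField P.ResidueField B).toRingEquiv.trans
      (Algebra.TensorProduct.cancelBaseChange A A₀ A₀ P.ResidueField B).symm.toRingEquiv)
    (fun j =>
      (Algebra.TensorProduct.cancelBaseChange A p.ResidueField p.ResidueField P.ResidueField (C j)).toRingEquiv.trans
        (Algebra.TensorProduct.cancelBaseChange A A₀ A₀ P.ResidueField (C j)).symm.toRingEquiv)
    fun j z => ?_
  induction z with
  | zero => simp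
  | tmul a b =>
    induction b with
    | zero => simp
    | tmul r b => simp [φk, ψ]
    | add b c hb hc => simp only [TensorProduct.tmul_add, map_add, hb, hc]
  | add a b ha hb => simp only [map_add, ha, hb]

end Absolute

end Groth.L02.SchDom
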