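import Groth.Agent.L02.SchDom.BaseChange
import Groth.Agent.L02.SchDom.Fibrewise
import Mathlib.AlgebraicGeometry.ResidueField
import Mathlib.AlgebraicGeometry.Morphisms.Flat
import Mathlib.AlgebraicGeometry.Morphisms.FinitePresentation
import Mathlib.AlgebraicGeometry.Noetherian

/-!
# Schematically dominant families: EGA IV 11.10.5, 11.10.6, 11.10.9
-/

universe u

open CategoryTheory Limits AlgebraicGeometry TopologicalSpace
open TensorProduct

namespace Groth.L02.SchDom

variable {X S S' : Scheme.{u}} {ι : Type u} {Z : ι → Scheme.{u}} {f : ∀ i, Z i ⟶ X}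

section Members

variable (f) {U : X.Opens} (hU : IsAffineOpen U)

/-- The ring maps from an affine open to the affine opens of the members over it. -/
noncomputable def memberMap (j : Members f U) :
    Γ(X, U) →+* Γ(Z j.1, j.2.1.1) :=
  ((f j.1).appLE U j.2.1.1 j.2.2).hom

include hU in
lemma member_comm (j : Members f U) :
    j.2.1.2.fromSpec ≫ f j.1 = Spec.map (CommRingCat.ofHom (memberMap f j)) ≫ hU.fromSpec :=
  (hU.SpecMap_appLE_fromSpec (f j.1) j.2.1.2 j.2.2).symm

include hU in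
lemma member_cover (i : ι) (z : Z i) (hz : f i z ∈ Set.range hU.fromSpec.base) :
    ∃ (j : Members f U) (h : j.1 = i),
      z ∈ Set.range (j.2.1.2.fromSpec ≫ eqToHom (by rw [h])).base := by
  rw [hU.range_fromSpec] at hz
  exact members_cover f U i z hz

include hU in
theorem Dom.locSep (H : Dom f) : LocSep (memberMap f (U := U)) := by
  refine (dom_spec_iff (fun j : Members f U => CommRingCat.ofHom (memberMap f j))).mp ?_
  exact H.chart hU.fromSpec _ (fun j => j.1) (fun j => j.2.1.2.fromSpec) (member_comm f hU)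
    (member_cover f hU)

end Members

/-- **EGA IV 11.10.5 (ii) b)**. -/
theorem Dom.pullback_flat_lfp {X' : Scheme.{u}} (g : X' ⟶ X) [Flat g]
    [LocallyOfFinitePresentation g] (H : Dom f) : Dom (fun i => pullback.snd (f i) g) := by
  refine Dom.of_charts fun x' => ?_
  obtain ⟨U, hU, hxU, -⟩ := exists_isAffineOpen_mem_and_subset (U := (⊤ : X.Opens))
    (x := g x') (Opens.mem_top _)
  obtain ⟨U', hU', hxU', hle⟩ := exists_isAffineOpen_mem_and_subset (U := g ⁻¹ᵁ U) (x := x') hxU
  let B := Γ(X, U)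
  let B' := Γ(X', U')
  letI algB' : Algebra B B' := (g.appLE U U' hle).hom.toAlgebra
  haveI : Module.Flat B B' := HasRingHomProperty.appLE @Flat g ‹_› ⟨U, hU⟩ ⟨U', hU'⟩ hle
  haveI : Algebra.FinitePresentation B B' :=
    HasRingHomProperty.appLE @LocallyOfFinitePresentation g ‹_› ⟨U, hU⟩ ⟨U', hU'⟩ hle
  letI algC : ∀ j : Members f U, Algebra B Γ(Z j.1, j.2.1.1) := fun j => (memberMap f j).toAlgebra
  have hsep : LocSep fun j : Members f U => algebraMap B Γ(Z j.1, j.2.1.1) := H.locSep f hU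
  have hsq : hU'.fromSpec ≫ g = Spec.map (CommRingCat.ofHom (algebraMap B B')) ≫ hU.fromSpec :=
    (hU.SpecMap_appLE_fromSpec g hU' hle).symm
  refine ⟨_, hU'.fromSpec, Members f U,
    fun j => Spec (CommRingCat.of (Γ(Z j.1, j.2.1.1) ⊗[B] B')),
    fun j => Spec.map (CommRingCat.ofHom
      (Algebra.TensorProduct.includeRight (R := B) (A := Γ(Z j.1, j.2.1.1)) (B := B')).toRingHom),
    fun j => j.1,
    fun j => pullback.lift
      (Spec.map (CommRingCat.ofHom (Algebra.TensorProduct.includeLeftRingHom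
        (R := B) (A := Γ(Z j.1, j.2.1.1)) (B := B'))) ≫ j.2.1.2.fromSpec)
      (Spec.map (CommRingCat.ofHom (Algebra.TensorProduct.includeRight
        (R := B) (A := Γ(Z j.1, j.2.1.1)) (B := B')).toRingHom) ≫ hU'.fromSpec) ?_,
    inferInstance, by rw [hU'.range_fromSpec]; exact hxU', fun j => pullback.lift_snd _ _ _, ?_⟩
  · rw [Category.assoc, Category.assoc, member_comm f hU j, hsq, ← Spec.map_comp_assoc,
      ← Spec.map_comp_assoc, ← CommRingCat.ofHom_comp, ← CommRingCat.ofHom_comp]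
    exact congrArg (fun r => Spec.map (CommRingCat.ofHom r) ≫ hU.fromSpec)
      (Algebra.TensorProduct.includeLeftRingHom_comp_algebraMap (R := B)
        (A := Γ(Z j.1, j.2.1.1)) (B := B'))
  · exact (dom_spec_iff (fun j : Members f U => CommRingCat.ofHom
      (Algebra.TensorProduct.includeRight (R := B) (A := Γ(Z j.1, j.2.1.1)) (B := B')).toRingHom)).mpr
      (hsep.baseChange B')

/-- **EGA IV 11.10.6**. -/
theorem Dom.baseChange_field {k : Type u} [Field k] (p : X ⟶ Spec (CommRingCat.of k))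
    (q : S' ⟶ Spec (CommRingCat.of k)) (H : Dom f) : Dom (bcMap p q f) := by
  refine dom_bc_of_locSep p q f fun x s' _ => ?_
  obtain ⟨U, hU, hxU, -⟩ := exists_isAffineOpen_mem_and_subset (U := (⊤ : X.Opens))
    (x := x) (Opens.mem_top _)
  obtain ⟨V', hV', hsV', -⟩ := exists_isAffineOpen_mem_and_subset (U := (⊤ : S'.Opens))
    (x := s') (Opens.mem_top _)
  let algB : Algebra k Γ(X, U) := (Spec.preimage (hU.fromSpec ≫ p)).hom.toAlgebra
  let algA' : Algebra k Γ(S', V') := (Spec.preimage (hV'.fromSpec ≫ q)).hom.toAlgebra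
  let algC : ∀ j : Members f U, Algebra k Γ(Z j.1, j.2.1.1) := fun j =>
    ((memberMap f j).comp (algebraMap k Γ(X, U))).toAlgebra
  let φ : ∀ j : Members f U, Γ(X, U) →ₐ[k] Γ(Z j.1, j.2.1.1) := fun j =>
    { memberMap f j with commutes' := fun _ => rfl }
  refine ⟨k, Γ(S', V'), Γ(X, U), inferInstance, inferInstance, algA', inferInstance, algB,
    𝟙 _, hV'.fromSpec, hU.fromSpec, inferInstance, inferInstance, inferInstance, ?_, ?_,
    Members f U, fun j => j.1, fun j => Γ(Z j.1, j.2.1.1), inferInstance, algC, φ,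
    fun j => j.2.1.2.fromSpec, fun j => member_comm f hU j, by rw [hU.range_fromSpec]; exact hxU,
    by rw [hV'.range_fromSpec]; exact hsV', ?_⟩
  · rw [Category.comp_id]
    exact (Spec.map_preimage _).symm
  · rw [Category.comp_id]
    exact (Spec.map_preimage _).symm
  · exact LocSep.field_baseChange φ (H.locSep f hU) Γ(S', V')

/-- Separation over the residue field of a point descends to the residue field of the prime. -/
lemma LocSep.residueField_of_field {A B : Type u} [CommRing A] [CommRing B] [Algebra A B]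
    {J : Type*} {C : J → Type u} [∀ j, CommRing (C j)] [∀ j, Algebra A (C j)]
    (φ : ∀ j, B →ₐ[A] C j) (p : Ideal A) [p.IsPrime] (K : Type u) [CommRing K] [Algebra A K]
    (hKf : IsField K)
    (hK : RingHom.ker (algebraMap A K) = p)
    (H : LocSep fun j => (Algebra.TensorProduct.map (AlgHom.id A K) (φ j)).toRingHom) :
    LocSep fun j => (Algebra.TensorProduct.map (AlgHom.id A p.ResidueField) (φ j)).toRingHom := by
  haveI : Nontrivial K := ⟨hKf.exists_pair_ne⟩
  let e : p.ResidueField →ₐ[A] K := Ideal.ResidueField.liftₐ p (Algebra.ofId A K) hK.ge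
    (fun x hx => by
      obtain ⟨b, hb⟩ := hKf.mul_inv_cancel (a := algebraMap A K x)
        fun h => hx (hK.le (RingHom.mem_ker.mpr h))
      exact IsUnit.of_mul_eq_one _ hb)
  letI := e.toRingHom.toAlgebra
  haveI : IsScalarTower A p.ResidueField K :=
    IsScalarTower.of_algebraMap_eq fun r => (e.commutes r).symm
  let ι' : p.ResidueField ⊗[A] B →ₐ[A] K ⊗[A] B := Algebra.TensorProduct.map e (AlgHom.id A B)
  have hinj : Function.Injective ι' := by
    have h1 : Function.Injective
        ((Algebra.TensorProduct.includeRight :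
          p.ResidueField ⊗[A] B →ₐ[p.ResidueField] K ⊗[p.ResidueField] (p.ResidueField ⊗[A] B))) :=
      Algebra.TensorProduct.includeRight_injective (algebraMap p.ResidueField K).injective
    have h2 : ∀ z, ι' z = Algebra.TensorProduct.cancelBaseChange A p.ResidueField p.ResidueField K B
        (Algebra.TensorProduct.includeRight z) := by
      intro z
      induction z with
      | zero => simp
      | tmul a b => simp [ι', Algebra.smul_def, RingHom.algebraMap_toAlgebra]
      | add x y hx hy => simp only [map_add, hx, hy]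
    intro x y hxy
    rw [h2, h2] at hxy
    exact h1 ((Algebra.TensorProduct.cancelBaseChange A p.ResidueField p.ResidueField K B).injective hxy)
  intro h x hx
  obtain ⟨n, hn⟩ := H (ι' h) (ι' x) fun j => by
    obtain ⟨n, hn⟩ := hx j
    refine ⟨n, ?_⟩
    have := congrArg (Algebra.TensorProduct.map e (AlgHom.id A (C j))) hn
    rw [map_zero] at this
    rw [← map_pow, ← map_mul, ← this]
    change ((Algebra.TensorProduct.map (AlgHom.id A K) (φ j)).comp ι') _ =
      ((Algebra.TensorProduct.map e (AlgHom.id A (C j))).comp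
        (Algebra.TensorProduct.map (AlgHom.id A p.ResidueField) (φ j))) _
    rw [← Algebra.TensorProduct.map_comp, ← Algebra.TensorProduct.map_comp]
    rfl
  exact ⟨n, hinj (by rw [map_mul, map_pow, map_zero, hn])⟩

lemma evaluation_eq_zero_iff {S : Scheme.{u}} {V : S.Opens} (hV : IsAffineOpen V)
    (q : Spec Γ(S, V)) (hs : hV.fromSpec q ∈ V) (a : Γ(S, V)) :
    S.evaluation V (hV.fromSpec q) hs a = 0 ↔ a ∈ q.asIdeal := by
  rw [← not_iff_not]
  refine (S.evaluation_ne_zero_iff_mem_basicOpen (hV.fromSpec q) hs a).trans ?_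
  rw [show (a ∉ q.asIdeal) = (q ∈ PrimeSpectrum.basicOpen a) from rfl,
    ← hV.fromSpec_preimage_basicOpen]
  rfl

lemma fromSpecResidueField_eq_evaluation {S : Scheme.{u}} {V : S.Opens} (hV : IsAffineOpen V)
    (s : S) (hs : s ∈ V) :
    S.fromSpecResidueField s = Spec.map (S.evaluation V s hs) ≫ hV.fromSpec := by
  rw [Scheme.fromSpecResidueField, ← hV.fromSpecStalk_eq_fromSpecStalk hs,
    IsAffineOpen.fromSpecStalk, ← Spec.map_comp_assoc]
  rfl

lemma locSep_fibre (p : X ⟶ S) {V : S.Opens} (hV : IsAffineOpen V) {U : X.Opens}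
    (hU : IsAffineOpen U) [Algebra Γ(S, V) Γ(X, U)] {J : Type u} {C : J → Type u}
    [∀ j, CommRing (C j)] [∀ j, Algebra Γ(S, V) (C j)] (φ : ∀ j, Γ(X, U) →ₐ[Γ(S, V)] C j)
    {σ : J → ι} (c : ∀ j, Spec (CommRingCat.of (C j)) ⟶ Z (σ j)) [∀ j, IsOpenImmersion (c j)]
    (_σ : J → ι) (hc : ∀ j, c j ≫ f (σ j) = Spec.map (CommRingCat.ofHom (φ j).toRingHom) ≫ hU.fromSpec)
    (hb : hU.fromSpec ≫ p = Spec.map (CommRingCat.ofHom (algebraMap Γ(S, V) Γ(X, U))) ≫ hV.fromSpec)
    (hcov : ∀ i, ∀ z : Z i, f i z ∈ Set.range hU.fromSpec.base →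
      ∃ (j : J) (h : σ j = i), z ∈ Set.range (c j ≫ eqToHom (by rw [h])).base)
    (q : Ideal Γ(S, V)) [q.IsPrime] (K : CommRingCat.{u}) (hK : IsField K)
    (ev : Γ(S, V) ⟶ K) (hev : ∀ a, ev a = 0 ↔ a ∈ q)
    (k : Spec K ⟶ S) (hk : k = Spec.map ev ≫ hV.fromSpec) (H : Dom (bcMap p k f)) :
    LocSep fun j =>
      (Algebra.TensorProduct.map (AlgHom.id Γ(S, V) q.ResidueField) (φ j)).toRingHom := by
  letI : Algebra Γ(S, V) K := ev.hom.toAlgebra
  refine LocSep.residueField_of_field φ q K hK (Ideal.ext hev) ?_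
  exact locSep_of_dom_bc p k (A := Γ(S, V)) (A' := K) (a := hV.fromSpec) (g₀ := 𝟙 _)
    (b := hU.fromSpec) ((Category.id_comp _).trans hk) hb f σ φ c hc hcov H

/-- **EGA IV 11.10.9**: fibrewise dominant families with flat members are universally
schematically dominant. -/
theorem Dom.baseChange_of_fibrewise [IsLocallyNoetherian X] (p : X ⟶ S) [∀ i, Flat (f i ≫ p)]
    (H : ∀ s : S, Dom (bcMap p (S.fromSpecResidueField s) f)) (g : S' ⟶ S) :
    Dom (bcMap p g f) := by
  refine dom_bc_of_locSep p g f fun x s' hxs => ?_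
  obtain ⟨V, hV, hsV, -⟩ := exists_isAffineOpen_mem_and_subset (U := (⊤ : S.Opens))
    (x := p x) (Opens.mem_top _)
  obtain ⟨U, hU, hxU, hUV⟩ := exists_isAffineOpen_mem_and_subset (U := p ⁻¹ᵁ V) (x := x) hsV
  obtain ⟨V', hV', hsV', hV'V⟩ := exists_isAffineOpen_mem_and_subset (U := g ⁻¹ᵁ V) (x := s')
    (show g s' ∈ V by rw [← hxs]; exact hsV)
  let algB : Algebra Γ(S, V) Γ(X, U) := (p.appLE V U hUV).hom.toAlgebra
  let algA' : Algebra Γ(S, V) Γ(S', V') := (g.appLE V V' hV'V).hom.toAlgebra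
  let algC : ∀ j : Members f U, Algebra Γ(S, V) Γ(Z j.1, j.2.1.1) := fun j =>
    ((memberMap f j).comp (algebraMap Γ(S, V) Γ(X, U))).toAlgebra
  let φ : ∀ j : Members f U, Γ(X, U) →ₐ[Γ(S, V)] Γ(Z j.1, j.2.1.1) := fun j =>
    { memberMap f j with commutes' := fun _ => rfl }
  have hflat : ∀ j : Members f U, Module.Flat Γ(S, V) Γ(Z j.1, j.2.1.1) := fun j => by
    have h := HasRingHomProperty.appLE @Flat (f j.1 ≫ p) inferInstance ⟨V, hV⟩ ⟨j.2.1.1, j.2.1.2⟩
      (j.2.2.trans ((f j.1).preimage_mono hUV))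
    rw [← Scheme.Hom.appLE_comp_appLE (f j.1) p V U j.2.1.1 hUV j.2.2] at h
    exact h
  haveI : IsNoetherianRing Γ(X, U) := IsLocallyNoetherian.component_noetherian ⟨U, hU⟩
  have hb : hU.fromSpec ≫ p =
      Spec.map (CommRingCat.ofHom (algebraMap Γ(S, V) Γ(X, U))) ≫ hV.fromSpec :=
    (hV.SpecMap_appLE_fromSpec p hU hUV).symm
  refine ⟨Γ(S, V), Γ(S', V'), Γ(X, U), inferInstance, inferInstance, algA', inferInstance, algB,
    hV.fromSpec, hV'.fromSpec, hU.fromSpec, inferInstance, inferInstance, inferInstance,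
    (hV.SpecMap_appLE_fromSpec g hV' hV'V).symm, hb, Members f U, fun j => j.1,
    fun j => Γ(Z j.1, j.2.1.1), inferInstance, algC, φ,
    fun j => j.2.1.2.fromSpec, fun j => member_comm f hU j, by rw [hU.range_fromSpec]; exact hxU,
    by rw [hV'.range_fromSpec]; exact hsV', ?_⟩
  refine LocSep.baseChange_of_fibrewise φ (fun q _ => ?_) Γ(S', V')
  let s : S := hV.fromSpec ⟨q, ‹_›⟩
  have hs : s ∈ V := hV.range_fromSpec.le (Set.mem_range_self (⟨q, ‹_›⟩ : Spec Γ(S, V)))
  exact locSep_fibre p hV hU φ (fun j => j.2.1.2.fromSpec) (fun j : Members f U => j.1)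
    (fun j => member_comm f hU j) hb (member_cover f hU) q (S.residueField s)
    (Field.toIsField _) (S.evaluation V s hs)
    (fun a => evaluation_eq_zero_iff hV ⟨q, ‹_›⟩ hs a)
    (S.fromSpecResidueField s) (fromSpecResidueField_eq_evaluation hV s hs) (H s)

/-- **SGA3 / EGA IV 11.10**: dominance modulo a nilpotent ideal with projective graded pieces. -/
theorem Dom.of_nilpotent {A : CommRingCat.{u}} (p : X ⟶ Spec A) [∀ i, Flat (f i ≫ p)]
    (J : Ideal ↑A) (hJ : IsNilpotent J)
    (hproj : ∀ k : ℕ, Module.Projective (↑A ⧸ J) ((↑A ⧸ J) ⊗[↑A] ↥(J ^ k)))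
    (H : Dom (bcMap p (Spec.map (CommRingCat.ofHom (Ideal.Quotient.mk J))) f)) : Dom f := by
  refine Dom.of_charts fun x => ?_
  obtain ⟨U, hU, hxU, -⟩ := exists_isAffineOpen_mem_and_subset (U := (⊤ : X.Opens))
    (x := x) (Opens.mem_top _)
  let algB : Algebra ↑A Γ(X, U) := (Spec.preimage (hU.fromSpec ≫ p)).hom.toAlgebra
  let algC : ∀ j : Members f U, Algebra ↑A Γ(Z j.1, j.2.1.1) := fun j =>
    ((memberMap f j).comp (algebraMap ↑A Γ(X, U))).toAlgebra
  let φ : ∀ j : Members f U, Γ(X, U) →ₐ[↑A] Γ(Z j.1, j.2.1.1) := fun j =>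
    { memberMap f j with commutes' := fun _ => rfl }
  have hb : hU.fromSpec ≫ p = Spec.map (CommRingCat.ofHom (algebraMap ↑A Γ(X, U))) ≫ 𝟙 _ := by
    rw [Category.comp_id]; exact (Spec.map_preimage _).symm
  have hflat : ∀ j : Members f U, Module.Flat ↑A Γ(Z j.1, j.2.1.1) := fun j => by
    have h : Flat (j.2.1.2.fromSpec ≫ f j.1 ≫ p) := inferInstance
    rw [reassoc_of% (member_comm f hU j), hb, Category.comp_id, ← Spec.map_comp,
      HasRingHomProperty.Spec_iff (P := @Flat)] at h
    exact h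
  have hsep : LocSep fun j : Members f U =>
      (Algebra.TensorProduct.map (AlgHom.id ↑A (↑A ⧸ J)) (φ j)).toRingHom :=
    locSep_of_dom_bc p _ (A := ↑A) (A' := ↑A ⧸ J) (a := 𝟙 _) (g₀ := 𝟙 _) (b := hU.fromSpec)
      (by rw [Category.id_comp, Category.comp_id]) hb f
      (fun j : Members f U => j.1) φ (fun j => j.2.1.2.fromSpec) (fun j => member_comm f hU j)
      (member_cover f hU) H
  refine ⟨_, hU.fromSpec, Members f U, _, fun j => Spec.map (CommRingCat.ofHom (memberMap f j)),
    fun j => j.1, fun j => j.2.1.2.fromSpec, inferInstance, by rw [hU.range_fromSpec]; exact hxU,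
    member_comm f hU, (dom_spec_iff (fun j : Members f U => CommRingCat.ofHom (memberMap f j))).mpr ?_⟩
  intro g x hx
  obtain ⟨N, hN⟩ := hJ
  obtain ⟨m, hm⟩ := mem_pow_smul_top (R := ↑A) J (M := Γ(X, U))
    (N := fun j : Members f U => Γ(Z j.1, j.2.1.1))
    (LinearMap.mulLeft ↑A g) (fun j => LinearMap.mulLeft ↑A (φ j g)) (fun j => (φ j).toLinearMap)
    (fun j z => map_mul (φ j) g z) hproj (fun y hy => by
      have hmulB : ∀ (m : ℕ) (z : (↑A ⧸ J) ⊗[↑A] Γ(X, U)),
          ((LinearMap.mulLeft ↑A g) ^ m).baseChange (↑A ⧸ J) z = ((1 : ↑A ⧸ J) ⊗ₜ g) ^ m * z := by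
        intro m z
        induction z with
        | zero => simp
        | tmul a b => simp [LinearMap.pow_mulLeft]
        | add a b ha hb => simp only [map_add, mul_add, ha, hb]
      have hmulC : ∀ (j : Members f U) (m : ℕ) (z : (↑A ⧸ J) ⊗[↑A] Γ(Z j.1, j.2.1.1)),
          ((LinearMap.mulLeft ↑A (φ j g)) ^ m).baseChange (↑A ⧸ J) z =
            ((1 : ↑A ⧸ J) ⊗ₜ φ j g) ^ m * z := by
        intro j m z
        induction z with
        | zero => simp
        | tmul a b => simp [LinearMap.pow_mulLeft]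
        | add a b ha hb => simp only [map_add, mul_add, ha, hb]
      obtain ⟨m, hm⟩ := hsep ((1 : ↑A ⧸ J) ⊗ₜ g) y fun j => by
        obtain ⟨m, hm⟩ := hy j
        refine ⟨m, ?_⟩
        change Algebra.TensorProduct.map (AlgHom.id ↑A (↑A ⧸ J)) (φ j) _ = 0
        rw [map_mul, map_pow, Algebra.TensorProduct.map_tmul, ← hm, hmulC]
        rfl
      exact ⟨m, (hmulB m y).trans hm⟩)
    x (fun j => by
      obtain ⟨m, hm⟩ := hx j
      refine ⟨m, ?_⟩
      rw [LinearMap.pow_mulLeft]
      change φ j g ^ m * φ j x = 0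
      rw [← map_pow, ← map_mul]
      exact hm) N
  rw [hN] at hm
  simp only [Ideal.zero_eq_bot, Submodule.bot_smul, Submodule.mem_bot, LinearMap.pow_mulLeft,
    LinearMap.mulLeft_apply] at hm
  exact ⟨m, hm⟩

end Groth.L02.SchDom
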