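import Groth.Agent.L02.SchDom.Basic
import Mathlib.AlgebraicGeometry.Pullbacks
import Mathlib.AlgebraicGeometry.PullbackCarrier
import Mathlib.AlgebraicGeometry.Morphisms.OpenImmersion

/-!
# Schematically dominant families and base change: affine charts
-/

universe u w

open CategoryTheory Limits AlgebraicGeometry TopologicalSpace
open TensorProduct

namespace Groth.L02.SchDom

section Chart

variable {X S S' : Scheme.{u}} (p : X ⟶ S) (g : S' ⟶ S)

/-- The base changed family. -/
noncomputable def bcMap {ι : Type w} {Z : ι → Scheme.{u}} (f : ∀ i, Z i ⟶ X) (i : ι) :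
    pullback (f i ≫ p) g ⟶ pullback p g :=
  pullback.map (f i ≫ p) g p g (f i) (𝟙 S') (𝟙 S) (Category.comp_id _)
    ((Category.comp_id _).trans (Category.id_comp _).symm)

variable {A A' B : Type u} [CommRing A] [CommRing A'] [Algebra A A'] [CommRing B] [Algebra A B]
  {a : Spec (CommRingCat.of A) ⟶ S} {g₀ : Spec (CommRingCat.of A') ⟶ S'}
  {b : Spec (CommRingCat.of B) ⟶ X}
  (hg : g₀ ≫ g = Spec.map (CommRingCat.ofHom (algebraMap A A')) ≫ a)
  (hb : b ≫ p = Spec.map (CommRingCat.ofHom (algebraMap A B)) ≫ a)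

/-- The affine chart `Spec (A' ⊗ B) ⟶ X ×_S S'`. -/
noncomputable def bcChart : Spec (CommRingCat.of (A' ⊗[A] B)) ⟶ pullback p g :=
  pullback.lift
    (Spec.map (CommRingCat.ofHom (Algebra.TensorProduct.includeRight (R := A) (A := A') (B := B)).toRingHom) ≫ b)
    (Spec.map (CommRingCat.ofHom (Algebra.TensorProduct.includeLeftRingHom (R := A) (A := A') (B := B))) ≫ g₀)
    (by
      simp only [Category.assoc, hb, hg, ← Spec.map_comp_assoc, ← CommRingCat.ofHom_comp]
      exact congrArg (fun r => Spec.map (CommRingCat.ofHom r) ≫ a)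
        (Algebra.TensorProduct.includeLeftRingHom_comp_algebraMap (R := A) (A := A') (B := B)).symm)

lemma bcChart_eq : bcChart p g hg hb =
    ((pullbackSpecIso A A' B).inv ≫ (pullbackSymmetry _ _).hom) ≫
      pullback.map _ _ p g b g₀ a hb.symm hg.symm := by
  apply pullback.hom_ext
  · simp only [bcChart, pullback.lift_fst, Category.assoc, pullback.map, pullbackSymmetry_hom_comp_fst_assoc,
      pullbackSpecIso_inv_snd_assoc]
    rfl
  · simp only [bcChart, pullback.lift_snd, Category.assoc, pullback.map,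
      pullbackSymmetry_hom_comp_snd_assoc, pullbackSpecIso_inv_fst_assoc]

lemma bcChart_isOpenImmersion [Mono a] [IsOpenImmersion b] [IsOpenImmersion g₀] :
    IsOpenImmersion (bcChart p g hg hb) := by
  rw [bcChart_eq]
  infer_instance

lemma range_bcChart [Mono a] : Set.range (bcChart p g hg hb).base =
    pullback.fst p g ⁻¹' Set.range b.base ∩ pullback.snd p g ⁻¹' Set.range g₀.base := by
  rw [bcChart_eq]
  refine Eq.trans ?_ (Scheme.Pullback.range_map _ _ p g b g₀ a hb.symm hg.symm)
  simp only [Scheme.Hom.comp_base, TopCat.coe_comp]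
  rw [Set.range_comp, Set.range_eq_univ.mpr, Set.image_univ]
  exact ((pullbackSpecIso A A' B).symm.trans (pullbackSymmetry _ _)).hom.surjective

variable {ι : Type w} {Z : ι → Scheme.{u}} (f : ∀ i, Z i ⟶ X)
  {J : Type*} (σ : J → ι) {C : J → Type u} [∀ j, CommRing (C j)] [∀ j, Algebra A (C j)]
  (φ : ∀ j, B →ₐ[A] C j) (c : ∀ j, Spec (CommRingCat.of (C j)) ⟶ Z (σ j))
  (hc : ∀ j, c j ≫ f (σ j) = Spec.map (CommRingCat.ofHom (φ j).toRingHom) ≫ b)

include hb hc in
lemma cTriangle (j : J) :
    c j ≫ (f (σ j) ≫ p) = Spec.map (CommRingCat.ofHom (algebraMap A (C j))) ≫ a := by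
  rw [reassoc_of% (hc j), hb, ← Spec.map_comp_assoc, ← CommRingCat.ofHom_comp]
  exact congrArg (fun r => Spec.map (CommRingCat.ofHom r) ≫ a) (φ j).comp_algebraMap

lemma bcChart_comm (j : J) :
    bcChart (f (σ j) ≫ p) g hg (cTriangle p hb f σ φ c hc j) ≫ bcMap p g f (σ j) =
      Spec.map (CommRingCat.ofHom (Algebra.TensorProduct.map (AlgHom.id A A') (φ j)).toRingHom) ≫
        bcChart p g hg hb := by
  apply pullback.hom_ext
  · simp only [bcChart, bcMap, pullback.map, Category.assoc, pullback.lift_fst,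
      pullback.lift_fst_assoc, hc]
    rw [← Spec.map_comp_assoc, ← Spec.map_comp_assoc]
    congr 2
  · simp only [bcChart, bcMap, pullback.map, Category.assoc, pullback.lift_snd,
      pullback.lift_snd_assoc, Category.comp_id]
    rw [← Spec.map_comp_assoc]
    congr 2
    ext x
    simp

include hg hb in
/-- From dominance of the base change to separation on a chart. -/
theorem locSep_of_dom_bc [Mono a] [IsOpenImmersion b] [IsOpenImmersion g₀]
    [∀ j, IsOpenImmersion (c j)]
    (hc : ∀ j, c j ≫ f (σ j) = Spec.map (CommRingCat.ofHom (φ j).toRingHom) ≫ b)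
    (hcov : ∀ i, ∀ z : Z i, f i z ∈ Set.range b.base →
      ∃ (j : J) (h : σ j = i), z ∈ Set.range (c j ≫ eqToHom (by rw [h])).base)
    (H : Dom (bcMap p g f)) :
    LocSep fun j => (Algebra.TensorProduct.map (AlgHom.id A A') (φ j)).toRingHom := by
  haveI := bcChart_isOpenImmersion p g hg hb
  haveI : ∀ j, IsOpenImmersion (bcChart (f (σ j) ≫ p) g hg (cTriangle p hb f σ φ c hc j)) :=
    fun j => bcChart_isOpenImmersion _ g hg _
  refine (dom_spec_iff (fun j => CommRingCat.ofHom
    (Algebra.TensorProduct.map (AlgHom.id A A') (φ j)).toRingHom)).mp ?_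
  refine H.chart (bcChart p g hg hb) _ σ
    (fun j => bcChart (f (σ j) ≫ p) g hg (cTriangle p hb f σ φ c hc j))
    (bcChart_comm p g hg hb f σ φ c hc) fun i z hz => ?_
  rw [range_bcChart] at hz
  have hfst : f i (pullback.fst (f i ≫ p) g z) ∈ Set.range b.base := by
    have := hz.1
    rw [Set.mem_preimage, ← Scheme.Hom.comp_apply, bcMap, pullback.map, pullback.lift_fst,
      Scheme.Hom.comp_apply] at this
    exact this
  have hsnd : pullback.snd (f i ≫ p) g z ∈ Set.range g₀.base := by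
    have := hz.2
    rw [Set.mem_preimage, ← Scheme.Hom.comp_apply, bcMap, pullback.map, pullback.lift_snd,
      Category.comp_id] at this
    exact this
  obtain ⟨j, rfl, hj⟩ := hcov i _ hfst
  refine ⟨j, rfl, ?_⟩
  simp only [eqToHom_refl, Category.comp_id] at hj ⊢
  rw [range_bcChart]
  exact ⟨hj, hsnd⟩

end Chart

/-- To check dominance of a base change, it suffices to check separation on charts. -/
theorem dom_bc_of_locSep {X S S' : Scheme.{u}} (p : X ⟶ S) (g : S' ⟶ S) {ι : Type u}
    {Z : ι → Scheme.{u}} (f : ∀ i, Z i ⟶ X)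
    (H : ∀ (x : X) (s' : S'), p x = g s' →
      ∃ (A A' B : Type u) (_ : CommRing A) (_ : CommRing A') (_ : Algebra A A') (_ : CommRing B)
        (_ : Algebra A B) (a : Spec (CommRingCat.of A) ⟶ S) (g₀ : Spec (CommRingCat.of A') ⟶ S')
        (b : Spec (CommRingCat.of B) ⟶ X) (_ : Mono a) (_ : IsOpenImmersion b)
        (_ : IsOpenImmersion g₀)
        (_ : g₀ ≫ g = Spec.map (CommRingCat.ofHom (algebraMap A A')) ≫ a)
        (_ : b ≫ p = Spec.map (CommRingCat.ofHom (algebraMap A B)) ≫ a)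
        (J : Type u) (σ : J → ι) (C : J → Type u) (_ : ∀ j, CommRing (C j))
        (_ : ∀ j, Algebra A (C j)) (φ : ∀ j, B →ₐ[A] C j)
        (c : ∀ j, Spec (CommRingCat.of (C j)) ⟶ Z (σ j))
        (_ : ∀ j, c j ≫ f (σ j) = Spec.map (CommRingCat.ofHom (φ j).toRingHom) ≫ b),
        x ∈ Set.range b.base ∧ s' ∈ Set.range g₀.base ∧
        LocSep fun j => (Algebra.TensorProduct.map (AlgHom.id A A') (φ j)).toRingHom) :
    Dom (bcMap p g f) := by
  refine Dom.of_charts fun w => ?_
  obtain ⟨A, A', B, _, _, _, _, _, a, g₀, b, _, _, _, hg, hb, J, σ, C, _, _, φ, c, hc, hx, hs, hsep⟩ :=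
    H (pullback.fst p g w) (pullback.snd p g w)
      (by rw [← Scheme.Hom.comp_apply, pullback.condition, Scheme.Hom.comp_apply])
  refine ⟨_, bcChart p g hg hb, J, _, _, σ,
    fun j => bcChart (f (σ j) ≫ p) g hg (cTriangle p hb f σ φ c hc j),
    bcChart_isOpenImmersion p g hg hb, ?_, bcChart_comm p g hg hb f σ φ c hc,
    (dom_spec_iff (fun j => CommRingCat.ofHom
      (Algebra.TensorProduct.map (AlgHom.id A A') (φ j)).toRingHom)).mpr hsep⟩
  rw [range_bcChart]
  exact ⟨hx, hs⟩

/-- The affine opens of the members lying over an affine open of the target. -/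
abbrev Members {X : Scheme.{u}} {ι : Type u} {Z : ι → Scheme.{u}} (f : ∀ i, Z i ⟶ X)
    (U : X.Opens) : Type u :=
  Σ i : ι, {W : (Z i).affineOpens // W.1 ≤ f i ⁻¹ᵁ U}

lemma members_cover {X : Scheme.{u}} {ι : Type u} {Z : ι → Scheme.{u}} (f : ∀ i, Z i ⟶ X)
    (U : X.Opens) (i : ι) (z : Z i) (hz : f i z ∈ U) :
    ∃ (j : Members f U) (h : j.1 = i), z ∈ Set.range (j.2.1.2.fromSpec ≫ eqToHom (by rw [h])).base := by
  obtain ⟨W, hW, hzW, hle⟩ := exists_isAffineOpen_mem_and_subset (U := f i ⁻¹ᵁ U) hz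
  refine ⟨⟨i, ⟨⟨W, hW⟩, hle⟩⟩, rfl, ?_⟩
  simp only [eqToHom_refl, Category.comp_id, hW.range_fromSpec]
  exact hzW

end Groth.L02.SchDom
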