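import Groth.Agent.L02.SchDom.Sep
import Mathlib.AlgebraicGeometry.AffineScheme
import Mathlib.AlgebraicGeometry.OpenImmersion

/-!
# Schematically dominant families of morphisms: locality and the affine criterion
-/

universe u w

open CategoryTheory AlgebraicGeometry TopologicalSpace

namespace Groth.L02.SchDom

/-- A family of morphisms is schematically dominant. -/
def Dom {X : Scheme.{u}} {ι : Type w} {Z : ι → Scheme.{u}} (f : ∀ i, Z i ⟶ X) : Prop :=
  ∀ (V : X.Opens) (t : Γ(X, V)), (∀ i, (f i).app V t = 0) → t = 0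

variable {X : Scheme.{u}}

/-- A section vanishes if its restrictions to the members of a cover vanish. -/
lemma eq_zero_of_res {J : Type*} {U : X.Opens} (s : Γ(X, U)) (W : J → X.Opens) (hW : ∀ j, W j ≤ U)
    (hcov : ∀ x ∈ U, ∃ j, x ∈ W j) (h : ∀ j, X.presheaf.map (homOfLE (hW j)).op s = 0) : s = 0 := by
  refine TopCat.Sheaf.eq_of_locally_eq' X.sheaf W U (fun j => homOfLE (hW j)) ?_ s 0 fun j => ?_
  · intro x hx
    obtain ⟨j, hj⟩ := hcov x hx
    exact Opens.mem_iSup.mpr ⟨j, hj⟩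
  · rw [map_zero]; exact h j

lemma appLE_eq_zero_of_app_eq_zero {Y : Scheme.{u}} (f : X ⟶ Y) {V : Y.Opens} {t : Γ(Y, V)}
    (h : f.app V t = 0) {W : X.Opens} (hW : W ≤ f ⁻¹ᵁ V) : f.appLE V W hW t = 0 := by
  rw [Scheme.Hom.appLE, CommRingCat.comp_apply, h, map_zero]

/-- A section vanishes if its pullbacks along covering open immersions vanish. -/
lemma eq_zero_of_openImmersions {J : Type*} {U : X.Opens} (s : Γ(X, U)) {Q : J → Scheme.{u}}
    (e : ∀ j, Q j ⟶ X) [∀ j, IsOpenImmersion (e j)]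
    (hcov : ∀ x ∈ U, ∃ j, x ∈ Set.range (e j).base) (h : ∀ j, (e j).app U s = 0) : s = 0 := by
  refine eq_zero_of_res s (fun j => U ⊓ (e j).opensRange) (fun j => inf_le_left)
    (fun x hx => ?_) fun j => ?_
  · obtain ⟨j, hj⟩ := hcov x hx
    exact ⟨j, hx, hj⟩
  · haveI := (e j).isIso_app (U ⊓ (e j).opensRange) inf_le_right
    apply (ConcreteCategory.bijective_of_isIso ((e j).app (U ⊓ (e j).opensRange))).injective
    rw [map_zero, ← CommRingCat.comp_apply, Scheme.Hom.naturality, CommRingCat.comp_apply, h j,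
      map_zero]

variable {ι : Type w} {Z : ι → Scheme.{u}} {f : ∀ i, Z i ⟶ X}

/-- Dominance restricts to an open chart. -/
theorem Dom.chart (H : Dom f) {P : Scheme.{u}} (e : P ⟶ X) [IsOpenImmersion e] {J : Type*}
    {Q : J → Scheme.{u}} (q : ∀ j, Q j ⟶ P) (σ : J → ι) (e' : ∀ j, Q j ⟶ Z (σ j))
    [∀ j, IsOpenImmersion (e' j)] (comm : ∀ j, e' j ≫ f (σ j) = q j ≫ e)
    (hcov : ∀ i, ∀ z : Z i, f i z ∈ Set.range e.base →
      ∃ (j : J) (h : σ j = i), z ∈ Set.range (e' j ≫ eqToHom (by rw [h])).base) :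
    Dom q := by
  intro V t ht
  let U := e ''ᵁ V
  have hVU : V ≤ e ⁻¹ᵁ U := (e.preimage_image_eq V).ge
  haveI : IsIso (e.appLE U V hVU) := by
    rw [show e.appLE U V hVU = (e.appIso V).hom from (e.appIso_hom' V).symm]
    infer_instance
  obtain ⟨t', rfl⟩ := (ConcreteCategory.bijective_of_isIso (e.appLE U V hVU)).surjective t
  suffices t' = 0 by rw [this, map_zero]
  refine H U t' fun i => ?_
  let J' := {j : J // σ j = i}
  refine eq_zero_of_openImmersions _ (Q := fun j : J' => Q j.1)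
    (fun j : J' => e' j.1 ≫ eqToHom (congrArg Z j.2)) (fun z hz => ?_) fun j => ?_
  · have : f i z ∈ Set.range e.base := by
      obtain ⟨p, -, hp⟩ := (hz : f i z ∈ e ''ᵁ V)
      exact ⟨p, hp⟩
    obtain ⟨j, h, hj⟩ := hcov i z this
    exact ⟨⟨j, h⟩, hj⟩
  · obtain ⟨j, rfl⟩ := j
    rw [← CommRingCat.comp_apply, ← Scheme.Hom.comp_app]
    have hc : (e' j ≫ eqToHom rfl) ≫ f (σ j) = q j ≫ e := by simp [comm j]
    have hle : (q j ≫ e) ⁻¹ᵁ U ≤ q j ⁻¹ᵁ V := by
      rw [Scheme.Hom.comp_preimage, e.preimage_image_eq]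
    have h1 : ((e' j ≫ eqToHom rfl) ≫ f (σ j)).app U t' = 0 ↔
        (q j ≫ e).app U t' = 0 := by rw [hc]
    refine h1.mpr ?_
    rw [Scheme.Hom.app_eq_appLE,
      ← Scheme.Hom.appLE_comp_appLE (q j) e U V _ hVU hle, CommRingCat.comp_apply]
    exact appLE_eq_zero_of_app_eq_zero _ (ht j) _

/-- Dominance can be checked on charts. -/
theorem Dom.of_charts
    (H : ∀ x : X, ∃ (P : Scheme.{u}) (e : P ⟶ X) (J : Type (max u w)) (Q : J → Scheme.{u})
      (q : ∀ j, Q j ⟶ P) (σ : J → ι) (e' : ∀ j, Q j ⟶ Z (σ j)),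
      IsOpenImmersion e ∧ x ∈ Set.range e.base ∧ (∀ j, e' j ≫ f (σ j) = q j ≫ e) ∧ Dom q) :
    Dom f := by
  intro V t ht
  choose P e J Q q σ e' he hx comm hq using H
  haveI : ∀ x : {x // x ∈ V}, IsOpenImmersion (e x.1) := fun x => he x.1
  refine eq_zero_of_openImmersions t (Q := fun x : {x // x ∈ V} => P x.1) (fun x => e x.1)
    (fun x hxV => ⟨⟨x, hxV⟩, hx x⟩) fun x => hq _ _ _ fun j => ?_
  rw [← CommRingCat.comp_apply, ← Scheme.Hom.comp_app]
  have : (q x.1 j ≫ e x.1).app V t = 0 ↔ (e' x.1 j ≫ f (σ x.1 j)).app V t = 0 := by rw [comm]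
  refine this.mpr ?_
  change (e' x.1 j).app _ ((f (σ x.1 j)).app V t) = 0
  rw [ht, map_zero]

lemma res_basicOpen_eq_zero_iff {Y : Scheme.{u}} [IsAffine Y] (g s : Γ(Y, ⊤)) :
    Y.presheaf.map (homOfLE (le_top : Y.basicOpen g ≤ ⊤)).op s = 0 ↔ ∃ n : ℕ, g ^ n * s = 0 := by
  haveI := (isAffineOpen_top Y).isLocalization_basicOpen g
  refine (IsLocalization.map_eq_zero_iff (Submonoid.powers g) Γ(Y, Y.basicOpen g) s).trans ?_
  exact ⟨fun ⟨⟨_, n, rfl⟩, h⟩ => ⟨n, h⟩, fun ⟨n, h⟩ => ⟨⟨_, n, rfl⟩, h⟩⟩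

/-- The affine criterion. -/
theorem dom_iff_locSep [IsAffine X] [∀ i, IsAffine (Z i)] :
    Dom f ↔ LocSep fun i => (f i).appTop.hom := by
  have key : ∀ (i : ι) (h s : Γ(X, ⊤)),
      (f i).app (X.basicOpen h) (X.presheaf.map (homOfLE (le_top : X.basicOpen h ≤ ⊤)).op s) = 0 ↔
      ∃ n : ℕ, (f i).appTop.hom h ^ n * (f i).appTop.hom s = 0 := by
    intro i h s
    rw [← CommRingCat.comp_apply, Scheme.Hom.naturality, CommRingCat.comp_apply]
    refine (map_eq_zero_iff _ ((ConcreteCategory.bijective_of_isIso ((Z i).presheaf.map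
      (eqToHom ((f i).preimage_basicOpen h).symm).op)).injective)).symm.trans ?_
    refine Iff.trans ?_ (res_basicOpen_eq_zero_iff ((f i).appTop h) ((f i).appTop s))
    rw [← CommRingCat.comp_apply, ← Functor.map_comp]
    rfl
  constructor
  · intro H h x hx
    refine (res_basicOpen_eq_zero_iff h x).mp (H _ _ fun i => (key i h x).mpr ?_)
    obtain ⟨n, hn⟩ := hx i
    exact ⟨n, by simpa using hn⟩
  · intro H V t ht
    have hb : ∀ x : V, ∃ h : Γ(X, ⊤), X.basicOpen h ≤ V ∧ (x : X) ∈ X.basicOpen h := fun x => by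
      obtain ⟨h, h1, h2⟩ := (isAffineOpen_top X).exists_basicOpen_le x (Opens.mem_top _)
      exact ⟨h, h1, h2⟩
    choose h hle hmem using hb
    refine eq_zero_of_res t (fun x : V => X.basicOpen (h x)) hle (fun x hx => ⟨⟨x, hx⟩, hmem _⟩)
      fun x => ?_
    haveI := (isAffineOpen_top X).isLocalization_basicOpen (h x)
    let t₁ := X.presheaf.map (homOfLE (hle x)).op t
    obtain ⟨⟨s, ⟨_, m, rfl⟩⟩, hs⟩ := IsLocalization.surj (Submonoid.powers (h x)) t₁
    have hres : X.presheaf.map (homOfLE (le_top : X.basicOpen (h x) ≤ ⊤)).op s =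
        t₁ * X.presheaf.map (homOfLE (le_top : X.basicOpen (h x) ≤ ⊤)).op (h x ^ m) := hs.symm
    obtain ⟨n, hn⟩ := H (h x) s fun i => by
      obtain ⟨n, hn⟩ := (key i (h x) s).mp <| by
        rw [hres, map_mul]
        have : (f i).app (X.basicOpen (h x)) t₁ = 0 := by
          change (f i).app _ (X.presheaf.map _ t) = 0
          rw [← CommRingCat.comp_apply, Scheme.Hom.naturality, CommRingCat.comp_apply, ht i, map_zero]
        rw [this, zero_mul]
      exact ⟨n, by simpa using hn⟩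
    have h0 := (res_basicOpen_eq_zero_iff (h x) s).mpr ⟨n, hn⟩
    rw [hres] at h0
    exact (IsUnit.mul_left_eq_zero (IsLocalization.map_units Γ(X, X.basicOpen (h x))
      (⟨h x ^ m, m, rfl⟩ : Submonoid.powers (h x)))).mp h0

theorem dom_spec_iff {B : CommRingCat.{u}} {C : ι → CommRingCat.{u}} (φ : ∀ i, B ⟶ C i) :
    Dom (fun i => Spec.map (φ i)) ↔ LocSep fun i => (φ i).hom := by
  rw [dom_iff_locSep]
  constructor
  · exact LocSep.of_equiv (Scheme.ΓSpecIso B).commRingCatIsoToRingEquiv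
      (fun i => (Scheme.ΓSpecIso (C i)).commRingCatIsoToRingEquiv) fun i b =>
      congr($(Scheme.ΓSpecIso_naturality (φ i)).hom b)
  · exact LocSep.of_equiv (Scheme.ΓSpecIso B).commRingCatIsoToRingEquiv.symm
      (fun i => (Scheme.ΓSpecIso (C i)).commRingCatIsoToRingEquiv.symm) fun i b =>
      congr($(Scheme.ΓSpecIso_inv_naturality (φ i)).hom b)

end Groth.L02.SchDom
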