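import Groth.Agent.L03.Lattice
import Mathlib.RingTheory.TensorProduct.Finite
import Mathlib.RingTheory.Flat.Basic
import Mathlib.RingTheory.Ideal.Colon
import Mathlib.RingTheory.Ideal.Maps
import Mathlib.RingTheory.FiniteType
import Mathlib.RingTheory.Ideal.Quotient.Operations
import Mathlib.LinearAlgebra.TensorProduct.RightExactness
import Mathlib.Algebra.Module.Torsion.Basic
import Mathlib.RingTheory.LocalRing.ResidueField.Ideal

/-!
# Injectivity of an endomorphism of a flat module from injectivity on the fibres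

For a flat module `M` over a Noetherian ring `A₀` with an endomorphism `h` and an arbitrary algebra
`R`, if `h` is injective on `K ⊗ M` for every field `K` receiving `R` then it is injective on
`R ⊗ M`.
-/

set_option autoImplicit false

universe u

open TensorProduct

noncomputable section

namespace Groth.L02.SchDom

variable {A₀ M : Type u} [CommRing A₀] [AddCommGroup M] [Module A₀ M] [Module.Flat A₀ M]

lemma lTensor_comm_rTensor {P Q : Type*} [AddCommGroup P] [Module A₀ P] [AddCommGroup Q]
    [Module A₀ Q] (h : M →ₗ[A₀] M) (f : P →ₗ[A₀] Q) (z : P ⊗[A₀] M) :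
    h.lTensor Q (f.rTensor M z) = f.rTensor M (h.lTensor P z) := by
  induction z using TensorProduct.induction_on with
  | zero => simp
  | tmul a b => simp
  | add a b ha hb => simp only [map_add, ha, hb]

lemma injective_lTensor_of_injective {P Q : Type*} [AddCommGroup P] [Module A₀ P] [AddCommGroup Q]
    [Module A₀ Q] (h : M →ₗ[A₀] M) (f : P →ₗ[A₀] Q) (hf : Function.Injective f)
    (H : Function.Injective (h.lTensor Q)) : Function.Injective (h.lTensor P) := by
  intro z w e
  refine Module.Flat.rTensor_preserves_injective_linearMap (M := M) f hf (H ?_)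
  rw [lTensor_comm_rTensor, lTensor_comm_rTensor, e]

lemma injective_lTensor_pi {n : ℕ} {K : Type*} [AddCommGroup K] [Module A₀ K] (h : M →ₗ[A₀] M)
    (H : Function.Injective (h.lTensor K)) : Function.Injective (h.lTensor (Fin n → K)) := by
  rw [injective_iff_map_eq_zero]
  intro z hz
  have hid : z = ∑ i, (LinearMap.single A₀ (fun _ : Fin n => K) i).rTensor M
      ((LinearMap.proj i : (Fin n → K) →ₗ[A₀] K).rTensor M z) := by
    induction z using TensorProduct.induction_on with
    | zero => simp
    | tmul a b =>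
      simp only [LinearMap.rTensor_tmul, LinearMap.proj_apply, ← TensorProduct.sum_tmul]
      congr 1
      exact (Finset.univ_sum_single a).symm
    | add a b ha hb =>
      simp only [map_add, Finset.sum_add_distrib]
      clear hz
      have hwork : ∀ w : (Fin n → K) ⊗[A₀] M, w = ∑ i, (LinearMap.single A₀ (fun _ : Fin n => K) i).rTensor M
          ((LinearMap.proj i : (Fin n → K) →ₗ[A₀] K).rTensor M w) := by
        intro w
        induction w using TensorProduct.induction_on with
        | zero => simp
        | tmul a b =>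
          simp only [LinearMap.rTensor_tmul, LinearMap.proj_apply, ← TensorProduct.sum_tmul]
          congr 1
          exact (Finset.univ_sum_single a).symm
        | add a b ha hb =>
          simp only [map_add, Finset.sum_add_distrib]
          rw [← ha, ← hb]
      rw [← hwork a, ← hwork b]
  rw [hid]
  refine Finset.sum_eq_zero fun i _ => ?_
  have : (LinearMap.proj i : (Fin n → K) →ₗ[A₀] K).rTensor M z = 0 :=
    H (by rw [lTensor_comm_rTensor, hz, map_zero, map_zero])
  rw [this, map_zero]

/-- Injectivity on contracted quotients, by Noetherian induction. -/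
theorem injective_lTensor_quotient {R' R : Type u} [CommRing R'] [IsNoetherianRing R'] [CommRing R]
    [Algebra A₀ R'] [Algebra A₀ R] (f : R' →ₐ[A₀] R) (h : M →ₗ[A₀] M)
    (H : ∀ (K : Type u) [Field K] [Algebra A₀ K], (R →ₐ[A₀] K) → Function.Injective (h.lTensor K))
    (I : Ideal R') (J : Ideal R) (hIJ : I = J.comap f) :
    Function.Injective (h.lTensor (R' ⧸ I)) := by
  induction I using IsNoetherian.induction generalizing J with
  | _ I IH =>
  by_cases hI : I = ⊤
  · subst hI
    haveI : Subsingleton (R' ⧸ (⊤ : Ideal R')) := Ideal.Quotient.subsingleton_iff.2 rfl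
    intro z w _
    exact Subsingleton.elim _ _
  obtain ⟨p, ⟨a₀, ha₀, rfl⟩, hmax⟩ := set_has_maximal_iff_noetherian.2 ‹IsNoetherianRing R'›
    {q : Ideal R' | ∃ a, a ∉ I ∧ q = Submodule.colon I {a}}
    ⟨_, 1, (Ideal.ne_top_iff_one I).1 hI, rfl⟩
  set p := Submodule.colon I {a₀} with hp
  have hmem : ∀ r, r ∈ p ↔ r * a₀ ∈ I := fun r => by
    rw [hp, Submodule.mem_colon_singleton, smul_eq_mul]
  have hmax' : ∀ a, a ∉ I → (∀ q ∈ p, q * a ∈ I) → ∀ r, r * a ∈ I → r ∈ p := by
    intro a ha hpa r hr
    have hle : p ≤ Submodule.colon I {a} := fun q hq => by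
      rw [Submodule.mem_colon_singleton, smul_eq_mul]; exact hpa q hq
    rw [eq_of_le_of_not_lt hle (hmax _ ⟨a, ha, rfl⟩), Submodule.mem_colon_singleton, smul_eq_mul]
    exact hr
  haveI hprime : p.IsPrime := by
    refine ⟨fun e => ha₀ ?_, fun {a b} hab => ?_⟩
    · simpa using (hmem 1).1 (e ▸ Submodule.mem_top)
    · rw [or_iff_not_imp_left]
      intro ha
      refine hmax' (a * a₀) (fun h' => ha ((hmem a).2 h')) (fun q hq => ?_) b ?_
      · rw [mul_left_comm]; exact Ideal.mul_mem_left I _ ((hmem q).1 hq)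
      · rw [← mul_assoc, mul_comm b a]; exact (hmem _).1 hab
  obtain ⟨P, hP, hPp⟩ : ∃ P : Ideal R, P.IsPrime ∧ P.comap f.toRingHom = p := by
    refine (Ideal.comap_map_eq_self_iff_of_isPrime p).1 (le_antisymm (fun r hr => (hmem r).2 ?_)
      Ideal.le_comap_map)
    rw [hIJ]
    show f (r * a₀) ∈ J
    have hle : p.map f.toRingHom ≤ Submodule.colon J {f a₀} := by
      refine Ideal.map_le_iff_le_comap.2 fun q hq => ?_
      have := (hmem q).1 hq
      rw [hIJ] at this
      show f q ∈ Submodule.colon J {f a₀}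
      rw [Submodule.mem_colon_singleton, smul_eq_mul, ← map_mul]
      exact this
    have := hle hr
    rw [Submodule.mem_colon_singleton, smul_eq_mul] at this
    rw [map_mul]
    exact this
  haveI := hP
  -- the next ideal
  let J' : Ideal R := Submodule.colon J (f '' (p : Set R'))
  let L : Ideal R' := J'.comap f
  have hL : ∀ x, x ∈ L ↔ ∀ q ∈ p, q * x ∈ I := by
    intro x
    show f x ∈ J' ↔ _
    simp only [J', Submodule.mem_colon, Set.forall_mem_image, SetLike.mem_coe, smul_eq_mul, hIJ,
      Ideal.mem_comap, map_mul, mul_comm (f x)]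
  have hIL : I < L := by
    refine lt_of_le_of_ne (fun x hx => (hL x).2 fun q _ => Ideal.mul_mem_left I _ hx) fun e => ha₀ ?_
    rw [e]
    exact (hL a₀).2 fun q hq => (hmem q).1 hq
  have IH' : Function.Injective (h.lTensor (R' ⧸ L)) := IH L hIL J' rfl
  let π : (R' ⧸ I) →ₗ[A₀] R' ⧸ L := (Ideal.Quotient.factorₐ A₀ hIL.le).toLinearMap
  rw [injective_iff_map_eq_zero]
  intro z hz
  have hπz : π.rTensor M z = 0 := IH' (by rw [lTensor_comm_rTensor, hz, map_zero, map_zero])
  obtain ⟨w, rfl⟩ := (rTensor_exact M (π.exact_subtype_ker_map)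
    (Ideal.Quotient.factor_surjective hIL.le) z).1 hπz
  suffices hN : Function.Injective (h.lTensor (LinearMap.ker π)) by
    have : w = 0 := hN (by
      refine Module.Flat.rTensor_preserves_injective_linearMap (M := M) (LinearMap.ker π).subtype
        Subtype.val_injective ?_
      rw [← lTensor_comm_rTensor, hz, map_zero, map_zero])
    rw [this, map_zero]
  -- the kernel is a torsion free module over `R' ⧸ p`
  let N : Submodule R' (R' ⧸ I) := Submodule.map (Submodule.mkQ I) L
  have hN : ∀ x, π x = 0 ↔ x ∈ N := by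
    intro x
    obtain ⟨x, rfl⟩ := Ideal.Quotient.mk_surjective x
    show Ideal.Quotient.mk L x = 0 ↔ _
    rw [Ideal.Quotient.eq_zero_iff_mem]
    refine ⟨fun hx => Submodule.mem_map_of_mem hx, fun hx => ?_⟩
    obtain ⟨y, hy, hyx⟩ := hx
    have : y - x ∈ I := Ideal.Quotient.eq.1 hyx
    simpa using sub_mem hy (hIL.le this)
  have htors : Module.IsTorsionBySet R' N (p : Set R') := by
    rintro ⟨_, y, hy, rfl⟩ ⟨q, hq⟩
    apply Subtype.ext
    show q • Submodule.mkQ I y = 0
    rw [← map_smul, Submodule.mkQ_apply, Submodule.Quotient.mk_eq_zero]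
    exact (hL y).1 hy q hq
  letI : Module (R' ⧸ p) N := htors.module
  haveI : IsScalarTower R' (R' ⧸ p) N := htors.isScalarTower
  haveI : Module.Finite R' N := Module.Finite.iff_fg.2 (Submodule.FG.map _ (IsNoetherian.noetherian L))
  haveI : Module.Finite (R' ⧸ p) N := Module.Finite.of_restrictScalars_finite R' _ _
  obtain ⟨n, e, g, c, hc, hge, -⟩ := Groth.L03.Lattice.exists_free_comp (R := R' ⧸ p) N
  have heinj : Function.Injective e := by
    rw [injective_iff_map_eq_zero]
    intro x hx
    obtain ⟨r, rfl⟩ := Ideal.Quotient.mk_surjective c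
    have h0 : r • x = 0 := by
      have := hge x
      rw [hx, map_zero] at this
      rw [← IsScalarTower.algebraMap_smul (R' ⧸ p) r x]
      exact this.symm
    obtain ⟨_, y, hy, rfl⟩ := x
    by_contra hne
    refine hc (Ideal.Quotient.eq_zero_iff_mem.2 (hmax' y (fun hyI => hne ?_) ((hL y).1 hy) r ?_))
    · exact Subtype.ext ((Submodule.Quotient.mk_eq_zero I).2 hyI)
    · have := congrArg Subtype.val h0
      change r • Submodule.mkQ I y = 0 at this
      rwa [← map_smul, Submodule.mkQ_apply, Submodule.Quotient.mk_eq_zero] at this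
  let Kf := P.ResidueField
  let χ : R →ₐ[A₀] Kf := IsScalarTower.toAlgHom A₀ R Kf
  let ω : (R' ⧸ p) →ₐ[A₀] Kf := Ideal.Quotient.liftₐ p (χ.comp f) fun q hq => by
    show algebraMap R Kf (f q) = 0
    rw [Ideal.algebraMap_residueField_eq_zero]
    exact (hPp.ge hq : q ∈ P.comap f.toRingHom)
  have hω : Function.Injective ω := by
    rw [injective_iff_map_eq_zero]
    intro x hx
    obtain ⟨x, rfl⟩ := Ideal.Quotient.mk_surjective x
    have hx' : algebraMap R Kf (f x) = 0 := hx
    rw [Ideal.algebraMap_residueField_eq_zero] at hx'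
    exact Ideal.Quotient.eq_zero_iff_mem.2 (hPp.le hx')
  let ν : LinearMap.ker π →ₗ[A₀] (Fin n → Kf) :=
    { toFun := fun x i => ω (e ⟨x.1, (hN x.1).1 x.2⟩ i)
      map_add' := fun x y => by
        funext i
        show ω (e ⟨x.1 + y.1, _⟩ i) = _
        rw [show (⟨x.1 + y.1, (hN _).1 (x + y).2⟩ : N) =
          ⟨x.1, (hN x.1).1 x.2⟩ + ⟨y.1, (hN y.1).1 y.2⟩ from rfl, map_add, Pi.add_apply, map_add]
        rfl
      map_smul' := fun a x => by
        funext i
        show ω (e ⟨a • x.1, _⟩ i) = a • ω (e ⟨x.1, _⟩ i)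
        rw [show (⟨a • x.1, (hN _).1 (a • x).2⟩ : N) =
          Ideal.Quotient.mk p (algebraMap A₀ R' a) • (⟨x.1, (hN x.1).1 x.2⟩ : N) from by
            apply Subtype.ext
            show a • x.1 = algebraMap A₀ R' a • x.1
            rw [algebraMap_smul], map_smul, Pi.smul_apply, smul_eq_mul, map_mul, Algebra.smul_def]
        congr 1
        exact ω.commutes a }
  refine injective_lTensor_of_injective h ν ?_ (injective_lTensor_pi h (H Kf χ))
  intro x y hxy
  have : e ⟨x.1, (hN x.1).1 x.2⟩ = e ⟨y.1, (hN y.1).1 y.2⟩ := funext fun i => hω (congrFun hxy i)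
  exact Subtype.ext (congrArg Subtype.val (heinj this) :)

/-- **Injectivity from the fibres.** -/
theorem injective_lTensor_of_fibres [IsNoetherianRing A₀] (h : M →ₗ[A₀] M) (R : Type u) [CommRing R]
    [Algebra A₀ R]
    (H : ∀ (K : Type u) [Field K] [Algebra A₀ K], (R →ₐ[A₀] K) → Function.Injective (h.lTensor K)) :
    Function.Injective (h.lTensor R) := by
  classical
  rw [injective_iff_map_eq_zero]
  intro z hz
  obtain ⟨Q, hQ, hsub⟩ :=
    Submodule.exists_fg_le_subset_range_rTensor_subtype ({z} : Set (R ⊗[A₀] M)) (Set.finite_singleton z)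
  obtain ⟨s, rfl⟩ := hQ
  let R' := Algebra.adjoin A₀ (s : Set R)
  haveI : Algebra.FiniteType A₀ R' := (Subalgebra.fg_iff_finiteType _).1 ⟨s, rfl⟩
  haveI : IsNoetherianRing R' := Algebra.FiniteType.isNoetherianRing A₀ R'
  let i : Submodule.span A₀ (s : Set R) →ₗ[A₀] R' :=
    (Submodule.subtype _).codRestrict (Subalgebra.toSubmodule R')
      fun x => Algebra.span_le_adjoin A₀ (s : Set R) x.2
  obtain ⟨w, hw⟩ := hsub rfl
  have hcomp : R'.val.toLinearMap ∘ₗ i = Submodule.subtype _ := rfl
  have hz' : R'.val.toLinearMap.rTensor M (i.rTensor M w) = z := by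
    rw [← LinearMap.rTensor_comp_apply, hcomp, hw]
  have hinjR : Function.Injective (h.lTensor R') := by
    have hbot := injective_lTensor_quotient (R := R) R'.val h H ⊥ ⊥ (by
      ext x
      simp [Ideal.mem_comap])
    refine injective_lTensor_of_injective h (Ideal.Quotient.mkₐ A₀ (⊥ : Ideal R')).toLinearMap ?_ hbot
    intro x y hxy
    simpa [sub_eq_zero] using Ideal.Quotient.eq.1 hxy
  have : i.rTensor M w = 0 := hinjR (by
    refine Module.Flat.rTensor_preserves_injective_linearMap (M := M) R'.val.toLinearMap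
      Subtype.val_injective ?_
    rw [← lTensor_comm_rTensor, hz', hz, map_zero, map_zero])
  rw [← hz', this, map_zero]

end Groth.L02.SchDom
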