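import Groth.Agent.L02.SchDom.SectionPow
import Groth.Agent.L02.SchDom.NzdFibre
import Groth.Agent.L13.FixedLocus.Coeff
import Mathlib.RingTheory.Smooth.NoetherianDescent
import Mathlib.RingTheory.Smooth.Flat
import Mathlib.RingTheory.Filtration
import Mathlib.RingTheory.TensorProduct.Maps
import Mathlib.RingTheory.TensorProduct.Finite
import Mathlib.RingTheory.FiniteType

/-!
# Content ideals for smooth algebras with a section and integral fibres
-/

set_option autoImplicit false

universe u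

open TensorProduct

noncomputable section

namespace Groth.L02.SchDom

lemma mulLeft_lTensor_apply {A P M : Type u} [CommRing A] [CommRing P] [Algebra A P] [CommRing M]
    [Algebra A M] (h : M) (q : P ⊗[A] M) :
    (LinearMap.mulLeft A h).lTensor P q = ((1 : P) ⊗ₜ h) * q := by
  induction q using TensorProduct.induction_on with
  | zero => simp
  | tmul a b => simp
  | add a b ha hb => simp only [map_add, mul_add, ha, hb]

lemma injective_mulLeft_lTensor {A P M : Type u} [CommRing A] [CommRing P] [Algebra A P] [CommRing M]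
    [Algebra A M] [NoZeroDivisors (P ⊗[A] M)] (h : M) (hne : (1 : P) ⊗ₜ[A] h ≠ 0) :
    Function.Injective ((LinearMap.mulLeft A h).lTensor P) := by
  intro q q' hq
  rw [mulLeft_lTensor_apply, mulLeft_lTensor_apply] at hq
  exact mul_left_cancel₀ hne hq

/-- Evaluation at the section, as a map to a field. -/
lemma one_tmul_ne_zero_of_eval {A P M : Type u} [CommRing A] [CommRing P] [Algebra A P] [Nontrivial P]
    [CommRing M] [Algebra A M] (v : M →ₐ[A] P) (h : M) (hv : v h = 1) : (1 : P) ⊗ₜ[A] h ≠ 0 := by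
  intro h0
  have := congrArg (Algebra.TensorProduct.lift (AlgHom.id A P) v fun _ _ => Commute.all _ _) h0
  rw [Algebra.TensorProduct.lift_tmul, map_one, one_mul, map_zero, hv] at this
  exact one_ne_zero this

section Model

variable {A₀ B₀ : Type u} [CommRing A₀] [IsNoetherianRing A₀] [CommRing B₀] [Algebra A₀ B₀]
  [Algebra.Smooth A₀ B₀] (u : B₀ →ₐ[A₀] A₀)

/-- An element of `R ⊗ B₀` which vanishes on every infinitesimal neighbourhood of the section is
zero, if the fibres over fields receiving `R` have no zero divisors. -/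
theorem eq_zero_of_forall_pow {R : Type u} [CommRing R] [Algebra A₀ R]
    (H : ∀ (K : Type u) [Field K] [Algebra A₀ K], (R →ₐ[A₀] K) → NoZeroDivisors (K ⊗[A₀] B₀))
    (z : R ⊗[A₀] B₀)
    (hz : ∀ n : ℕ, (Ideal.Quotient.mkₐ A₀ (RingHom.ker u.toRingHom ^ n)).toLinearMap.lTensor R z = 0) :
    z = 0 := by
  classical
  let κ := RingHom.ker u.toRingHom
  obtain ⟨Q, hQ, hsub⟩ :=
    Submodule.exists_fg_le_subset_range_rTensor_subtype ({z} : Set (R ⊗[A₀] B₀)) (Set.finite_singleton z)
  obtain ⟨s, rfl⟩ := hQ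
  let R' := Algebra.adjoin A₀ (s : Set R)
  haveI : Algebra.FiniteType A₀ R' := (Subalgebra.fg_iff_finiteType _).1 ⟨s, rfl⟩
  haveI : IsNoetherianRing R' := Algebra.FiniteType.isNoetherianRing A₀ R'
  obtain ⟨w, hw⟩ := hsub rfl
  let i : Submodule.span A₀ (s : Set R) →ₗ[A₀] R' :=
    (Submodule.subtype _).codRestrict (Subalgebra.toSubmodule R')
      fun x => Algebra.span_le_adjoin A₀ (s : Set R) x.2
  let z' : R' ⊗[A₀] B₀ := i.rTensor B₀ w
  have hz' : R'.val.toLinearMap.rTensor B₀ z' = z := by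
    rw [← LinearMap.rTensor_comp_apply]
    exact hw
  let T := R' ⊗[A₀] B₀
  haveI : IsNoetherianRing T := Algebra.FiniteType.isNoetherianRing R' T
  let κ' : Ideal T := κ.map (Algebra.TensorProduct.includeRight : B₀ →ₐ[A₀] T)
  have hmem : ∀ n, z' ∈ κ' ^ n := by
    intro n
    haveI := (projective_quotient_ker_pow u n).2
    have h1 : (Ideal.Quotient.mkₐ A₀ (κ ^ n)).toLinearMap.lTensor R' z' = 0 := by
      refine Module.Flat.rTensor_preserves_injective_linearMap (M := B₀ ⧸ κ ^ n) R'.val.toLinearMap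
        Subtype.val_injective ?_
      rw [← LinearMap.comp_apply, LinearMap.rTensor_comp_lTensor, ← LinearMap.lTensor_comp_rTensor,
        LinearMap.comp_apply, hz', hz n, map_zero]
    have h2 : z' ∈ RingHom.ker (Algebra.TensorProduct.map (AlgHom.id A₀ R')
        (Ideal.Quotient.mkₐ A₀ (κ ^ n))) := RingHom.mem_ker.2 h1
    rw [Algebra.TensorProduct.lTensor_ker _ (Ideal.Quotient.mkₐ_surjective A₀ (κ ^ n))] at h2
    rw [← Ideal.map_pow]
    have hk : RingHom.ker (Ideal.Quotient.mkₐ A₀ (κ ^ n)) = κ ^ n := Ideal.mk_ker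
    rwa [hk] at h2
  obtain ⟨⟨r, hr⟩, hrz⟩ := (Ideal.mem_iInf_smul_pow_eq_bot_iff κ' z').1 (Submodule.mem_iInf _ |>.2
    fun n => by simpa using hmem n)
  let hh : T := 1 - r
  have hhz : hh * z' = 0 := by
    rw [sub_mul, one_mul, show r * z' = z' from hrz, sub_self]
  have hinj : Function.Injective ((LinearMap.mulLeft R' hh).lTensor (R' ⧸ (⊥ : Ideal R'))) := by
    refine injective_lTensor_quotient (A₀ := R') (M := T) (R := R) (Algebra.ofId R' R) _ ?_ ⊥ ⊥ ?_
    · intro K _ _ χ
      letI : Algebra A₀ K := ((algebraMap R' K).comp (algebraMap A₀ R')).toAlgebra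
      haveI : IsScalarTower A₀ R' K := IsScalarTower.of_algebraMap_eq fun _ => rfl
      let χ₀ : R →ₐ[A₀] K := χ.restrictScalars A₀
      haveI := H K χ₀
      let e : K ⊗[R'] T ≃ₐ[K] K ⊗[A₀] B₀ := Algebra.TensorProduct.cancelBaseChange A₀ R' K K B₀
      haveI : NoZeroDivisors (K ⊗[R'] T) :=
        e.injective.noZeroDivisors e (map_zero _) (map_mul _)
      let ev : T →ₐ[R'] K := Algebra.TensorProduct.lift (Algebra.ofId R' K)
        ((Algebra.ofId A₀ K).comp u) fun _ _ => Commute.all _ _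
      have hker : κ' ≤ RingHom.ker ev.toRingHom := by
        refine Ideal.map_le_iff_le_comap.2 fun b hb => ?_
        show ev ((1 : R') ⊗ₜ[A₀] b) = 0
        rw [Algebra.TensorProduct.lift_tmul, map_one, one_mul, AlgHom.comp_apply,
          show u b = 0 from hb, map_zero]
      refine injective_mulLeft_lTensor hh (one_tmul_ne_zero_of_eval ev hh ?_)
      rw [map_sub, map_one, show ev r = 0 from RingHom.mem_ker.1 (hker hr), sub_zero]
    · ext x
      simp [Ideal.mem_comap]
  have hz0 : z' = 0 := by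
    let q : T := z'
    have h4 : (Ideal.Quotient.mk (⊥ : Ideal R') 1) ⊗ₜ[R'] q = 0 := hinj (by
      rw [map_zero, LinearMap.lTensor_tmul, LinearMap.mulLeft_apply, hhz, TensorProduct.tmul_zero])
    have h5 := congrArg ((TensorProduct.congr (Submodule.quotEquivOfEqBot (⊥ : Submodule R' R') rfl)
      (LinearEquiv.refl R' T)).trans (TensorProduct.lid R' T)) h4
    simp only [LinearEquiv.trans_apply, TensorProduct.congr_tmul, TensorProduct.lid_tmul, map_zero,
      LinearEquiv.refl_apply, ← Ideal.Quotient.mk_eq_mk, Submodule.quotEquivOfEqBot_apply_mk, one_smul] at h5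
    exact h5
  rw [← hz', hz0, map_zero]

include u in
/-- Content ideals over a Noetherian base. -/
theorem exists_content_model (s : Set B₀) : ∃ c : Ideal A₀, ∀ (R : Type u) [CommRing R] [Algebra A₀ R],
    (∀ (K : Type u) [Field K] [Algebra A₀ K], (R →ₐ[A₀] K) → NoZeroDivisors (K ⊗[A₀] B₀)) →
      ((∀ x ∈ s, (1 : R) ⊗ₜ[A₀] x = 0) ↔ c ≤ RingHom.ker (algebraMap A₀ R)) := by
  refine ⟨⨆ n : ℕ, Groth.L13.FixedLocus.coeffIdeal A₀
    (Ideal.Quotient.mk (RingHom.ker u.toRingHom ^ n) '' s), fun R _ _ H => ?_⟩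
  rw [iSup_le_iff]
  constructor
  · intro h n
    haveI := (projective_quotient_ker_pow u n).2
    rw [← Groth.L13.FixedLocus.tmul_eq_zero_iff]
    rintro _ ⟨x, hx, rfl⟩
    have := congrArg ((Ideal.Quotient.mkₐ A₀ (RingHom.ker u.toRingHom ^ n)).toLinearMap.lTensor R) (h x hx)
    exact this.trans (map_zero _)
  · intro h x hx
    refine eq_zero_of_forall_pow u H _ fun n => ?_
    haveI := (projective_quotient_ker_pow u n).2
    exact (Groth.L13.FixedLocus.tmul_eq_zero_iff A₀ _ R).2 (h n) _ ⟨x, hx, rfl⟩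

end Model

variable {A B : Type u} [CommRing A] [CommRing B] [Algebra A B] [Algebra.Smooth A B]

/-- A Noetherian model of a smooth algebra containing given elements, with a section if one is given. -/
theorem exists_smooth_model (S : Finset B) (us : Finset (B →ₐ[A] A)) :
    ∃ (A₁ B₁ : Type u) (_ : CommRing A₁) (_ : IsNoetherianRing A₁) (_ : CommRing B₁)
      (_ : Algebra A₁ B₁) (_ : Algebra A₁ A) (_ : Algebra.Smooth A₁ B₁)
      (e : B ≃ₐ[A] A ⊗[A₁] B₁),
      (∀ x ∈ S, ∃ x₁ : B₁, e x = 1 ⊗ₜ x₁) ∧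
        ∀ v ∈ us, ∃ v₁ : B₁ →ₐ[A₁] A₁, ∀ b₁, v (e.symm (1 ⊗ₜ b₁)) = algebraMap A₁ A (v₁ b₁) := by
  classical
  obtain ⟨A₀, B₀, _, _, hA₀, _, ⟨e₀⟩⟩ := Algebra.Smooth.exists_subalgebra_fg (R := ℤ) (A := A) (B := B)
  haveI : Algebra.FiniteType ℤ A₀ := (Subalgebra.fg_iff_finiteType _).1 hA₀
  haveI : IsNoetherianRing A₀ := Algebra.FiniteType.isNoetherianRing ℤ A₀
  haveI : Algebra.FiniteType A₀ B₀ := inferInstance
  obtain ⟨g, hg⟩ := (Algebra.FiniteType.out : (⊤ : Subalgebra A₀ B₀).FG)
  choose P hP using fun x : B => TensorProduct.exists_finset (e₀ x)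
  let coefs : Finset A := S.biUnion fun x => (P x).image Prod.fst
  let imgs : Finset A := us.biUnion fun v => g.image fun b => v (e₀.symm (1 ⊗ₜ b))
  let A₁ := Algebra.adjoin A₀ ((coefs ∪ imgs : Finset A) : Set A)
  haveI : Algebra.FiniteType A₀ A₁ := (Subalgebra.fg_iff_finiteType _).1 ⟨_, rfl⟩
  haveI : IsNoetherianRing A₁ := Algebra.FiniteType.isNoetherianRing A₀ A₁
  let B₁ := A₁ ⊗[A₀] B₀
  let e : B ≃ₐ[A] A ⊗[A₁] B₁ := e₀.trans (Algebra.TensorProduct.cancelBaseChange A₀ A₁ A A B₀).symm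
  refine ⟨A₁, B₁, inferInstance, inferInstance, inferInstance, inferInstance, inferInstance,
    inferInstance, e, fun x hx => ?_, ?_⟩
  · have hmem : ∀ p ∈ P x, p.1 ∈ A₁ := fun p hp => Algebra.subset_adjoin (Finset.mem_coe.2
      (Finset.mem_union_left _ (Finset.mem_biUnion.2 ⟨x, hx, Finset.mem_image_of_mem _ hp⟩)))
    refine ⟨∑ p : P x, (⟨p.1.1, hmem _ p.2⟩ : A₁) ⊗ₜ[A₀] p.1.2, ?_⟩
    apply (Algebra.TensorProduct.cancelBaseChange A₀ A₁ A A B₀).injective
    simp only [e, AlgEquiv.trans_apply, AlgEquiv.apply_symm_apply, TensorProduct.tmul_sum, map_sum]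
    rw [hP x, ← Finset.sum_attach]
    refine Finset.sum_congr rfl fun p _ => ?_
    rw [Algebra.TensorProduct.cancelBaseChange_tmul]
    simp [Subalgebra.smul_def]
  · intro v hv
    let f : B₀ →ₐ[A₀] A :=
      ((v.comp e₀.symm.toAlgHom).restrictScalars A₀).comp Algebra.TensorProduct.includeRight
    have hf : ∀ b, f b ∈ A₁ := by
      intro b
      have : (⊤ : Subalgebra A₀ B₀).map f ≤ A₁ := by
        rw [← hg, AlgHom.map_adjoin, Algebra.adjoin_le_iff]
        rintro _ ⟨b, hb, rfl⟩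
        exact Algebra.subset_adjoin (Finset.mem_coe.2 (Finset.mem_union_right _
          (Finset.mem_biUnion.2 ⟨v, hv, Finset.mem_image_of_mem _ hb⟩)))
      exact this ⟨b, Algebra.mem_top, rfl⟩
    refine ⟨Algebra.TensorProduct.lift (AlgHom.id A₁ A₁) (f.codRestrict A₁ hf) fun _ _ => Commute.all _ _,
      fun b₁ => ?_⟩
    induction b₁ using TensorProduct.induction_on with
    | zero => simp
    | add a b ha hb => simp only [TensorProduct.tmul_add, map_add, ha, hb]
    | tmul a b =>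
      rw [Algebra.TensorProduct.lift_tmul, map_mul]
      have h1 : e.symm ((1 : A) ⊗ₜ[A₁] (a ⊗ₜ[A₀] b : B₁)) = (a : A) • e₀.symm ((1 : A) ⊗ₜ[A₀] b) := by
        apply e.injective
        rw [e.apply_symm_apply, map_smul]
        apply (Algebra.TensorProduct.cancelBaseChange A₀ A₁ A A B₀).injective
        simp only [e, AlgEquiv.trans_apply, AlgEquiv.apply_symm_apply, map_smul]
        refine Eq.trans (Algebra.TensorProduct.cancelBaseChange_tmul A₀ A₁ A A B₀ (1 : A) a b) ?_
        simp [TensorProduct.smul_tmul', Subalgebra.smul_def]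
      rw [h1, map_smul, smul_eq_mul]
      rfl

section Transfer

variable {A₁ B₁ : Type u} [CommRing A₁] [CommRing B₁] [Algebra A₁ B₁] [Algebra A₁ A]
  (e : B ≃ₐ[A] A ⊗[A₁] B₁) (R : Type u) [CommRing R] [Algebra A R] [Algebra A₁ R]
  [IsScalarTower A₁ A R]

/-- Base changes of a model. -/
def modelBaseChange : R ⊗[A] B ≃ₐ[R] R ⊗[A₁] B₁ :=
  (Algebra.TensorProduct.congr AlgEquiv.refl e).trans
    (Algebra.TensorProduct.cancelBaseChange A₁ A R R B₁)

omit [Algebra.Smooth A B] in
lemma modelBaseChange_tmul {x : B} {x₁ : B₁} (h : e x = 1 ⊗ₜ x₁) (r : R) :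
    modelBaseChange e R (r ⊗ₜ x) = r ⊗ₜ x₁ := by
  simp [modelBaseChange, h]

end Transfer

/-- Fields over a test ring see the fibres of the original algebra. -/
lemma noZeroDivisors_of_model {A₁ B₁ : Type u} [CommRing A₁] [CommRing B₁] [Algebra A₁ B₁] [Algebra A₁ A]
    (e : B ≃ₐ[A] A ⊗[A₁] B₁) (H : ∀ (K : Type u) [Field K] [Algebra A K], NoZeroDivisors (K ⊗[A] B))
    {R : Type u} [CommRing R] [Algebra A R] [Algebra A₁ R] [IsScalarTower A₁ A R]
    (K : Type u) [Field K] [Algebra A₁ K] (χ : R →ₐ[A₁] K) : NoZeroDivisors (K ⊗[A₁] B₁) := by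
  letI : Algebra A K := (χ.toRingHom.comp (algebraMap A R)).toAlgebra
  haveI : IsScalarTower A₁ A K := IsScalarTower.of_algebraMap_eq fun a => by
    show algebraMap A₁ K a = χ (algebraMap A R (algebraMap A₁ A a))
    rw [← IsScalarTower.algebraMap_apply, χ.commutes]
  haveI := H K
  exact (modelBaseChange e K).symm.injective.noZeroDivisors _ (map_zero _) (map_mul _)

/-- **Content ideals for smooth algebras with a section and integral fibres.** -/
theorem exists_content (u : B →ₐ[A] A)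
    (H : ∀ (K : Type u) [Field K] [Algebra A K], NoZeroDivisors (K ⊗[A] B)) (s : Set B) :
    ∃ c : Ideal A, (s.Finite → c.FG) ∧ ∀ (R : Type u) [CommRing R] [Algebra A R],
      (∀ x ∈ s, (1 : R) ⊗ₜ[A] x = 0) ↔ c ≤ RingHom.ker (algebraMap A R) := by
  classical
  have key : ∀ x : B, ∃ c : Ideal A, c.FG ∧ ∀ (R : Type u) [CommRing R] [Algebra A R],
      (1 : R) ⊗ₜ[A] x = 0 ↔ c ≤ RingHom.ker (algebraMap A R) := by
    intro x
    obtain ⟨A₁, B₁, _, _, _, _, _, _, e, hS, hu⟩ := exists_smooth_model {x} {u}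
    obtain ⟨u₁, -⟩ := hu u (Finset.mem_singleton_self u)
    obtain ⟨x₁, hx₁⟩ := hS x (Finset.mem_singleton_self x)
    obtain ⟨c₁, hc₁⟩ := exists_content_model u₁ ({x₁} : Set B₁)
    refine ⟨c₁.map (algebraMap A₁ A), Ideal.FG.map (IsNoetherian.noetherian c₁) _, fun R _ _ => ?_⟩
    letI : Algebra A₁ R := ((algebraMap A R).comp (algebraMap A₁ A)).toAlgebra
    haveI : IsScalarTower A₁ A R := IsScalarTower.of_algebraMap_eq fun _ => rfl
    have h := hc₁ R fun K _ _ χ => noZeroDivisors_of_model e H (R := R) K χ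
    simp only [Set.mem_singleton_iff, forall_eq] at h
    rw [Ideal.map_le_iff_le_comap, RingHom.comap_ker, ← IsScalarTower.algebraMap_eq, ← h,
      ← modelBaseChange_tmul e R hx₁]
    exact ((map_eq_zero_iff _ (modelBaseChange e R).injective)).symm
  choose c hfg hc using key
  refine ⟨⨆ x ∈ s, c x, fun hs => ?_, fun R _ _ => ?_⟩
  · have : (⨆ x ∈ s, c x) = ⨆ x ∈ hs.toFinset, c x := by simp
    rw [this]
    exact Submodule.fg_biSup _ _ fun x _ => hfg x
  · simp only [iSup_le_iff, hc]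

/-- **Non-zero-divisors from the fibres.** -/
theorem mul_injective_of_fibres (h : B)
    (H : ∀ (K : Type u) [Field K] [Algebra A K],
      Function.Injective fun z : K ⊗[A] B => ((1 : K) ⊗ₜ h) * z)
    (R : Type u) [CommRing R] [Algebra A R] :
    Function.Injective fun z : R ⊗[A] B => ((1 : R) ⊗ₜ h) * z := by
  classical
  obtain ⟨A₁, B₁, _, _, _, _, _, _, e, hS, -⟩ := exists_smooth_model (A := A) {h} ∅
  obtain ⟨h₁, hh₁⟩ := hS h (Finset.mem_singleton_self h)
  have hmul : ∀ (P : Type u) [CommRing P] [Algebra A₁ P] (q : P ⊗[A₁] B₁),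
      (LinearMap.mulLeft A₁ h₁).lTensor P q = ((1 : P) ⊗ₜ h₁) * q :=
    fun P _ _ q => mulLeft_lTensor_apply h₁ q
  letI : Algebra A₁ R := ((algebraMap A R).comp (algebraMap A₁ A)).toAlgebra
  haveI : IsScalarTower A₁ A R := IsScalarTower.of_algebraMap_eq fun _ => rfl
  have hinj : Function.Injective ((LinearMap.mulLeft A₁ h₁).lTensor R) := by
    refine injective_lTensor_of_fibres _ R fun K _ _ χ => ?_
    letI : Algebra A K := (χ.toRingHom.comp (algebraMap A R)).toAlgebra
    haveI : IsScalarTower A₁ A K := IsScalarTower.of_algebraMap_eq fun a => by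
      show algebraMap A₁ K a = χ (algebraMap A R (algebraMap A₁ A a))
      rw [← IsScalarTower.algebraMap_apply, χ.commutes]
    intro q q' hq
    rw [hmul, hmul] at hq
    refine (modelBaseChange e K).symm.injective (H K ?_)
    show (1 : K) ⊗ₜ[A] h * _ = (1 : K) ⊗ₜ[A] h * _
    apply (modelBaseChange e K).injective
    rw [map_mul, map_mul, modelBaseChange_tmul e K hh₁, AlgEquiv.apply_symm_apply,
      AlgEquiv.apply_symm_apply, hq]
  intro z w hzw
  apply (modelBaseChange e R).injective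
  apply hinj
  rw [hmul, hmul, ← modelBaseChange_tmul e R hh₁, ← map_mul, ← map_mul]
  exact congrArg _ hzw

end Groth.L02.SchDom
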