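import Groth.Agent.L02.SchDom.WeilSmooth
import Groth.Agent.L13.FixedLocus.Coeff
import Groth.Prelude.Def_SGA3x

/-!
# Weil restriction of a closed subscheme along an essentially free morphism
-/

set_option autoImplicit false

universe u

open CategoryTheory Limits AlgebraicGeometry TopologicalSpace
open scoped TensorProduct

set_option backward.isDefEq.respectTransparency.types false

noncomputable section

namespace Groth.L02.SchDom

/-- A condition on algebras cut out by an ideal after a faithfully flat extension is cut out by an ideal. -/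
theorem exists_ideal_of_descent {B : Type u} [CommRing B] (C : Type u) [CommRing C] [Algebra B C]
    [Module.FaithfullyFlat B C] (Q : ∀ (R : Type u) [CommRing R] [Algebra B R], Prop)
    (hmap : ∀ (R R' : Type u) [CommRing R] [Algebra B R] [CommRing R'] [Algebra B R'],
      (R →ₐ[B] R') → Q R → Q R')
    (hdescQ : ∀ (R : Type u) [CommRing R] [Algebra B R], Q (R ⊗[B] C) → Q R)
    (I' : Ideal C)
    (key : ∀ (R : Type u) [CommRing R] [Algebra B R] (β : C →ₐ[B] R), Q R ↔ I' ≤ RingHom.ker β) :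
    ∃ I : Ideal B, (I'.FG → I.FG) ∧
      ∀ (R : Type u) [CommRing R] [Algebra B R], Q R ↔ I ≤ RingHom.ker (algebraMap B R) := by
  classical
  have hdesc : I' = (I'.comap (algebraMap B C)).map (algebraMap B C) := by
    refine le_antisymm (fun c hc => ?_) Ideal.map_comap_le
    let I := I'.comap (algebraMap B C)
    let j₁ : C →ₐ[B] C ⊗[B] C := Algebra.TensorProduct.includeLeft
    let j₂ : C →ₐ[B] C ⊗[B] C := Algebra.TensorProduct.includeRight
    let q : C ⊗[B] C →ₐ[B] C ⊗[B] (C ⧸ I') := Algebra.TensorProduct.map (AlgHom.id B C) (Ideal.Quotient.mkₐ B I')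
    have hq2 : I' ≤ RingHom.ker (q.comp j₂) := fun x hx => by
      show (1 : C) ⊗ₜ[B] Ideal.Quotient.mk I' x = 0
      rw [Ideal.Quotient.eq_zero_iff_mem.2 hx, TensorProduct.tmul_zero]
    have h0 : q (j₁ c) = 0 := (key _ (q.comp j₁)).1 ((key _ (q.comp j₂)).2 hq2) hc
    let g : (B ⧸ I) →ₐ[B] C ⧸ I' :=
      Ideal.Quotient.liftₐ I ((Ideal.Quotient.mkₐ B I').comp (Algebra.ofId B C)) fun x hx =>
        Ideal.Quotient.eq_zero_iff_mem.2 hx
    have hg : Function.Injective g := (injective_iff_map_eq_zero g).2 fun x hx => by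
      obtain ⟨x, rfl⟩ := Ideal.Quotient.mk_surjective x
      exact Ideal.Quotient.eq_zero_iff_mem.2 (Ideal.Quotient.eq_zero_iff_mem.1 hx : algebraMap B C x ∈ I')
    have hinj := Module.Flat.lTensor_preserves_injective_linearMap (M := C) g.toLinearMap hg
    have h1 : (c ⊗ₜ[B] (1 : B ⧸ I) : C ⊗[B] (B ⧸ I)) = 0 := hinj (by
      rw [map_zero, LinearMap.lTensor_tmul]
      show c ⊗ₜ[B] g 1 = 0
      rw [map_one]
      exact h0)
    have h2 := congrArg (TensorProduct.quotTensorEquivQuotSMul C I ∘ TensorProduct.comm B C (B ⧸ I)) h1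
    simp only [Function.comp_apply, TensorProduct.comm_tmul, map_zero] at h2
    rw [← map_one (Ideal.Quotient.mk I), TensorProduct.quotTensorEquivQuotSMul_mk_tmul, one_smul,
      Submodule.Quotient.mk_eq_zero] at h2
    refine Submodule.smul_induction_on h2 (fun r hr x _ => ?_) fun x y hx hy => Ideal.add_mem _ hx hy
    rw [Algebra.smul_def]
    exact Ideal.mul_mem_right _ _ (Ideal.mem_map_of_mem _ hr)
  refine ⟨I'.comap (algebraMap B C), fun hfg => ?_, fun R _ _ => ?_⟩
  · obtain ⟨t, ht, htI⟩ : ∃ t : Finset B, (t : Set B) ⊆ I'.comap (algebraMap B C) ∧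
        I' ≤ (Ideal.span (t : Set B)).map (algebraMap B C) := by
      rw [hdesc, Ideal.map] at hfg
      obtain ⟨u, hu, hu'⟩ := Submodule.fg_span_iff_fg_span_finset_subset _ |>.1 hfg
      obtain ⟨t, ht, rfl⟩ := Finset.subset_set_image_iff.1 hu
      refine ⟨t, ht, hdesc.le.trans ?_⟩
      rw [Ideal.map_span, ← Finset.coe_image]
      exact hu'.le
    refine ⟨t, le_antisymm (Ideal.span_le.2 ht) ?_⟩
    exact (Ideal.comap_mono htI).trans (Ideal.comap_map_eq_self_of_faithfullyFlat _).le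
  · refine ⟨fun h b hb => ?_, fun h => hdescQ R ((key _ (Algebra.TensorProduct.includeRight)).2 ?_)⟩
    · have h' := (key _ (Algebra.TensorProduct.includeRight : C →ₐ[B] R ⊗[B] C)).1
        (hmap R _ Algebra.TensorProduct.includeLeft h) hb
      rw [RingHom.mem_ker]
      refine FaithfulSMul.algebraMap_injective R (R ⊗[B] C) ?_
      rw [map_zero, ← IsScalarTower.algebraMap_apply B R (R ⊗[B] C)]
      exact ((Algebra.TensorProduct.includeRight : C →ₐ[B] R ⊗[B] C).commutes b).symm.trans h'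
    · rw [hdesc, Ideal.map_le_iff_le_comap]
      intro b hb
      rw [Ideal.mem_comap, RingHom.mem_ker, AlgHom.commutes,
        IsScalarTower.algebraMap_apply B R (R ⊗[B] C), RingHom.mem_ker.1 (h hb), map_zero]

/-- The coefficient ideal of a finite set in a projective module is finitely generated. -/
theorem coeffIdeal_fg {C : Type u} [CommRing C] {N : Type u} [AddCommGroup N] [Module C N]
    [Module.Projective C N] {s : Set N} (hs : s.Finite) :
    (Groth.L13.FixedLocus.coeffIdeal C s).FG := by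
  classical
  obtain ⟨σ, hσ⟩ := Module.projective_def'.1 ‹Module.Projective C N›
  refine ⟨hs.toFinset.biUnion fun n => (σ n).support.image fun i => σ n i, le_antisymm ?_ ?_⟩
  · refine Ideal.span_le.2 fun c hc => ?_
    simp only [Finset.coe_biUnion, Set.Finite.coe_toFinset, Set.mem_iUnion, Finset.coe_image,
      Set.mem_image, exists_prop] at hc
    obtain ⟨n, hn, i, -, rfl⟩ := hc
    exact Ideal.subset_span ⟨n, hn, (Finsupp.lapply i).comp σ, rfl⟩
  · refine Ideal.span_le.2 ?_
    rintro _ ⟨n, hn, l, rfl⟩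
    have hn' : n = (σ n).support.sum fun i => σ n i • i := by
      conv_lhs => rw [← LinearMap.id_apply (R := C) n, ← hσ]
      rw [LinearMap.comp_apply, Finsupp.linearCombination_apply, Finsupp.sum]
      rfl
    rw [hn', map_sum]
    refine Ideal.sum_mem _ fun i hi => ?_
    rw [map_smul, smul_eq_mul]
    refine Ideal.mul_mem_right _ _ (Ideal.subset_span ?_)
    simp only [Finset.coe_biUnion, Set.Finite.coe_toFinset, Set.mem_iUnion, Finset.coe_image,
      Set.mem_image, exists_prop]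
    exact ⟨n, hn, i, hi, rfl⟩

variable {Z S Y : Scheme.{u}} {f : Z ⟶ S} {j : Y ⟶ Z}

/-- The ideal of the locus over an affine base with projective charts. -/
theorem exists_ideal_free [IsClosedImmersion j] {S' : Scheme.{u}} [IsAffine S'] (a : S' ⟶ S)
    (hV : ∀ x : ↥(pullback f a), ∃ V : (pullback f a).Opens, x ∈ V ∧ IsAffineOpen V ∧
        (letI := (V.ι ≫ pullback.snd f a).appTop.hom.toAlgebra
         Module.Projective Γ(S', ⊤) Γ(↑V, ⊤))) :
    ∃ I : Ideal Γ(S', ⊤), (QuasiCompact f → LocallyOfFinitePresentation j → I.FG) ∧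
      ∀ (R : Type u) [CommRing R] (φ : Γ(S', ⊤) →+* R),
        Lands f j (𝟙 Z) ((Spec.map (CommRingCat.ofHom φ) ≫ S'.isoSpec.inv) ≫ a) ↔
          I ≤ RingHom.ker φ := by
  classical
  let Z' := pullback f a
  choose V hxV hVaff hproj using hV
  obtain ⟨idx, hidx, hfin⟩ : ∃ s : Set Z', (∀ x, ∃ i ∈ s, x ∈ V i) ∧ (QuasiCompact f → s.Finite) := by
    by_cases hq : QuasiCompact f
    · haveI : CompactSpace Z' := QuasiCompact.compactSpace_of_compactSpace (pullback.snd f a)
      obtain ⟨t, ht⟩ := isCompact_univ.elim_finite_subcover (fun x => (V x : Set Z'))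
        (fun x => (V x).2) fun x _ => Set.mem_iUnion.2 ⟨x, hxV x⟩
      refine ⟨t, fun x => ?_, fun _ => t.finite_toSet⟩
      simpa using ht (Set.mem_univ x)
    · exact ⟨Set.univ, fun x => ⟨x, trivial, hxV x⟩, fun h => absurd h hq⟩
  letI alg : ∀ x, Algebra Γ(S', ⊤) Γ(↑(V x), ⊤) := fun x =>
    ((V x).ι ≫ pullback.snd f a).appTop.hom.toAlgebra
  haveI : ∀ x, Module.Projective Γ(S', ⊤) Γ(↑(V x), ⊤) := hproj
  haveI : ∀ x, IsAffine (V x : Scheme.{u}) := hVaff
  let b : ∀ x, Spec Γ(↑(V x), ⊤) ⟶ Z' := fun x => (V x : Scheme.{u}).isoSpec.inv ≫ (V x).ι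
  have hb : ∀ x, b x ≫ pullback.snd f a =
      Spec.map (CommRingCat.ofHom (algebraMap Γ(S', ⊤) Γ(↑(V x), ⊤))) ≫ S'.isoSpec.inv := fun x => by
    rw [Category.assoc, ← Scheme.isoSpec_inv_naturality]
    rfl
  have hJ : ∀ x, ∃ J : Ideal Γ(↑(V x), ⊤), (LocallyOfFinitePresentation j → J.FG) ∧
      ∀ (C : Type u) [CommRing C] (ψ : Γ(↑(V x), ⊤) →+* C),
        (∃ l, l ≫ j = Spec.map (CommRingCat.ofHom ψ) ≫ b x ≫ pullback.fst f a) ↔ ∀ z ∈ J, ψ z = 0 :=
    fun x => Groth.L25.Locus.exists_ideal_factors j _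
  choose J hJfg hJ using hJ
  have ht : ∀ x, ∃ t : Set Γ(↑(V x), ⊤), Ideal.span t = J x ∧
      (LocallyOfFinitePresentation j → t.Finite) := fun x => by
    by_cases hy : LocallyOfFinitePresentation j
    · obtain ⟨t, ht⟩ := hJfg x hy
      exact ⟨t, ht, fun _ => t.finite_toSet⟩
    · exact ⟨J x, Ideal.span_eq _, fun h => absurd h hy⟩
  choose t ht htfin using ht
  refine ⟨⨆ x ∈ idx, Groth.L13.FixedLocus.coeffIdeal Γ(S', ⊤) (t x), fun hq hy => ?_, fun R _ φ => ?_⟩
  · rw [← (hfin hq).coe_toFinset]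
    simp only [Finset.mem_coe]
    exact Submodule.fg_biSup _ _ fun x _ => coeffIdeal_fg (htfin x hy)
  letI := φ.toAlgebra
  let v := Spec.map (CommRingCat.ofHom φ) ≫ S'.isoSpec.inv
  rw [← lands_iff (f := f) (y := j) (a := 𝟙 Z) a v]
  simp only [iSup_le_iff]
  have key : ∀ x, Groth.L13.FixedLocus.coeffIdeal Γ(S', ⊤) (t x) ≤ RingHom.ker φ ↔
      ∃ l, l ≫ j = bcChart (pullback.snd f a) v (A := Γ(S', ⊤)) (A' := R) (B := Γ(↑(V x), ⊤)) (g₀ := 𝟙 _) (Category.id_comp _) (hb x)
        ≫ pullback.fst (pullback.snd f a) v ≫ pullback.fst f a ≫ 𝟙 Z := by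
    intro x
    refine (Groth.L13.FixedLocus.tmul_eq_zero_iff Γ(S', ⊤) (t x) R).symm.trans ?_
    let iR : Γ(↑(V x), ⊤) →ₐ[Γ(S', ⊤)] R ⊗[Γ(S', ⊤)] Γ(↑(V x), ⊤) := Algebra.TensorProduct.includeRight
    have h1 : (∀ z ∈ t x, (1 : R) ⊗ₜ[Γ(S', ⊤)] z = 0) ↔ ∀ z ∈ J x, iR z = 0 := by
      refine ⟨fun h z hz => ?_, fun h z hz => h z (ht x ▸ Ideal.subset_span hz)⟩
      exact (Ideal.span_le (I := RingHom.ker iR.toRingHom)).2 h ((ht x).symm ▸ hz)
    refine h1.trans ((hJ x _ iR.toRingHom).symm.trans ?_)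
    show _ ↔ ∃ l, l ≫ j = pullback.lift _ _ _ ≫ _ ≫ _ ≫ _
    rw [pullback.lift_fst_assoc, Category.assoc, Category.comp_id]
    rfl
  constructor
  · rintro ⟨l, hl⟩ x -
    exact (key x).2 ⟨_ ≫ l, by rw [Category.assoc, hl]⟩
  · intro h
    refine Groth.L25.Locus.factors_of_cover j _ fun w => ?_
    obtain ⟨x, hx, hxw⟩ := hidx (pullback.fst (pullback.snd f a) v w)
    obtain ⟨l, hl⟩ := (key x).1 (h x hx)
    refine ⟨_, _, bcChart_isOpenImmersion (B := Γ(↑(V x), ⊤)) _ _ _ _, ?_, l, hl⟩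
    rw [range_bcChart (B := Γ(↑(V x), ⊤))]
    refine ⟨?_, ⟨pullback.snd (pullback.snd f a) v w, rfl⟩⟩
    show _ ∈ Set.range (b x)
    have hr : Set.range (b x) = (V x : Set Z') := by
      rw [Scheme.Hom.comp_base, TopCat.coe_comp, Set.range_comp,
        Set.range_eq_univ.mpr (V x : Scheme.{u}).isoSpec.inv.surjective, Set.image_univ,
        Scheme.Opens.range_ι]
    rw [hr]
    exact hxw

/-- **Weil restriction of closed subschemes along essentially free morphisms.** -/
theorem exists_weilLocus_free [IsClosedImmersion j] (hf : SGA3x.IsEssentiallyFree f) :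
    ∃ (T : Scheme.{u}) (t : T ⟶ S), IsClosedImmersion t ∧
      ((QuasiCompact f ∧ LocallyOfFinitePresentation j) → LocallyOfFinitePresentation t) ∧
      ∀ (S' : Scheme.{u}) (g : S' ⟶ S), (∃ g', g' ≫ t = g) ↔ Lands f j (𝟙 Z) g := by
  classical
  have piece : ∀ s : S, ∃ (B : CommRingCat.{u}) (k : Spec B ⟶ S) (I : Ideal B), IsOpenImmersion k ∧
      s ∈ Set.range k ∧ (QuasiCompact f ∧ LocallyOfFinitePresentation j → I.FG) ∧
      ∀ (R : Type u) [CommRing R] (φ : B →+* R),
        Lands f j (𝟙 Z) (Spec.map (CommRingCat.ofHom φ) ≫ k) ↔ I ≤ RingHom.ker φ := by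
    intro s
    obtain ⟨U, hsU, hU, S', hS', g, hgf, hgs, hV⟩ := hf s
    haveI := hS'
    haveI : IsAffine (U : Scheme.{u}) := hU
    obtain ⟨I', hI'fg, hI'⟩ := exists_ideal_free (f := f) (j := j) (g ≫ U.ι) hV
    let ψ := Spec.preimage (S'.isoSpec.inv ≫ g ≫ hU.isoSpec.hom)
    letI : Algebra Γ(S, U) Γ(S', ⊤) := ψ.hom.toAlgebra
    have hψ : Spec.map ψ = S'.isoSpec.inv ≫ g ≫ hU.isoSpec.hom := Spec.map_preimage _
    haveI hflat : Flat (Spec.map ψ) := by rw [hψ]; infer_instance
    haveI hsurj : Surjective (Spec.map ψ) := by rw [hψ]; infer_instance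
    haveI : Module.FaithfullyFlat Γ(S, U) Γ(S', ⊤) := by
      haveI : Module.Flat Γ(S, U) Γ(S', ⊤) := (HasRingHomProperty.Spec_iff (P := @Flat)).1 hflat
      exact Module.FaithfullyFlat.of_comap_surjective fun p => hsurj.surj p
    have hψk : Spec.map ψ ≫ hU.fromSpec = S'.isoSpec.inv ≫ g ≫ U.ι := by
      rw [hψ, Category.assoc, Category.assoc, IsAffineOpen.isoSpec_hom, IsAffineOpen.toSpecΓ_fromSpec]
    obtain ⟨I, hIfg, hI⟩ := exists_ideal_of_descent (B := Γ(S, U)) Γ(S', ⊤)
      (fun R _ _ => Lands f j (𝟙 Z) (Spec.map (CommRingCat.ofHom (algebraMap Γ(S, U) R)) ≫ hU.fromSpec))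
      (fun R R' _ _ _ _ φ h => by
        have := h.comp (Spec.map (CommRingCat.ofHom φ.toRingHom))
        rw [← Category.assoc, ← Spec.map_comp, ← CommRingCat.ofHom_comp] at this
        exact φ.comp_algebraMap ▸ this)
      (fun R _ _ h => by
        let i : R →+* R ⊗[Γ(S, U)] Γ(S', ⊤) := algebraMap R _
        haveI : Flat (Spec.map (CommRingCat.ofHom i)) :=
          (HasRingHomProperty.Spec_iff (P := @Flat)).2 (RingHom.flat_algebraMap_iff.2 inferInstance)
        haveI : Surjective (Spec.map (CommRingCat.ofHom i)) :=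
          ⟨PrimeSpectrum.comap_surjective_of_faithfullyFlat⟩
        refine Lands.of_cov (Spec.map (CommRingCat.ofHom i)) ?_
        rw [← Category.assoc, ← Spec.map_comp, ← CommRingCat.ofHom_comp,
          ← IsScalarTower.algebraMap_eq]
        exact h)
      I' (fun R _ _ β => by
        refine Iff.trans (iff_of_eq ?_) (hI' R β.toRingHom)
        congr 1
        rw [Category.assoc, ← hψk, ← Spec.map_comp_assoc]
        congr 2
        ext x
        exact (β.commutes x).symm)
    refine ⟨Γ(S, U), hU.fromSpec, I, inferInstance, by rw [hU.range_fromSpec]; exact hsU,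
      fun h => hIfg (hI'fg h.1 h.2), fun R _ φ => ?_⟩
    letI := φ.toAlgebra
    exact hI R
  choose B k I hk hks hIfg hI using piece
  refine exists_closed_of_pieces B k (fun s => by haveI := hk s; infer_instance)
    (fun s => by haveI := hk s; infer_instance) (fun s => ⟨s, hks s⟩) _
    (fun s => Spec.map (CommRingCat.ofHom (Ideal.Quotient.mk (I s))))
    (fun s => IsClosedImmersion.spec_of_surjective _ Ideal.Quotient.mk_surjective)
    (fun s S' v => ?_) _ fun h s => ?_
  · haveI : IsClosedImmersion (Spec.map (CommRingCat.ofHom (Ideal.Quotient.mk (I s)))) :=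
      IsClosedImmersion.spec_of_surjective _ Ideal.Quotient.mk_surjective
    constructor
    · intro hv
      refine Groth.L25.Locus.factors_of_cover _ v fun z => ?_
      obtain ⟨D, hD, hzD, -⟩ := exists_isAffineOpen_mem_and_subset (U := (⊤ : S'.Opens)) (x := z)
        (Opens.mem_top _)
      obtain ⟨φ, hφ⟩ := Spec.map_surjective (hD.fromSpec ≫ v)
      have h1 := hv.comp hD.fromSpec
      rw [← Category.assoc, ← hφ] at h1
      have h2 := (hI s Γ(S', D) φ.hom).1 h1
      refine ⟨_, hD.fromSpec, inferInstance, hD.range_fromSpec.ge hzD,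
        Spec.map (CommRingCat.ofHom (Ideal.Quotient.lift (I s) φ.hom fun r hr => h2 hr)), ?_⟩
      rw [← Spec.map_comp, ← CommRingCat.ofHom_comp, Ideal.Quotient.lift_comp_mk, CommRingCat.ofHom_hom, hφ]
    · rintro ⟨w, rfl⟩
      rw [Category.assoc]
      exact Lands.comp ((hI s _ _).2 Ideal.mk_ker.ge) w
  · rw [HasRingHomProperty.Spec_iff (P := @LocallyOfFinitePresentation)]
    haveI : Algebra.FinitePresentation (B s) ((B s) ⧸ I s) := Algebra.FinitePresentation.quotient (hIfg s h)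
    exact RingHom.finitePresentation_algebraMap.2 this

end Groth.L02.SchDom
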