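import Groth.Agent.L02.SchDom.FlatFP
import Mathlib.LinearAlgebra.TensorProduct.Finiteness
import Mathlib.RingTheory.TensorProduct.Basic
import Mathlib.RingTheory.RingHom.Flat
import Mathlib.RingTheory.Flat.Basic
import Mathlib.LinearAlgebra.Basis.VectorSpace

/-!
# Separating families over a field stay separating under arbitrary base change (EGA IV 11.10.6)
-/

universe u w

namespace Groth.L02.SchDom

open TensorProduct

/-- Finitely many elements of `A' ⊗ M` come from a finitely generated subalgebra of `A'`. -/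
lemma exists_fg_subalgebra_lift₂ {A A' B : Type u} [CommRing A] [CommRing A'] [Algebra A A']
    [CommRing B] [Algebra A B] (x y : A' ⊗[A] B) :
    ∃ A₀ : Subalgebra A A', A₀.FG ∧ ∃ x₀ y₀ : A₀ ⊗[A] B,
      Algebra.TensorProduct.map A₀.val (AlgHom.id A B) x₀ = x ∧
      Algebra.TensorProduct.map A₀.val (AlgHom.id A B) y₀ = y := by
  classical
  obtain ⟨Sx, hx⟩ := TensorProduct.exists_finset x
  obtain ⟨Sy, hy⟩ := TensorProduct.exists_finset y
  let T : Finset A' := Sx.image Prod.fst ∪ Sy.image Prod.fst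
  let A₀ := Algebra.adjoin A (T : Set A')
  have key : ∀ S : Finset (A' × B), S.image Prod.fst ⊆ T → ∃ z : A₀ ⊗[A] B,
      Algebra.TensorProduct.map A₀.val (AlgHom.id A B) z = ∑ i ∈ S, i.1 ⊗ₜ[A] i.2 := by
    intro S hS
    refine ⟨∑ i ∈ S.attach, (⟨i.1.1, Algebra.subset_adjoin
      (hS (Finset.mem_image_of_mem _ i.2))⟩ : A₀) ⊗ₜ i.1.2, ?_⟩
    rw [map_sum, ← Finset.sum_attach S (fun i => i.1 ⊗ₜ[A] i.2)]
    simp
  obtain ⟨x₀, hx₀⟩ := key Sx Finset.subset_union_left
  obtain ⟨y₀, hy₀⟩ := key Sy Finset.subset_union_right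
  exact ⟨A₀, Subalgebra.fg_adjoin_finset T, x₀, y₀, hx₀.trans hx.symm, hy₀.trans hy.symm⟩

/-- If every `C j` is `A`-flat, separation over all finitely generated subalgebras of `A'` gives
separation over `A'`. -/
lemma LocSep.tensor_of_fg {A A' B : Type u} [CommRing A] [CommRing A'] [Algebra A A']
    [CommRing B] [Algebra A B] {ι : Type w} {C : ι → Type u} [∀ j, CommRing (C j)]
    [∀ j, Algebra A (C j)] [∀ j, Module.Flat A (C j)] (φ : ∀ j, B →ₐ[A] C j)
    (H : ∀ A₀ : Subalgebra A A', A₀.FG → LocSep fun j =>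
      (Algebra.TensorProduct.map (AlgHom.id A A₀) (φ j)).toRingHom) :
    LocSep fun j => (Algebra.TensorProduct.map (AlgHom.id A A') (φ j)).toRingHom := by
  intro h x hx
  obtain ⟨A₀, hfg, h₀, x₀, rfl, rfl⟩ := exists_fg_subalgebra_lift₂ h x
  obtain ⟨n, hn⟩ := H A₀ hfg h₀ x₀ fun j => by
    obtain ⟨n, hn⟩ := hx j
    refine ⟨n, ?_⟩
    have hinj : Function.Injective (Algebra.TensorProduct.map A₀.val (AlgHom.id A (C j))) :=
      Module.Flat.rTensor_preserves_injective_linearMap A₀.val.toLinearMap Subtype.val_injective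
    apply hinj
    rw [map_zero, ← hn]
    change ((Algebra.TensorProduct.map A₀.val (AlgHom.id A (C j))).comp
        (Algebra.TensorProduct.map (AlgHom.id A A₀) (φ j))) _ = _
    rw [← map_pow, ← map_mul]
    change _ = ((Algebra.TensorProduct.map (AlgHom.id A A') (φ j)).comp
        (Algebra.TensorProduct.map A₀.val (AlgHom.id A B))) _
    rw [← Algebra.TensorProduct.map_comp, ← Algebra.TensorProduct.map_comp]
    rfl
  refine ⟨n, ?_⟩
  rw [← map_pow, ← map_mul, hn, map_zero]

/-- **EGA IV 11.10.6**: over a field separation is preserved by any base change. -/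
theorem LocSep.field_baseChange {k B : Type u} [Field k] [CommRing B] [Algebra k B] {ι : Type w}
    {C : ι → Type u} [∀ j, CommRing (C j)] [∀ j, Algebra k (C j)] (φ : ∀ j, B →ₐ[k] C j)
    (H : LocSep fun j => (φ j).toRingHom) (A' : Type u) [CommRing A'] [Algebra k A'] :
    LocSep fun j => (Algebra.TensorProduct.map (AlgHom.id k A') (φ j)).toRingHom := by
  refine LocSep.tensor_of_fg φ fun A₀ hfg => ?_
  haveI : Algebra.FiniteType k A₀ := (Subalgebra.fg_iff_finiteType A₀).mp hfg
  haveI : Algebra.FinitePresentation k A₀ := Algebra.FinitePresentation.of_finiteType.mp inferInstance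
  letI := fun j => (φ j).toRingHom.toAlgebra
  haveI : ∀ j, IsScalarTower k B (C j) := fun j =>
    IsScalarTower.of_algebraMap_eq fun r => ((φ j).commutes r).symm
  have H' : LocSep fun j => algebraMap B (C j) := H
  haveI : Algebra.FinitePresentation B (B ⊗[k] A₀) := Algebra.FinitePresentation.baseChange B
  refine (H'.baseChange (B ⊗[k] A₀)).of_equiv (Algebra.TensorProduct.comm k B A₀).toRingEquiv
    (fun j => (Algebra.TensorProduct.cancelBaseChange k B B (C j) A₀).toRingEquiv.trans
      (Algebra.TensorProduct.comm k (C j) A₀).toRingEquiv) fun j z => ?_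
  induction z with
  | zero => simp
  | tmul b a => simp [Algebra.smul_def, RingHom.algebraMap_toAlgebra]
  | add x y hx hy => simp only [map_add, hx, hy]

end Groth.L02.SchDom
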