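import Groth.Agent.L02.SchDom.Sep
import Groth.Agent.L20.GenericFreeness
import Mathlib.RingTheory.Ideal.AssociatedPrime.Basic
import Mathlib.RingTheory.Extension.Presentation.Core
import Mathlib.RingTheory.Adjoin.FG
import Mathlib.RingTheory.FiniteType
import Mathlib.RingTheory.Localization.BaseChange
import Mathlib.RingTheory.Flat.Stability
import Mathlib.LinearAlgebra.TensorProduct.Pi
import Mathlib.RingTheory.RingHom.FinitePresentation

/-!
# Separating families are preserved by flat finitely presented base change (EGA IV 11.10.5)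

The proof reduces to a Noetherian coefficient ring, picks an annihilator prime `q` of the
offending element, and uses generic freeness of the model over `B₀ / q`.
-/

universe u w

namespace Groth.L02.SchDom

open TensorProduct

section LocQuot

variable {B₀ : Type u} [CommRing B₀] (q : Ideal B₀) (g₀ : B₀)

local notation "Dg" => Localization.Away (Ideal.Quotient.mk q g₀)

lemma locQuot {N : Type u} [AddCommGroup N] [Module B₀ N] (hN : ∀ a ∈ q, ∀ n : N, a • n = 0) :
    (∀ x : Dg ⊗[B₀] N, ∃ (k : ℕ) (n : N), g₀ ^ k • x = (1 : Dg) ⊗ₜ n) ∧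
      ∀ n : N, (1 : Dg) ⊗ₜ[B₀] n = 0 → ∃ k : ℕ, g₀ ^ k • n = 0 := by
  have htop : q • (⊤ : Submodule B₀ N) = ⊥ :=
    eq_bot_iff.mpr (Submodule.smul_le.mpr fun a ha n _ => by simp [hN a ha n])
  let e₁ : (B₀ ⧸ q) ⊗[B₀] N ≃ₗ[B₀] N :=
    (TensorProduct.quotTensorEquivQuotSMul N q) ≪≫ₗ Submodule.quotEquivOfEqBot _ htop
  have he₁ : ∀ n : N, e₁ (1 ⊗ₜ n) = n := by
    intro n
    simp only [e₁, LinearEquiv.trans_apply]
    erw [TensorProduct.quotTensorEquivQuotSMul_mk_tmul]
    simp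
  have hsurj : ∀ m : (B₀ ⧸ q) ⊗[B₀] N, ∃ n : N, m = 1 ⊗ₜ n :=
    fun m => ⟨e₁ m, e₁.injective (he₁ _).symm⟩
  let S := Submonoid.powers (Ideal.Quotient.mk q g₀)
  let f := TensorProduct.mk (B₀ ⧸ q) Dg ((B₀ ⧸ q) ⊗[B₀] N) 1
  haveI : IsLocalizedModule S f := inferInstance
  let c := TensorProduct.AlgebraTensorModule.cancelBaseChange B₀ (B₀ ⧸ q) Dg Dg N
  have hc : ∀ n : N, c (f (1 ⊗ₜ n)) = (1 : Dg) ⊗ₜ n := fun n => by simp [c, f]
  have hpow : ∀ (k : ℕ) (m : Dg ⊗[B₀ ⧸ q] ((B₀ ⧸ q) ⊗[B₀] N)),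
      (Ideal.Quotient.mk q g₀ ^ k) • m = g₀ ^ k • m := by
    intro k m
    have h1 : (Ideal.Quotient.mk q g₀ ^ k : B₀ ⧸ q) = algebraMap B₀ (B₀ ⧸ q) (g₀ ^ k) :=
      (map_pow (algebraMap B₀ (B₀ ⧸ q)) g₀ k).symm
    exact h1 ▸ IsScalarTower.algebraMap_smul (B₀ ⧸ q) (g₀ ^ k) m
  constructor
  · intro x
    obtain ⟨⟨m, ⟨_, k, rfl⟩⟩, hm⟩ := IsLocalizedModule.surj S f (c.symm x)
    obtain ⟨n, rfl⟩ := hsurj m
    refine ⟨k, n, ?_⟩
    rw [← hc]
    have h2 : g₀ ^ k • c.symm x = f (1 ⊗ₜ n) := (hpow k _).symm.trans hm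
    rw [← h2, ← LinearEquiv.coe_coe c, LinearMap.map_smul_of_tower, LinearEquiv.coe_coe,
      LinearEquiv.apply_symm_apply]
  · intro n hn
    have : f (1 ⊗ₜ n) = 0 := c.injective (by rw [hc, hn, map_zero])
    obtain ⟨⟨_, k, rfl⟩, hk⟩ := (IsLocalizedModule.eq_zero_iff S f).mp this
    refine ⟨k, ?_⟩
    replace hk : (Ideal.Quotient.mk q g₀ ^ k : B₀ ⧸ q) • ((1 : B₀ ⧸ q) ⊗ₜ[B₀] n) = 0 := hk
    have hk' : g₀ ^ k • ((1 : B₀ ⧸ q) ⊗ₜ[B₀] n) = 0 := by
      have h1 : (Ideal.Quotient.mk q g₀ ^ k : B₀ ⧸ q) = algebraMap B₀ (B₀ ⧸ q) (g₀ ^ k) :=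
        (map_pow (algebraMap B₀ (B₀ ⧸ q)) g₀ k).symm
      rwa [h1, IsScalarTower.algebraMap_smul] at hk
    have := congrArg e₁ hk'
    rwa [map_smul, he₁, map_zero] at this

end LocQuot

section Generic

variable {B₀ : Type u} [CommRing B₀] (q : Ideal B₀) (g₀ : B₀)
  (R₀ : Type u) [CommRing R₀] [Algebra B₀ R₀]

local notation "Dg" => Localization.Away (Ideal.Quotient.mk q g₀)

/-- If the reduction of `R₀` modulo `q` is projective after inverting `g₀`, then a separating
family of modules killed by `q` stays separating, up to powers of `g₀`, after tensoring with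
`R₀`. -/
lemma eq_zero_of_generic_projective [Module.Projective Dg (Dg ⊗[B₀] R₀)]
    {N : Type u} [AddCommGroup N] [Module B₀ N] (hN : ∀ a ∈ q, ∀ n : N, a • n = 0)
    {ι : Type w} {N' : ι → Type u} [∀ j, AddCommGroup (N' j)] [∀ j, Module B₀ (N' j)]
    (hN' : ∀ j, ∀ a ∈ q, ∀ n : N' j, a • n = 0) (ψ : ∀ j, N →ₗ[B₀] N' j)
    (H : ∀ n : N, (∀ j, ∃ k : ℕ, g₀ ^ k • ψ j n = 0) → ∃ k : ℕ, g₀ ^ k • n = 0)
    (w : R₀ ⊗[B₀] N) (hw : ∀ j, (ψ j).lTensor R₀ w = 0) : ∃ k : ℕ, g₀ ^ k • w = 0 := by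
  let G := Dg ⊗[B₀] R₀
  have hu : IsUnit (algebraMap B₀ Dg g₀) :=
    IsLocalization.map_units Dg (⟨Ideal.Quotient.mk q g₀, Submonoid.mem_powers _⟩ :
      Submonoid.powers (Ideal.Quotient.mk q g₀))
  have hsep : LSep (M := Dg ⊗[B₀] N) (N := fun j => Dg ⊗[B₀] N' j) LinearMap.id
      (fun _ => LinearMap.id) (fun j => (ψ j).baseChange Dg) := by
    rw [lSep_id_iff]
    intro x hx
    obtain ⟨k, n, hkn⟩ := (locQuot q g₀ hN).1 x
    obtain ⟨l, hl⟩ := H n fun j => (locQuot q g₀ (hN' j)).2 _ <| by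
      rw [← LinearMap.baseChange_tmul, ← hkn, LinearMap.map_smul_of_tower, hx j, smul_zero]
    have h0 : g₀ ^ (l + k) • x = 0 := by
      rw [pow_add, mul_smul, hkn, ← TensorProduct.tmul_smul, hl, TensorProduct.tmul_zero]
    rw [← algebraMap_smul Dg, map_pow] at h0
    exact (hu.pow (l + k)).smul_eq_zero.mp h0
  have hG := (hsep.lTensor_projective G)
  simp only [LinearMap.lTensor_id] at hG
  rw [lSep_id_iff] at hG
  -- the comparison map `R₀ ⊗ M → (Dg ⊗ R₀) ⊗ (Dg ⊗ M)`
  have hG' := hG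
  clear hG
  let Φ : ∀ (M : Type u) [AddCommGroup M] [Module B₀ M],
      R₀ ⊗[B₀] M →ₗ[B₀] G ⊗[Dg] (Dg ⊗[B₀] M) := fun M _ _ =>
    ((TensorProduct.AlgebraTensorModule.cancelBaseChange B₀ Dg Dg G M).symm.toLinearMap.restrictScalars B₀)
      ∘ₗ (TensorProduct.mk B₀ Dg R₀ 1).rTensor M
  have hΦ : ∀ j, (LinearMap.lTensor G ((ψ j).baseChange Dg)) (Φ N w) = Φ (N' j) ((ψ j).lTensor R₀ w) := by
    intro j
    clear hw
    induction w with
    | zero => simp
    | tmul r n => simp [Φ]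
    | add a b ha hb => simp only [map_add, ha, hb]
  have h0 : Φ N w = 0 := hG' _ fun j => by rw [hΦ, hw, map_zero]
  have h1 : (TensorProduct.mk B₀ Dg R₀ 1).rTensor N w = 0 := by
    have := congrArg (TensorProduct.AlgebraTensorModule.cancelBaseChange B₀ Dg Dg G N) h0
    simpa [Φ] using this
  have h2 : (1 : Dg) ⊗ₜ[B₀] w = 0 := by
    have hassoc : ∀ v : R₀ ⊗[B₀] N, TensorProduct.assoc B₀ Dg R₀ N
        ((TensorProduct.mk B₀ Dg R₀ 1).rTensor N v) = (1 : Dg) ⊗ₜ v := by
      intro v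
      induction v with
      | zero => simp
      | tmul r n => simp
      | add a b ha hb => simp only [map_add, ha, hb, TensorProduct.tmul_add]
    rw [← hassoc, h1, map_zero]
  refine (locQuot q g₀ (N := R₀ ⊗[B₀] N) ?_).2 _ h2
  intro a ha v
  induction v with
  | zero => simp
  | tmul r n => rw [← TensorProduct.tmul_smul, hN a ha, TensorProduct.tmul_zero]
  | add x y hx hy => rw [smul_add, hx, hy, add_zero]

end Generic

section Model

variable {B₀ : Type u} [CommRing B₀] {R₀ : Type u} [CommRing R₀] [Algebra B₀ R₀]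
  {B : Type u} [CommRing B] [Algebra B₀ B]

omit [CommRing R₀] [Algebra B₀ R₀] in
lemma exact_lTensor_of_flat (R : Type u) [CommRing R] [Algebra B₀ R] [Module.Flat B (B ⊗[B₀] R)]
    {M₁ M₂ M₃ : Type u} [AddCommGroup M₁] [Module B M₁] [Module B₀ M₁] [IsScalarTower B₀ B M₁]
    [AddCommGroup M₂] [Module B M₂] [Module B₀ M₂] [IsScalarTower B₀ B M₂]
    [AddCommGroup M₃] [Module B M₃] [Module B₀ M₃] [IsScalarTower B₀ B M₃]
    (f : M₁ →ₗ[B] M₂) (g : M₂ →ₗ[B] M₃) :
    (Function.Injective f → Function.Injective ((f.restrictScalars B₀).lTensor R)) ∧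
      (Function.Exact f g →
        Function.Exact ((f.restrictScalars B₀).lTensor R) ((g.restrictScalars B₀).lTensor R)) := by
  have hnat : ∀ {M M' : Type u} [AddCommGroup M] [Module B M] [Module B₀ M]
      [IsScalarTower B₀ B M] [AddCommGroup M'] [Module B M'] [Module B₀ M']
      [IsScalarTower B₀ B M'] (φ : M →ₗ[B] M') (x : M ⊗[B] (B ⊗[B₀] R)),
      (φ.restrictScalars B₀).lTensor R (TensorProduct.comm B₀ M R
          (TensorProduct.AlgebraTensorModule.cancelBaseChange B₀ B B M R x)) =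
        TensorProduct.comm B₀ M' R
          (TensorProduct.AlgebraTensorModule.cancelBaseChange B₀ B B M' R
            (φ.rTensor (B ⊗[B₀] R) x)) := by
    intro M M' _ _ _ _ _ _ _ _ φ x
    induction x with
    | zero => simp
    | tmul m y =>
      induction y with
      | zero => simp
      | tmul b r => simp
      | add a b ha hb => simp only [TensorProduct.tmul_add, map_add, ha, hb]
    | add a b ha hb => simp only [map_add, ha, hb]
  let e : ∀ (M : Type u) [AddCommGroup M] [Module B M] [Module B₀ M] [IsScalarTower B₀ B M],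
      M ⊗[B] (B ⊗[B₀] R) ≃+ R ⊗[B₀] M := fun M _ _ _ _ =>
    (TensorProduct.AlgebraTensorModule.cancelBaseChange B₀ B B M R).toAddEquiv.trans
      (TensorProduct.comm B₀ M R).toAddEquiv
  constructor
  · intro hf x y hxy
    obtain ⟨a, rfl⟩ := (e M₁).surjective x
    obtain ⟨b, rfl⟩ := (e M₁).surjective y
    refine congrArg _ (Module.Flat.rTensor_preserves_injective_linearMap f hf ((e M₂).injective ?_))
    exact (hnat f a).symm.trans (hxy.trans (hnat f b))
  · intro hfg y
    obtain ⟨b, rfl⟩ := (e M₂).surjective y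
    have hE := (Module.Flat.rTensor_exact (B ⊗[B₀] R) hfg) b
    constructor
    · intro h0
      obtain ⟨a, rfl⟩ := hE.mp ((e M₃).injective (by
        rw [map_zero]
        exact (hnat g b).symm.trans h0))
      exact ⟨e M₁ a, hnat f a⟩
    · rintro ⟨x, hx⟩
      obtain ⟨a, rfl⟩ := (e M₁).surjective x
      have : g.rTensor (B ⊗[B₀] R) b = 0 := hE.mpr ⟨a, (e M₂).injective ((hnat f a).symm.trans hx)⟩
      refine (hnat g b).trans ?_
      rw [this, map_zero, map_zero]

/-- **Core of EGA IV 11.10.5**: over a Noetherian coefficient ring. -/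
theorem eq_zero_of_model [IsNoetherianRing B₀] [Algebra.FiniteType B₀ R₀]
    [Module.Flat B (B ⊗[B₀] R₀)] {ι : Type w} {C : ι → Type u} [∀ j, CommRing (C j)]
    [∀ j, Algebra B (C j)] [∀ j, Algebra B₀ (C j)] [∀ j, IsScalarTower B₀ B (C j)]
    (H : LocSep fun j => algebraMap B (C j)) (u : R₀ ⊗[B₀] B)
    (hu : ∀ j, ((Algebra.linearMap B (C j)).restrictScalars B₀).lTensor R₀ u = 0) : u = 0 := by
  by_contra hne
  let M₀ := Submodule.span B₀ {u}
  haveI : Nontrivial M₀ := nontrivial_of_ne (⟨u, Submodule.subset_span rfl⟩ : M₀) 0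
    fun h => hne (Subtype.ext_iff.mp h)
  obtain ⟨q, hq⟩ := associatedPrimes.nonempty B₀ M₀
  obtain ⟨hqp, v, hv⟩ := (isAssociatedPrime_iff_exists_injective_linearMap q M₀).mp hq |>.imp id
    (fun ⟨f, hf⟩ => (⟨f 1, fun a => by
      rw [← map_smul, map_eq_zero_iff f hf, Algebra.smul_def, mul_one,
        Ideal.Quotient.algebraMap_eq, Ideal.Quotient.eq_zero_iff_mem]⟩ :
      ∃ v : M₀, ∀ a : B₀, a • v = 0 ↔ a ∈ q))
  haveI := hqp
  obtain ⟨c, hc⟩ := Submodule.mem_span_singleton.mp v.2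
  let u₁ : R₀ ⊗[B₀] B := (v : R₀ ⊗[B₀] B)
  have hu₁ : ∀ j, ((Algebra.linearMap B (C j)).restrictScalars B₀).lTensor R₀ u₁ = 0 := fun j => by
    rw [show u₁ = c • u from hc.symm, map_smul, hu j, smul_zero]
  have hann : ∀ a : B₀, a • u₁ = 0 ↔ a ∈ q := fun a => by
    rw [← hv a]; exact (Subtype.ext_iff (a1 := a • v) (a2 := (0 : M₀))).symm
  obtain ⟨s, hs⟩ := (IsNoetherian.noetherian q : q.FG)
  classical
  let P : B →ₗ[B] (s → B) := LinearMap.pi fun a => algebraMap B₀ B a.1 • LinearMap.id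
  let N : Submodule B B := LinearMap.ker P
  let N' : ∀ j, Submodule B (C j) := fun j =>
    { carrier := {x | ∀ a ∈ q, a • x = 0}
      add_mem' := fun hx hy a ha => by rw [smul_add, hx a ha, hy a ha, add_zero]
      zero_mem' := fun a _ => smul_zero a
      smul_mem' := fun b x hx a ha => by
        change a • (b • x) = 0
        rw [smul_comm, hx a ha, smul_zero] }
  have hN : ∀ a ∈ q, ∀ n : N, a • n = 0 := by
    intro a ha n
    let I : Ideal B₀ :=
      { carrier := {a | a • n = 0}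
        add_mem' := fun {x y} hx hy => by
          simp only [Set.mem_setOf_eq] at hx hy ⊢; rw [add_smul, hx, hy, add_zero]
        zero_mem' := zero_smul _ _
        smul_mem' := fun c x hx => by
          simp only [Set.mem_setOf_eq, smul_eq_mul] at hx ⊢; rw [mul_smul, hx, smul_zero] }
    refine (show q ≤ I from hs ▸ Submodule.span_le.mpr fun x hx => ?_) ha
    apply Subtype.ext
    have := congrFun (LinearMap.mem_ker.mp n.2) ⟨x, hx⟩
    simpa [P, Algebra.smul_def] using this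
  have hψmem : ∀ j (n : N), Algebra.linearMap B (C j) n.1 ∈ N' j := fun j n a ha => by
    have h := congrArg (fun m : N => ((Algebra.linearMap B (C j)).restrictScalars B₀) m.1) (hN a ha n)
    simpa using h
  let ψ : ∀ j, N →ₗ[B] N' j := fun j =>
    ((Algebra.linearMap B (C j)).comp N.subtype).codRestrict (N' j) (hψmem j)
  obtain ⟨w, hw⟩ : u₁ ∈ Set.range ((N.subtype.restrictScalars B₀).lTensor R₀) := by
    refine (((exact_lTensor_of_flat (B₀ := B₀) R₀ N.subtype P).2
      (LinearMap.exact_subtype_ker_map P)) u₁).mp ((TensorProduct.piRight B₀ B₀ R₀ _).injective ?_)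
    ext a
    rw [map_zero, Pi.zero_apply]
    have : ∀ y : R₀ ⊗[B₀] B,
        TensorProduct.piRight B₀ B₀ R₀ _ ((P.restrictScalars B₀).lTensor R₀ y) a = a.1 • y := by
      intro y
      induction y with
      | zero => simp
      | tmul r b => rw [← TensorProduct.tmul_smul]; simp [P, Algebra.smul_def]
      | add x y hx hy => simp only [map_add, Pi.add_apply, hx, hy, smul_add]
    rw [this, hann]
    exact hs ▸ Submodule.subset_span a.2
  have hwj : ∀ j, ((ψ j).restrictScalars B₀).lTensor R₀ w = 0 := by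
    intro j
    apply (exact_lTensor_of_flat (B₀ := B₀) R₀ (N' j).subtype (0 : C j →ₗ[B] C j)).1
      (Submodule.injective_subtype _)
    rw [map_zero, ← LinearMap.comp_apply, ← LinearMap.lTensor_comp]
    have : ((N' j).subtype.restrictScalars B₀) ∘ₗ ((ψ j).restrictScalars B₀) =
        ((Algebra.linearMap B (C j)).restrictScalars B₀) ∘ₗ (N.subtype.restrictScalars B₀) := rfl
    rw [this, LinearMap.lTensor_comp, LinearMap.comp_apply, hw, hu₁ j]
  -- generic freeness
  obtain ⟨g, hg0, hfree, -⟩ := Groth.L20.GF.exists_free_and_nearlyFP (R := B₀ ⧸ q)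
    (S := (B₀ ⧸ q) ⊗[B₀] R₀) ((B₀ ⧸ q) ⊗[B₀] R₀)
  obtain ⟨g₀, rfl⟩ := Ideal.Quotient.mk_surjective g
  haveI := hfree
  haveI : Module.Free (Localization.Away (Ideal.Quotient.mk q g₀))
      (Localization.Away (Ideal.Quotient.mk q g₀) ⊗[B₀] R₀) :=
    Module.Free.of_equiv (TensorProduct.AlgebraTensorModule.cancelBaseChange B₀ (B₀ ⧸ q)
      (Localization.Away (Ideal.Quotient.mk q g₀)) (Localization.Away (Ideal.Quotient.mk q g₀)) R₀)
  obtain ⟨k, hk⟩ := eq_zero_of_generic_projective q g₀ R₀ hN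
    (N' := fun j => N' j) (fun j a ha (n : N' j) => Subtype.ext (n.2 a ha)) (fun j => (ψ j).restrictScalars B₀) (fun n hn => by
      obtain ⟨k, hk⟩ := H (algebraMap B₀ B g₀) n.1 fun j => by
        obtain ⟨k, hk⟩ := hn j
        refine ⟨k, ?_⟩
        have := congrArg Subtype.val hk
        simpa [ψ, Algebra.smul_def, ← IsScalarTower.algebraMap_apply B₀ B (C j)] using this
      exact ⟨k, Subtype.ext (by simpa [Algebra.smul_def] using hk)⟩) w hwj
  have : g₀ ^ k • u₁ = 0 := by rw [← hw, ← map_smul, hk, map_zero]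
  exact hg0 (Ideal.Quotient.eq_zero_iff_mem.mpr (hqp.mem_of_pow_mem k ((hann _).mp this)))

end Model

/-- **EGA IV 11.10.5**, ring form: a separating family stays jointly injective after a flat base
change of finite presentation. -/
theorem LocSep.tensor_eq_zero {B : Type u} [CommRing B] {ι : Type w} {C : ι → Type u}
    [∀ j, CommRing (C j)] [∀ j, Algebra B (C j)] (H : LocSep fun j => algebraMap B (C j))
    {B' : Type u} [CommRing B'] [Algebra B B'] [Module.Flat B B']
    [Algebra.FinitePresentation B B'] (x : B') (hx : ∀ j, (1 : C j) ⊗ₜ[B] x = 0) : x = 0 := by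
  let Pr := Algebra.Presentation.ofFinitePresentation B B'
  let B₀ := Algebra.adjoin ℤ Pr.coeffs
  haveI : Pr.HasCoeffs B₀ := ⟨by simp [B₀]⟩
  haveI : Algebra.FiniteType ℤ B₀ :=
    (Subalgebra.fg_iff_finiteType B₀).mp ⟨Pr.finite_coeffs.toFinset, by simp [B₀]⟩
  haveI : IsNoetherianRing B₀ := Algebra.FiniteType.isNoetherianRing ℤ B₀
  let R₀ := Pr.ModelOfHasCoeffs B₀
  let e : B ⊗[B₀] R₀ ≃ₐ[B] B' := Pr.tensorModelOfHasCoeffsEquiv B₀
  haveI : Module.Flat B (B ⊗[B₀] R₀) := Module.Flat.of_linearEquiv e.toLinearEquiv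
  let u : R₀ ⊗[B₀] B := TensorProduct.comm B₀ B R₀ (e.symm x)
  have key : ∀ (j : ι) (y : B ⊗[B₀] R₀),
      ((Algebra.linearMap B (C j)).restrictScalars B₀).lTensor R₀ (TensorProduct.comm B₀ B R₀ y) =
      TensorProduct.comm B₀ (C j) R₀ (TensorProduct.AlgebraTensorModule.cancelBaseChange B₀ B B
        (C j) R₀ ((1 : C j) ⊗ₜ[B] y)) := by
    intro j y
    induction y with
    | zero => simp
    | tmul b r => simp [Algebra.algebraMap_eq_smul_one]
    | add a b ha hb => simp only [map_add, TensorProduct.tmul_add, ha, hb]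
  have hu0 : u = 0 := eq_zero_of_model H u fun j => by
    rw [key]
    have h1 : (1 : C j) ⊗ₜ[B] (e.symm x) =
        (e.symm.toLinearEquiv.toLinearMap).lTensor (C j) ((1 : C j) ⊗ₜ[B] x) := by simp
    rw [h1, hx j, map_zero, map_zero, map_zero]
  have : e.symm x = 0 := (TensorProduct.comm B₀ B R₀).injective (by rw [map_zero]; exact hu0)
  simpa using congrArg e this

/-- **EGA IV 11.10.5**: `LocSep` is stable under flat base change of finite presentation. -/
theorem LocSep.baseChange {B : Type u} [CommRing B] {ι : Type w} {C : ι → Type u}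
    [∀ j, CommRing (C j)] [∀ j, Algebra B (C j)] (H : LocSep fun j => algebraMap B (C j))
    (B' : Type u) [CommRing B'] [Algebra B B'] [Module.Flat B B']
    [Algebra.FinitePresentation B B'] :
    LocSep fun j =>
      (Algebra.TensorProduct.includeRight : B' →ₐ[B] C j ⊗[B] B').toRingHom := by
  intro h x hx
  let Bh := Localization.Away h
  haveI : Algebra.FinitePresentation B' Bh := IsLocalization.Away.finitePresentation h
  haveI : Algebra.FinitePresentation B Bh := Algebra.FinitePresentation.trans B B' Bh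
  haveI : Module.Flat B Bh := Module.Flat.trans B B' Bh
  let ι' : B' →ₗ[B] Bh := (IsScalarTower.toAlgHom B B' Bh).toLinearMap
  have h0 : algebraMap B' Bh x = 0 := by
    refine H.tensor_eq_zero _ fun j => ?_
    obtain ⟨n, hn⟩ := hx j
    change (1 : C j) ⊗ₜ[B] (h ^ n * x) = 0 at hn
    have h1 := congrArg (LinearMap.lTensor (C j) ι') hn
    rw [map_zero, LinearMap.lTensor_tmul] at h1
    change (1 : C j) ⊗ₜ[B] algebraMap B' Bh (h ^ n * x) = 0 at h1
    obtain ⟨v, hv⟩ := (IsLocalization.map_units Bh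
      (⟨h ^ n, n, rfl⟩ : Submonoid.powers h))
    have h2 := congrArg (fun z => ((1 : C j) ⊗ₜ[B] (↑v⁻¹ : Bh)) * z) h1
    simp only [mul_zero, Algebra.TensorProduct.tmul_mul_tmul, one_mul, map_mul] at h2
    rwa [← mul_assoc, ← hv, Units.inv_mul, one_mul] at h2
  obtain ⟨⟨_, n, rfl⟩, hn⟩ :=
    (IsLocalization.map_eq_zero_iff (Submonoid.powers h) Bh x).mp h0
  exact ⟨n, hn⟩

end Groth.L02.SchDom
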