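import Groth.Agent.L02.SchDom.MonoLocus
import Groth.Agent.L20.FibreScheme
import Groth.Agent.L25.Locus.Smooth

/-!
# Centralizers, normalizers and transporters of smooth subgroups with connected fibres
-/

set_option autoImplicit false

universe u

open CategoryTheory Limits MonoidalCategory CartesianMonoidalCategory MonObj GrpObj AlgebraicGeometry

set_option backward.isDefEq.respectTransparency.types false

noncomputable section

namespace Groth.L02.SchDom

variable {S : Scheme.{u}}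

/-- The inverse image of a monomorphism. -/
theorem exists_preimage {X Y K : Over S} (j : K ⟶ Y) [Mono j.left] [LocallyOfFinitePresentation j.left]
    (c : X ⟶ Y) : ∃ (P : Over S) (y : P ⟶ X), Mono y.left ∧ LocallyOfFinitePresentation y.left ∧
      ∀ (T : Over S) (q : T ⟶ X), (∃ p, p ≫ y = q) ↔ ∃ κ, κ ≫ j = q ≫ c := by
  refine ⟨Over.mk (pullback.snd j.left c.left ≫ X.hom), Over.homMk (pullback.snd j.left c.left),
    (inferInstance : Mono (pullback.snd j.left c.left)),
    (inferInstance : LocallyOfFinitePresentation (pullback.snd j.left c.left)), fun T q => ?_⟩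
  constructor
  · rintro ⟨p, rfl⟩
    refine ⟨Over.homMk (p.left ≫ pullback.fst j.left c.left) ?_, Over.OverMorphism.ext ?_⟩
    · show (p.left ≫ pullback.fst j.left c.left) ≫ K.hom = T.hom
      rw [Category.assoc, ← Over.w j, pullback.condition_assoc, Over.w c]
      exact Over.w p
    · show (p.left ≫ pullback.fst j.left c.left) ≫ j.left = (p.left ≫ pullback.snd j.left c.left) ≫ c.left
      rw [Category.assoc, Category.assoc, pullback.condition]
  · rintro ⟨κ, hκ⟩
    refine ⟨Over.homMk (pullback.lift κ.left q.left (congrArg CommaMorphism.left hκ)) ?_,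
      Over.OverMorphism.ext (pullback.lift_snd _ _ _)⟩
    show _ ≫ pullback.snd j.left c.left ≫ X.hom = T.hom
    rw [pullback.lift_snd_assoc]
    exact Over.w q

variable (G H : Over S) [GrpObj G] [GrpObj H] [Smooth H.hom]

/-- Transporter of a smooth group with connected fibres, by a conjugation-like family of homomorphisms. -/
theorem exists_transporter_of_hom (hf : IrrFib H.hom) {K : Over S} [GrpObj K] (j : K ⟶ G) [IsMonHom j]
    [Mono j.left] [LocallyOfFinitePresentation j.left] (c : G ⊗ H ⟶ G)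
    (hc1 : ∀ (T : Over S) (g : T ⟶ G), lift g 1 ≫ c = 1)
    (hcm : ∀ (T : Over S) (g : T ⟶ G) (a b : T ⟶ H), lift g (a * b) ≫ c = (lift g a ≫ c) * (lift g b ≫ c)) :
    ∃ (Z : Over S) (z : Z ⟶ G), IsClosedImmersion z.left ∧ LocallyOfFinitePresentation z.left ∧
      ∀ (T : Over S) (g : T ⟶ G), (∃ w, w ≫ z = g) ↔
        ∀ (T' : Over S) (x : T' ⟶ T) (h : T' ⟶ H), ∃ κ, κ ≫ j = lift (x ≫ g) h ≫ c := by
  obtain ⟨P, y, hy, hyl, hP⟩ := exists_preimage j c
  obtain ⟨Z, z, hz, hzl, hZ⟩ := exists_transporter hf y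
    (fun T g => (hP T _).2 ⟨1, by rw [MonObj.one_comp, hc1]⟩)
    (fun T g a b ha hb => by
      obtain ⟨κ, hκ⟩ := (hP T _).1 ha
      obtain ⟨κ', hκ'⟩ := (hP T _).1 hb
      exact (hP T _).2 ⟨κ * κ', by rw [MonObj.mul_comp, hκ, hκ', hcm]⟩)
  exact ⟨Z, z, hz, hzl, fun T g => (hZ T g).trans
    (forall_congr' fun T' => forall_congr' fun x => forall_congr' fun h => hP T' _)⟩

variable {G H}

/-- Conjugation. -/
theorem exists_conjTransporter (hf : IrrFib H.hom) (i : H ⟶ G) [IsMonHom i] {K : Over S} [GrpObj K]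
    (j : K ⟶ G) [IsMonHom j] [Mono j.left] [LocallyOfFinitePresentation j.left] :
    ∃ (Z : Over S) (z : Z ⟶ G), IsClosedImmersion z.left ∧ LocallyOfFinitePresentation z.left ∧
      ∀ (T : Over S) (g : T ⟶ G), (∃ w, w ≫ z = g) ↔
        ∀ (T' : Over S) (x : T' ⟶ T) (h : T' ⟶ H), ∃ κ : T' ⟶ K,
          (x ≫ g) * (h ≫ i) * (x ≫ g)⁻¹ = κ ≫ j := by
  obtain ⟨Z, z, hz, hzl, hZ⟩ := exists_transporter_of_hom G H hf j
    (fst G H * (snd G H ≫ i) * (fst G H)⁻¹)
    (fun T g => by simp [MonObj.comp_mul, GrpObj.comp_inv, MonObj.one_comp])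
    (fun T g a b => by simp [MonObj.comp_mul, GrpObj.comp_inv, MonObj.mul_comp, _root_.mul_assoc])
  refine ⟨Z, z, hz, hzl, fun T g => (hZ T g).trans
    (forall_congr' fun T' => forall_congr' fun x => forall_congr' fun h => exists_congr fun κ => ?_)⟩
  simp only [MonObj.comp_mul, GrpObj.comp_inv, lift_fst, lift_snd_assoc]
  exact eq_comm

/-- The normalizer as a closed subscheme. -/
theorem exists_normalizer (hf : IrrFib H.hom) (i : H ⟶ G) [IsMonHom i] [Mono i.left]
    [LocallyOfFinitePresentation i.left] :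
    ∃ (Z : Over S) (z : Z ⟶ G), IsClosedImmersion z.left ∧ LocallyOfFinitePresentation z.left ∧
      ∀ (T : Over S) (g : T ⟶ G), (∃ w, w ≫ z = g) ↔
        ∀ (T' : Over S) (x : T' ⟶ T) (h : T' ⟶ H),
          (∃ h' : T' ⟶ H, (x ≫ g) * (h ≫ i) * (x ≫ g)⁻¹ = h' ≫ i) ∧
          (∃ h' : T' ⟶ H, (x ≫ g)⁻¹ * (h ≫ i) * (x ≫ g) = h' ≫ i) := by
  obtain ⟨Z₁, z₁, hz₁, hl₁, hZ₁⟩ := exists_conjTransporter hf i i
  obtain ⟨Z₂, z₂, hz₂, hl₂, hZ₂⟩ := exists_transporter_of_hom G H hf i
    ((fst G H)⁻¹ * (snd G H ≫ i) * fst G H)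
    (fun T g => by simp [MonObj.comp_mul, GrpObj.comp_inv, MonObj.one_comp])
    (fun T g a b => by simp [MonObj.comp_mul, GrpObj.comp_inv, MonObj.mul_comp, _root_.mul_assoc])
  haveI := hz₁; haveI := hl₁; haveI := hz₂; haveI := hl₂
  obtain ⟨P, y, hy, hyl, hP⟩ := exists_preimage z₂ z₁
  haveI := hy; haveI := hyl
  refine ⟨Over.mk ((pullback.fst z₁.left z₂.left ≫ z₁.left) ≫ G.hom),
    Over.homMk (pullback.fst z₁.left z₂.left ≫ z₁.left),
    (inferInstance : IsClosedImmersion (pullback.fst z₁.left z₂.left ≫ z₁.left)),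
    (inferInstance : LocallyOfFinitePresentation (pullback.fst z₁.left z₂.left ≫ z₁.left)), fun T g => ?_⟩
  have hboth : (∃ w, w ≫ z₁ = g) ∧ (∃ w, w ≫ z₂ = g) ↔ _ := and_congr (hZ₁ T g) (hZ₂ T g)
  refine Iff.trans ?_ (hboth.trans ?_)
  · constructor
    · rintro ⟨w, rfl⟩
      refine ⟨⟨Over.homMk (w.left ≫ pullback.fst z₁.left z₂.left) ?_, Over.OverMorphism.ext ?_⟩,
        ⟨Over.homMk (w.left ≫ pullback.snd z₁.left z₂.left) ?_, Over.OverMorphism.ext ?_⟩⟩
      · show (w.left ≫ pullback.fst z₁.left z₂.left) ≫ Z₁.hom = T.hom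
        rw [Category.assoc, ← Over.w z₁, ← Category.assoc (pullback.fst _ _)]
        exact Over.w w
      · exact Category.assoc _ _ _
      · show (w.left ≫ pullback.snd z₁.left z₂.left) ≫ Z₂.hom = T.hom
        rw [Category.assoc, ← Over.w z₂, ← pullback.condition_assoc, ← Category.assoc (pullback.fst _ _)]
        exact Over.w w
      · show (w.left ≫ _) ≫ z₂.left = w.left ≫ pullback.fst z₁.left z₂.left ≫ z₁.left
        rw [Category.assoc, ← pullback.condition]
    · rintro ⟨⟨a, ha⟩, b, hb⟩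
      refine ⟨Over.homMk (pullback.lift a.left b.left
        (by rw [← Over.comp_left, ← Over.comp_left, ha, hb])) ?_, Over.OverMorphism.ext ?_⟩
      · show _ ≫ (pullback.fst z₁.left z₂.left ≫ z₁.left) ≫ G.hom = T.hom
        rw [Category.assoc, pullback.lift_fst_assoc, ← Category.assoc, ← Over.comp_left, ha, Over.w g]
      · show pullback.lift a.left b.left _ ≫ pullback.fst z₁.left z₂.left ≫ z₁.left = g.left
        exact (pullback.lift_fst_assoc _ _ _ _).trans (congrArg CommaMorphism.left ha)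
  · constructor
    · rintro ⟨h₁, h₂⟩ T' x h
      obtain ⟨κ, hκ⟩ := h₂ T' x h
      simp only [MonObj.comp_mul, GrpObj.comp_inv, lift_fst, lift_snd_assoc] at hκ
      exact ⟨h₁ T' x h, κ, hκ.symm⟩
    · intro hall
      refine ⟨fun T' x h => (hall T' x h).1, fun T' x h => ?_⟩
      obtain ⟨κ, hκ⟩ := (hall T' x h).2
      refine ⟨κ, ?_⟩
      simp only [MonObj.comp_mul, GrpObj.comp_inv, lift_fst, lift_snd_assoc]
      exact hκ.symm

/-- The centralizer as a closed subscheme. -/
theorem exists_centralizer (hf : IrrFib H.hom) [LocallyOfFiniteType G.hom] (i : H ⟶ G) [IsMonHom i] :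
    ∃ (Z : Over S) (z : Z ⟶ G), IsClosedImmersion z.left ∧ LocallyOfFinitePresentation z.left ∧
      ∀ (T : Over S) (g : T ⟶ G), (∃ w, w ≫ z = g) ↔
        ∀ (T' : Over S) (x : T' ⟶ T) (h : T' ⟶ H), (x ≫ g) * (h ≫ i) = (h ≫ i) * (x ≫ g) := by
  let δ : G ⟶ G ⊗ G := lift (𝟙 G) (𝟙 G)
  have hδ : δ.left = pullback.diagonal G.hom := rfl
  haveI : Mono δ.left := by rw [hδ]; infer_instance
  haveI : LocallyOfFinitePresentation δ.left := by
    rw [hδ]
    haveI : LocallyOfFinitePresentation (pullback.diagonal G.hom ≫ pullback.fst G.hom G.hom) := by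
      rw [pullback.diagonal_fst]; infer_instance
    exact Groth.L20.locallyOfFinitePresentation_of_comp (pullback.diagonal G.hom) (pullback.fst G.hom G.hom)
  obtain ⟨P, y, hy, hyl, hP⟩ := exists_preimage δ
    (lift (fst G H * (snd G H ≫ i)) ((snd G H ≫ i) * fst G H))
  haveI := hy; haveI := hyl
  have hP' : ∀ (T : Over S) (g : T ⟶ G) (h : T ⟶ H),
      (∃ p, p ≫ y = lift g h) ↔ g * (h ≫ i) = (h ≫ i) * g := by
    intro T g h
    rw [hP]
    constructor
    · rintro ⟨κ, hκ⟩
      have h1 := congrArg (· ≫ fst G G) hκ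
      have h2 := congrArg (· ≫ snd G G) hκ
      simp [δ, MonObj.comp_mul] at h1 h2
      exact h1.symm.trans h2
    · intro e
      refine ⟨g * (h ≫ i), ?_⟩
      apply CartesianMonoidalCategory.hom_ext
      · simp [δ, MonObj.comp_mul]
      · simp [δ, MonObj.comp_mul, e]
  obtain ⟨Z, z, hz, hzl, hZ⟩ := exists_transporter hf y
    (fun T g => (hP' T g 1).2 (by simp [MonObj.one_comp]))
    (fun T g a b ha hb => (hP' T g _).2 (by
      rw [MonObj.mul_comp, ← _root_.mul_assoc, (hP' T g a).1 ha, _root_.mul_assoc, (hP' T g b).1 hb, _root_.mul_assoc]))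
  exact ⟨Z, z, hz, hzl, fun T g => (hZ T g).trans
    (forall_congr' fun T' => forall_congr' fun x => forall_congr' fun h => hP' T' _ h)⟩

/-- Weil restriction of a subgroup. -/
theorem exists_subgroupLocus {X Y : Over S} [GrpObj X] [GrpObj Y] [Smooth X.hom] (hf : IrrFib X.hom)
    (i : Y ⟶ X) [IsMonHom i] [Mono i.left] [LocallyOfFinitePresentation i.left] :
    ∃ (T : Scheme.{u}) (t : T ⟶ S), IsClosedImmersion t ∧ LocallyOfFinitePresentation t ∧
      ∀ (S' : Scheme.{u}) (g : S' ⟶ S), (∃ g', g' ≫ t = g) ↔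
        ∃ l, l ≫ i.left = pullback.fst X.hom g := by
  obtain ⟨P, y, hy, hyl, hP⟩ := exists_preimage i (snd (𝟙_ (Over S)) X)
  haveI := hy; haveI := hyl
  have hP' : ∀ (T : Over S) (g : T ⟶ 𝟙_ (Over S)) (h : T ⟶ X),
      (∃ p, p ≫ y = lift g h) ↔ ∃ κ, κ ≫ i = h := fun T g h => by rw [hP]; simp
  obtain ⟨Z, z, hz, hzl, hZ⟩ := exists_transporter hf y
    (fun T g => (hP' T g 1).2 ⟨1, MonObj.one_comp _⟩)
    (fun T g a b ha hb => by
      obtain ⟨κ, hκ⟩ := (hP' T g a).1 ha
      obtain ⟨κ', hκ'⟩ := (hP' T g b).1 hb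
      exact (hP' T g _).2 ⟨κ * κ', by rw [MonObj.mul_comp, hκ, hκ']⟩)
  refine ⟨Z.left, z.left, hz, hzl, fun S' g => ?_⟩
  let T : Over S := Over.mk g
  refine Iff.trans ?_ ((hZ T (toUnit T)).trans ?_)
  · have hzw : z.left = Z.hom := by
      have h := Over.w z
      exact (Category.comp_id _).symm.trans h
    constructor
    · rintro ⟨g', hg'⟩
      exact ⟨Over.homMk g' (by show g' ≫ Z.hom = g; rw [← hzw]; exact hg'), toUnit_unique _ _⟩
    · rintro ⟨w, -⟩
      exact ⟨w.left, by rw [hzw]; exact Over.w w⟩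
  · constructor
    · intro hall
      let T' : Over S := Over.mk (pullback.snd X.hom g ≫ g)
      let h : T' ⟶ X := Over.homMk (pullback.fst X.hom g) pullback.condition
      obtain ⟨κ, hκ⟩ := (hP' T' _ h).1 (hall T' (Over.homMk (pullback.snd X.hom g)) h)
      exact ⟨κ.left, congrArg CommaMorphism.left hκ⟩
    · rintro ⟨l, hl⟩ T' x h
      refine (hP' T' _ h).2 ⟨Over.homMk (pullback.lift (f := X.hom) (g := g) h.left x.left ((Over.w h).trans (Over.w x).symm) ≫ l) ?_,
        Over.OverMorphism.ext ?_⟩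
      · show _ ≫ Y.hom = _
        rw [← Over.w i, Category.assoc, reassoc_of% hl, pullback.lift_fst_assoc, Over.w h]
      · show (_ ≫ l) ≫ i.left = h.left
        rw [Category.assoc, hl, pullback.lift_fst]

end Groth.L02.SchDom
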