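import Groth.Agent.L02.SchDom.SectionNbhd
import Mathlib.AlgebraicGeometry.Morphisms.Smooth
import Mathlib.AlgebraicGeometry.Morphisms.FormallyUnramified
import Mathlib.AlgebraicGeometry.Morphisms.Etale
import Mathlib.RingTheory.Unramified.LocalStructure

/-!
# Charts of a monomorphism into a smooth scheme at a section
-/

set_option autoImplicit false

universe u

open CategoryTheory Limits AlgebraicGeometry TopologicalSpace

noncomputable section

namespace Groth.L02.SchDom

/-- Chart data: a closed immersion into an etale neighbourhood. -/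
structure MonoChart {X S P : Scheme.{u}} (f : X ⟶ S) (y : P ⟶ X) (p : P) where
  A₀ : Type u
  [instA : CommRing A₀]
  j₀ : Spec (CommRingCat.of A₀) ⟶ S
  open_j₀ : IsOpenImmersion j₀
  mem_j₀ : f (y p) ∈ Set.range j₀
  B : Type u
  [instB : CommRing B]
  [algB : Algebra A₀ B]
  smoothB : Algebra.Smooth A₀ B
  bU : Spec (CommRingCat.of B) ⟶ X
  open_bU : IsOpenImmersion bU
  comm_bU : bU ≫ f = Spec.map (CommRingCat.ofHom (algebraMap A₀ B)) ≫ j₀
  E : Type u
  [instE : CommRing E]
  [algE : Algebra B E]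
  etaleE : Algebra.Etale B E
  C : Type u
  [instC : CommRing C]
  [algC : Algebra B C]
  c : Spec (CommRingCat.of C) ⟶ P
  open_c : IsOpenImmersion c
  mem_c : p ∈ Set.range c
  comm_c : c ≫ y = Spec.map (CommRingCat.ofHom (algebraMap B C)) ≫ bU
  φ : E →ₐ[B] C
  surj : Function.Surjective φ
  G : Finset E
  span_G : Ideal.span (G : Set E) = RingHom.ker φ.toRingHom

theorem exists_monoChart {X S P : Scheme.{u}} (f : X ⟶ S) [Smooth f] (y : P ⟶ X) [Mono y]
    [LocallyOfFinitePresentation y] (p : P) : Nonempty (MonoChart f y p) := by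
  classical
  obtain ⟨D, hD, hsD, -⟩ := exists_isAffineOpen_mem_and_subset (U := (⊤ : S.Opens)) (x := f (y p))
    (Opens.mem_top _)
  obtain ⟨U, hU, hxU, hUD⟩ := exists_isAffineOpen_mem_and_subset (U := f ⁻¹ᵁ D) (x := y p) hsD
  obtain ⟨W, hW, hpW, hWU⟩ := exists_isAffineOpen_mem_and_subset (U := y ⁻¹ᵁ U) (x := p) hxU
  letI algB : Algebra Γ(S, D) Γ(X, U) := (f.appLE D U hUD).hom.toAlgebra
  letI algC : Algebra Γ(X, U) Γ(P, W) := (y.appLE U W hWU).hom.toAlgebra
  haveI : IsOpenImmersion (pullback.diagonal y) := inferInstance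
  haveI : FormallyUnramified y := inferInstance
  haveI hun : Algebra.FormallyUnramified Γ(X, U) Γ(P, W) :=
    RingHom.formallyUnramified_algebraMap.1 (y.formallyUnramified_appLE hU hW hWU)
  haveI hfp : Algebra.FinitePresentation Γ(X, U) Γ(P, W) := y.finitePresentation_appLE hU hW hWU
  haveI hsm : Algebra.Smooth Γ(S, D) Γ(X, U) := RingHom.smooth_algebraMap.1 (f.smooth_appLE hD hU hUD)
  let q := hW.primeIdealOf ⟨p, hpW⟩
  haveI : Algebra.IsUnramifiedAt Γ(X, U) q.asIdeal := inferInstance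
  obtain ⟨f₀, hf₀, Q, φ, hφ⟩ := Algebra.IsUnramifiedAt.exists_hasStandardEtaleSurjectionOn
    (R := Γ(X, U)) q.asIdeal
  haveI : Algebra.FinitePresentation Γ(X, U) (Localization.Away f₀) :=
    Algebra.FinitePresentation.trans Γ(X, U) Γ(P, W) (Localization.Away f₀)
  obtain ⟨G, hG⟩ := Algebra.FinitePresentation.ker_fG_of_surjective φ hφ
  let loc := Spec.map (CommRingCat.ofHom (algebraMap Γ(P, W) (Localization.Away f₀)))
  haveI : IsOpenImmersion loc := IsOpenImmersion.of_isLocalization f₀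
  refine ⟨⟨Γ(S, D), hD.fromSpec, inferInstance, by rw [hD.range_fromSpec]; exact hsD, Γ(X, U), hsm,
    hU.fromSpec, inferInstance, ?_, Q.Ring, inferInstance, Localization.Away f₀, loc ≫ hW.fromSpec,
    inferInstance, ?_, ?_, φ, hφ, G, hG⟩⟩
  · exact (IsAffineOpen.SpecMap_appLE_fromSpec f hD hU hUD).symm
  · obtain ⟨z, hz⟩ := (PrimeSpectrum.localization_away_comap_range (Localization.Away f₀) f₀).ge
      (show q ∈ PrimeSpectrum.basicOpen f₀ from hf₀)
    refine ⟨z, ?_⟩
    rw [Scheme.Hom.comp_apply]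
    exact (congrArg hW.fromSpec hz).trans (hW.fromSpec_primeIdealOf ⟨p, hpW⟩)
  · rw [Category.assoc, ← IsAffineOpen.SpecMap_appLE_fromSpec y hU hW hWU, ← Spec.map_comp_assoc]
    rfl

end Groth.L02.SchDom
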