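import Groth.Agent.L02.SchDom.MonoPiece
import Groth.Agent.L25.RatConn
import Mathlib.CategoryTheory.Monoidal.Cartesian.Over
import Mathlib.CategoryTheory.Monoidal.Cartesian.Grp
import Mathlib.AlgebraicGeometry.Fiber

/-!
# The locus where a fibrewise subgroup contains a smooth group with connected fibres
-/

set_option autoImplicit false

universe u

open CategoryTheory Limits MonoidalCategory CartesianMonoidalCategory MonObj GrpObj AlgebraicGeometry

set_option backward.isDefEq.respectTransparency.types false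

noncomputable section

namespace Groth.L02.SchDom

variable {S : Scheme.{u}}

theorem isPullback_fst_snd (A B : Over S) :
    IsPullback (fst A B).left (snd A B).left A.hom B.hom :=
  IsPullback.of_hasPullback A.hom B.hom

theorem isPullback_whiskerRight {A B : Over S} (g : A ⟶ B) (H : Over S) :
    IsPullback (g ▷ H).left (fst A H).left (fst B H).left g.left := by
  refine IsPullback.of_right ?_ ?_ (isPullback_fst_snd B H).flip
  · rw [← Over.comp_left, whiskerRight_snd, Over.w g]
    exact (isPullback_fst_snd A H).flip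
  · rw [← Over.comp_left, ← Over.comp_left, whiskerRight_fst]

/-- Connected fibres of a group scheme are geometrically connected. -/
theorem irrFib_of_group (H : Over S) [GrpObj H] [Smooth H.hom]
    (hconn : ∀ s : S, ConnectedSpace ↥(pullback H.hom (S.fromSpecResidueField s))) : IrrFib H.hom := by
  refine IrrFib.of_connected H.hom fun s => ?_
  haveI := hconn s
  let e : S ⟶ H.left := (η[H] : 𝟙_ (Over S) ⟶ H).left
  have he : e ≫ H.hom = 𝟙 S := Over.w (η[H] : 𝟙_ (Over S) ⟶ H)
  let sec : Spec (S.residueField s) ⟶ pullback H.hom (S.fromSpecResidueField s) :=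
    pullback.lift (S.fromSpecResidueField s ≫ e) (𝟙 _) (by rw [Category.assoc, he, Category.comp_id, Category.id_comp])
  haveI : GeometricallyConnected (pullback.snd H.hom (S.fromSpecResidueField s)) :=
    Groth.L25.RatConn.geometricallyConnected_of_section
      (pullback.snd H.hom (S.fromSpecResidueField s)) sec (pullback.lift_snd _ _ _)
  let a : Spec (CommRingCat.of (AlgebraicClosure (S.residueField s))) ⟶ Spec (S.residueField s) :=
    Spec.map (CommRingCat.ofHom (algebraMap (S.residueField s) (AlgebraicClosure (S.residueField s))))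
  haveI : ConnectedSpace ↥(pullback (pullback.snd H.hom (S.fromSpecResidueField s)) a) :=
    GeometricallyConnected.geometrically_connectedSpace _ _ _ (IsPullback.of_hasPullback _ a)
  let ε := (pullbackLeftPullbackSndIso H.hom (S.fromSpecResidueField s) a).hom.homeomorph
  exact ε.surjective.connectedSpace ε.continuous

theorem connectedSpace_fiber_of_isConnected {X : Scheme.{u}} (f : X ⟶ S) (s : S)
    (h : _root_.IsConnected (f.base ⁻¹' {s})) :
    ConnectedSpace ↥(pullback f (S.fromSpecResidueField s)) := by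
  haveI : ConnectedSpace ↥(f.base ⁻¹' {s}) := isConnected_iff_connectedSpace.1 h
  exact (f.fiberHomeo s).symm.surjective.connectedSpace (f.fiberHomeo s).symm.continuous

variable {G H P : Over S} [GrpObj H] [Smooth H.hom]

/-- If a neighbourhood of the unit section lands in a fibrewise subgroup, everything does. -/
theorem factors_of_open_subgroup (hf : IrrFib H.hom) (y : P ⟶ G ⊗ H) [Mono y.left]
    (hmul : ∀ (T : Over S) (g : T ⟶ G) (a b : T ⟶ H), (∃ p, p ≫ y = lift g a) →
      (∃ p, p ≫ y = lift g b) → ∃ p, p ≫ y = lift g (a * b))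
    {T : Over S} (g : T ⟶ G) (V : (T ⊗ H).left.Opens)
    (hV : Set.range (lift (𝟙 T) (1 : T ⟶ H)).left ⊆ V)
    (hl : ∃ l, l ≫ y.left = V.ι ≫ (g ▷ H).left) :
    ∃ l, l ≫ y.left = (g ▷ H).left := by
  obtain ⟨l, hl⟩ := hl
  let Vo : Over S := Over.mk (V.ι ≫ (T ⊗ H).hom)
  let oV : Vo ⟶ T ⊗ H := Over.homMk V.ι
  let a : Vo ⟶ T := oV ≫ fst T H
  let b : Vo ⟶ H := oV ≫ snd T H
  let p : Vo ⟶ P := Over.homMk l (by
    show l ≫ P.hom = V.ι ≫ (T ⊗ H).hom
    rw [← Over.w y, reassoc_of% hl, Over.w (g ▷ H)])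
  have hp : p ≫ y = lift (a ≫ g) b := by
    have h1 : p ≫ y = oV ≫ g ▷ H := Over.OverMorphism.ext hl
    rw [h1]
    apply CartesianMonoidalCategory.hom_ext
    · simp [a]
    · simp [b]
  let Zo : Over S := Over.mk (pullback.fst a.left a.left ≫ Vo.hom)
  let z₁ : Zo ⟶ Vo := Over.homMk (pullback.fst a.left a.left)
  let z₂ : Zo ⟶ Vo := Over.homMk (pullback.snd a.left a.left) (by
    show pullback.snd a.left a.left ≫ Vo.hom = pullback.fst a.left a.left ≫ Vo.hom
    rw [← Over.w a, pullback.condition_assoc])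
  have hz : z₁ ≫ a = z₂ ≫ a := Over.OverMorphism.ext pullback.condition
  let k : Zo ⟶ Vo ⊗ H := lift z₁ (z₂ ≫ b)
  let Ψ : Vo ⊗ H ≅ Vo ⊗ H :=
    { hom := lift (fst _ _) ((fst _ _ ≫ b) * snd _ _)
      inv := lift (fst _ _) ((fst _ _ ≫ b)⁻¹ * snd _ _)
      hom_inv_id := by
        apply CartesianMonoidalCategory.hom_ext
        · simp
        · simp [GrpObj.comp_inv, MonObj.comp_mul]
      inv_hom_id := by
        apply CartesianMonoidalCategory.hom_ext
        · simp
        · simp [MonObj.comp_mul] }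
  let m : Zo ⟶ T ⊗ H := k ≫ Ψ.hom ≫ a ▷ H
  have hm : m = lift (z₁ ≫ a) ((z₁ ≫ b) * (z₂ ≫ b)) := by
    apply CartesianMonoidalCategory.hom_ext
    · simp [m, k, Ψ]
    · simp [m, k, Ψ, MonObj.comp_mul]
  haveI : Smooth (fst T H).left :=
    MorphismProperty.of_isPullback (isPullback_fst_snd T H).flip inferInstance
  haveI : Smooth a.left := by
    show Smooth (V.ι ≫ (fst T H).left)
    infer_instance
  haveI : Smooth (a ▷ H).left := MorphismProperty.of_isPullback (isPullback_whiskerRight a H).flip inferInstance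
  haveI : IsOpenImmersion k.left := by
    have hk : IsPullback k.left z₂.left (a ▷ H).left V.ι := by
      refine IsPullback.of_right (h₁₂ := (fst Vo H).left) (h₂₂ := (fst T H).left) (v₁₃ := a.left) ?_ ?_
        (isPullback_whiskerRight a H).flip
      · rw [← Over.comp_left, show k ≫ fst Vo H = z₁ from lift_fst _ _]
        exact IsPullback.of_hasPullback a.left a.left
      · have h1 : k ≫ a ▷ H = z₂ ≫ oV := by
          apply CartesianMonoidalCategory.hom_ext
          · simp [k, hz, a]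
          · simp [k, b]
        exact congrArg CommaMorphism.left h1
    exact MorphismProperty.of_isPullback hk.flip inferInstance
  haveI : IsIso Ψ.hom.left := ((Over.forget S).mapIso Ψ).isIso_hom
  haveI : Flat m.left := by show Flat (k.left ≫ Ψ.hom.left ≫ (a ▷ H).left); infer_instance
  haveI : LocallyOfFinitePresentation m.left := by
    show LocallyOfFinitePresentation (k.left ≫ Ψ.hom.left ≫ (a ▷ H).left); infer_instance
  haveI : Surjective m.left := ⟨fun z => by
    let K := AlgebraicClosure ((T ⊗ H).left.residueField z)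
    let pt : Spec (CommRingCat.of K) ⟶ (T ⊗ H).left := Red.geomPt z
    let Kp : Over S := Over.mk (pt ≫ (T ⊗ H).hom)
    let zK : Kp ⟶ T ⊗ H := Over.homMk pt
    let τ : Kp ⟶ T := zK ≫ fst T H
    let h : Kp ⟶ H := zK ≫ snd T H
    haveI : IrreducibleSpace ↥(Kp ⊗ H).left := by
      haveI := hf K Kp.hom
      exact (isPullback_fst_snd Kp H).flip.isoPullback.inv.homeomorph.surjective.irreducibleSpace
        (isPullback_fst_snd Kp H).flip.isoPullback.inv.continuous
    let sh : Kp ⊗ H ≅ Kp ⊗ H :=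
      { hom := lift (fst _ _) ((snd _ _)⁻¹ * (fst _ _ ≫ h))
        inv := lift (fst _ _) ((fst _ _ ≫ h) * (snd _ _)⁻¹)
        hom_inv_id := by
          apply CartesianMonoidalCategory.hom_ext
          · simp
          · simp [MonObj.comp_mul, GrpObj.comp_inv]
        inv_hom_id := by
          apply CartesianMonoidalCategory.hom_ext
          · simp
          · simp [MonObj.comp_mul, GrpObj.comp_inv] }
    haveI : IsIso sh.hom.left := ((Over.forget S).mapIso sh).isIso_hom
    let VF : (Kp ⊗ H).left.Opens := (τ ▷ H).left ⁻¹ᵁ V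
    let o : Kp ⟶ Kp ⊗ H := lift (𝟙 _) 1
    have ho : o.left (IsLocalRing.closedPoint K) ∈ VF := by
      show (τ ▷ H).left (o.left _) ∈ V
      refine hV ⟨τ.left (IsLocalRing.closedPoint K), ?_⟩
      rw [← Scheme.Hom.comp_apply, ← Scheme.Hom.comp_apply, ← Over.comp_left, ← Over.comp_left]
      refine congrArg (fun φ : Kp ⟶ T ⊗ H => φ.left (IsLocalRing.closedPoint K)) ?_
      apply CartesianMonoidalCategory.hom_ext
      · simp [o]
      · simp [o, MonObj.comp_one]
    obtain ⟨q, hq₁, hq₂⟩ := nonempty_preirreducible_inter VF.2 (sh.hom.left ⁻¹ᵁ VF).2 ⟨_, ho⟩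
      ⟨inv sh.hom.left (o.left (IsLocalRing.closedPoint K)), by
        show sh.hom.left (inv sh.hom.left _) ∈ VF
        rw [← Scheme.Hom.comp_apply, IsIso.inv_hom_id]
        exact ho⟩
    let Eo : Over S := Over.mk ((Kp ⊗ H).left.fromSpecResidueField q ≫ (Kp ⊗ H).hom)
    let qq : Eo ⟶ Kp ⊗ H := Over.homMk ((Kp ⊗ H).left.fromSpecResidueField q)
    have hmem : ∀ (φ : Kp ⊗ H ⟶ Kp ⊗ H), φ.left q ∈ VF →
        ∃ v : Eo ⟶ Vo, v ≫ oV = qq ≫ φ ≫ τ ▷ H := by
      intro φ hφ
      have hr : Set.range (qq ≫ φ ≫ τ ▷ H).left ⊆ Set.range V.ι := by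
        rw [Scheme.Opens.range_ι]
        rintro _ ⟨w, rfl⟩
        rw [Over.comp_left, Over.comp_left, Scheme.Hom.comp_apply, Scheme.Hom.comp_apply]
        have : qq.left w = q := Scheme.fromSpecResidueField_apply q w
        rw [this]
        exact hφ
      refine ⟨Over.homMk (IsOpenImmersion.lift V.ι _ hr) ?_, Over.OverMorphism.ext (IsOpenImmersion.lift_fac _ _ hr)⟩
      show _ ≫ V.ι ≫ (T ⊗ H).hom = _
      rw [IsOpenImmersion.lift_fac_assoc, Over.w]
    obtain ⟨v₁, hv₁⟩ := hmem (𝟙 _) hq₁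
    obtain ⟨v₂, hv₂⟩ := hmem sh.hom hq₂
    have e₁a : v₁ ≫ a = qq ≫ fst _ _ ≫ τ := by simp [a, reassoc_of% hv₁]
    have e₂a : v₂ ≫ a = qq ≫ fst _ _ ≫ τ := by simp [a, reassoc_of% hv₂, sh]
    have e₁b : v₁ ≫ b = qq ≫ snd _ _ := by simp [b, reassoc_of% hv₁]
    have e₂b : v₂ ≫ b = (qq ≫ snd _ _)⁻¹ * (qq ≫ fst _ _ ≫ h) := by
      simp [b, reassoc_of% hv₂, sh, MonObj.comp_mul, GrpObj.comp_inv]
    let vv : Eo ⟶ Zo := Over.homMk (pullback.lift v₁.left v₂.left
      (by rw [← Over.comp_left, ← Over.comp_left, e₁a, e₂a])) (by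
        show _ ≫ pullback.fst a.left a.left ≫ Vo.hom = _
        rw [pullback.lift_fst_assoc]
        exact Over.w v₁)
    have hvv₁ : vv ≫ z₁ = v₁ := Over.OverMorphism.ext (pullback.lift_fst _ _ _)
    have hvv₂ : vv ≫ z₂ = v₂ := Over.OverMorphism.ext (pullback.lift_snd _ _ _)
    have hvm : vv ≫ m = qq ≫ fst _ _ ≫ zK := by
      rw [hm]
      apply CartesianMonoidalCategory.hom_ext
      · simp [reassoc_of% hvv₁, e₁a, τ]
      · simp [MonObj.comp_mul, reassoc_of% hvv₁, reassoc_of% hvv₂, e₁b, e₂b, h]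
    obtain ⟨w⟩ := (inferInstance : Nonempty ↥(Spec ((Kp ⊗ H).left.residueField q)))
    refine ⟨vv.left w, ?_⟩
    have h1 := congrArg (fun φ : Eo ⟶ T ⊗ H => φ.left w) hvm
    simp only [Over.comp_left, Scheme.Hom.comp_apply] at h1
    rw [h1]
    show Red.geomPt z _ = z
    rw [Red.geomPt, Scheme.Hom.comp_apply]
    exact Scheme.fromSpecResidueField_apply z _⟩
  obtain ⟨pm, hpm⟩ := hmul Zo (z₁ ≫ a ≫ g) (z₁ ≫ b) (z₂ ≫ b)
    ⟨z₁ ≫ p, by rw [Category.assoc, hp, comp_lift]⟩
    ⟨z₂ ≫ p, by rw [Category.assoc, hp, comp_lift, reassoc_of% hz]⟩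
  refine Groth.L25.Locus.factors_of_cov y.left _ m.left pm.left ?_
  rw [← Over.comp_left, ← Over.comp_left, hpm, hm]
  congr 1
  apply CartesianMonoidalCategory.hom_ext <;> simp

/-- **Transporters into a fibrewise subgroup are representable by closed subschemes.** -/
theorem exists_transporter (hf : IrrFib H.hom) (y : P ⟶ G ⊗ H) [Mono y.left]
    [LocallyOfFinitePresentation y.left]
    (hone : ∀ (T : Over S) (g : T ⟶ G), ∃ p, p ≫ y = lift g 1)
    (hmul : ∀ (T : Over S) (g : T ⟶ G) (a b : T ⟶ H), (∃ p, p ≫ y = lift g a) →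
      (∃ p, p ≫ y = lift g b) → ∃ p, p ≫ y = lift g (a * b)) :
    ∃ (Z : Over S) (z : Z ⟶ G), IsClosedImmersion z.left ∧ LocallyOfFinitePresentation z.left ∧
      ∀ (T : Over S) (g : T ⟶ G), (∃ w, w ≫ z = g) ↔
        ∀ (T' : Over S) (x : T' ⟶ T) (h : T' ⟶ H), ∃ p, p ≫ y = lift (x ≫ g) h := by
  classical
  let f := (fst G H).left
  haveI : Smooth f := MorphismProperty.of_isPullback (isPullback_fst_snd G H).flip inferInstance
  obtain ⟨σP, hσP⟩ := hone G (𝟙 G)
  have hσ : (σP.left ≫ y.left) ≫ f = 𝟙 G.left := by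
    rw [← Over.comp_left, hσP, ← Over.comp_left, lift_fst, Over.id_left]
  have hlands : ∀ {T : Over S} (g : T ⟶ G),
      (∃ l, l ≫ y.left = (g ▷ H).left) ↔ Lands f y.left (𝟙 _) g.left := by
    intro T g
    let e := (isPullback_whiskerRight g H).isoPullback
    constructor
    · rintro ⟨l, hl⟩
      exact ⟨e.inv ≫ l, by rw [Category.assoc, hl, Category.comp_id, IsPullback.isoPullback_inv_fst]⟩
    · rintro ⟨l, hl⟩
      exact ⟨e.hom ≫ l, by rw [Category.assoc, hl, Category.comp_id, IsPullback.isoPullback_hom_fst]⟩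
  choose A j c hj hjs hcfg hc using fun s => exists_mono_piece (f := f) (y := y.left) σP.left hσ s
  have hAiff : ∀ (s : G.left) (R : Type u) [CommRing R] (χ : A s →+* R),
      Lands f y.left (𝟙 _) (Spec.map (CommRingCat.ofHom χ) ≫ j s) ↔ c s ≤ RingHom.ker χ := by
    intro s R _ χ
    refine ⟨(hc s R χ).1, fun hker => ?_⟩
    obtain ⟨V, hVσ, l, hl⟩ := (hc s R χ).2 hker
    let q := Spec.map (CommRingCat.ofHom χ) ≫ j s
    let T : Over S := Over.mk (q ≫ G.hom)
    let g : T ⟶ G := Over.homMk q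
    let e : (T ⊗ H).left ≅ pullback f (Spec.map (CommRingCat.ofHom χ) ≫ j s) :=
      (isPullback_whiskerRight g H).isoPullback
    have efst : e.hom ≫ pullback.fst f (Spec.map (CommRingCat.ofHom χ) ≫ j s) = (g ▷ H).left :=
      IsPullback.isoPullback_hom_fst _
    have esnd : e.hom ≫ pullback.snd f (Spec.map (CommRingCat.ofHom χ) ≫ j s) = (fst T H).left :=
      IsPullback.isoPullback_hom_snd _
    refine (hlands g).1 (factors_of_open_subgroup hf y hmul g (e.hom ⁻¹ᵁ V) ?_ ?_)
    · rintro _ ⟨w, rfl⟩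
      refine hVσ ⟨w, ?_⟩
      rw [← Scheme.Hom.comp_apply]
      refine congrArg (fun φ : Spec (CommRingCat.of R) ⟶ pullback f (Spec.map (CommRingCat.ofHom χ) ≫ j s) => φ w) ?_
      apply pullback.hom_ext
      · rw [pullback.lift_fst, Category.assoc (lift (𝟙 T) (1 : T ⟶ H)).left, efst]
        show (g ≫ σP ≫ y).left = (lift (𝟙 T) 1 ≫ g ▷ H).left
        rw [hσP]
        congr 1
        apply CartesianMonoidalCategory.hom_ext <;> simp [MonObj.comp_one]
      · rw [pullback.lift_snd, Category.assoc, esnd, ← Over.comp_left, lift_fst]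
        rfl
    · refine ⟨e.hom ∣_ V ≫ l, ?_⟩
      rw [Category.assoc, hl, ← Category.assoc, morphismRestrict_ι, Category.assoc, efst]
  obtain ⟨Z, z, hzc, hzl, hz⟩ := exists_closed_of_pieces (f := f) (y := y.left) (a := 𝟙 _) A j
    (fun s => by haveI := hj s; infer_instance) (fun s => by haveI := hj s; infer_instance)
    (fun s => ⟨s, hjs s⟩) _ (fun s => Spec.map (CommRingCat.ofHom (Ideal.Quotient.mk (c s))))
    (fun s => IsClosedImmersion.spec_of_surjective _ Ideal.Quotient.mk_surjective)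
    (fun s S' v => by
      haveI : IsClosedImmersion (Spec.map (CommRingCat.ofHom (Ideal.Quotient.mk (c s)))) :=
        IsClosedImmersion.spec_of_surjective _ Ideal.Quotient.mk_surjective
      constructor
      · intro hv
        refine Groth.L25.Locus.factors_of_cover _ v fun z => ?_
        obtain ⟨D, hD, hzD, -⟩ := exists_isAffineOpen_mem_and_subset (U := (⊤ : S'.Opens)) (x := z)
          (TopologicalSpace.Opens.mem_top _)
        obtain ⟨φ, hφ⟩ := Spec.map_surjective (hD.fromSpec ≫ v)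
        have h1 := hv.comp hD.fromSpec
        rw [← Category.assoc, ← hφ] at h1
        have h2 := (hAiff s Γ(S', D) φ.hom).1 h1
        refine ⟨_, hD.fromSpec, inferInstance, hD.range_fromSpec.ge hzD,
          Spec.map (CommRingCat.ofHom (Ideal.Quotient.lift (c s) φ.hom fun r hr => h2 hr)), ?_⟩
        rw [← Spec.map_comp, ← CommRingCat.ofHom_comp, Ideal.Quotient.lift_comp_mk, CommRingCat.ofHom_hom, hφ]
      · rintro ⟨w, rfl⟩
        rw [Category.assoc]
        exact Lands.comp ((hAiff s _ _).2 Ideal.mk_ker.ge) w)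
    True (fun _ s => by
      rw [HasRingHomProperty.Spec_iff (P := @LocallyOfFinitePresentation)]
      haveI : Algebra.FinitePresentation (A s) (A s ⧸ c s) := Algebra.FinitePresentation.quotient (hcfg s)
      exact RingHom.finitePresentation_algebraMap.2 this)
  refine ⟨Over.mk (z ≫ G.hom), Over.homMk z, hzc, hzl trivial, fun T g => ?_⟩
  refine Iff.trans ?_ (((hz T.left g.left).trans (hlands g).symm).trans ?_)
  · constructor
    · rintro ⟨w, rfl⟩
      exact ⟨w.left, rfl⟩
    · rintro ⟨w, hw⟩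
      exact ⟨Over.homMk w (by show w ≫ z ≫ G.hom = T.hom; rw [reassoc_of% hw, Over.w g]), Over.OverMorphism.ext hw⟩
  · constructor
    · rintro ⟨l, hl⟩ T' x h
      let p : T ⊗ H ⟶ P := Over.homMk l (by rw [← Over.w y, reassoc_of% hl, Over.w (g ▷ H)])
      refine ⟨lift x h ≫ p, ?_⟩
      rw [Category.assoc, show p ≫ y = g ▷ H from Over.OverMorphism.ext hl]
      apply CartesianMonoidalCategory.hom_ext <;> simp
    · intro hall
      obtain ⟨p, hp⟩ := hall (T ⊗ H) (fst T H) (snd T H)
      refine ⟨p.left, ?_⟩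
      rw [← Over.comp_left, hp]
      congr 1

end Groth.L02.SchDom
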