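import Groth.Agent.L02.SchDom.WeilSmoothRing
import Groth.Agent.L24.Boot.SmoothSection
import Groth.Agent.L11.Magnet.ClosedSub
import Groth.Agent.L20.SchDesc.Fppf
import Mathlib.AlgebraicGeometry.Morphisms.LocalFlatDescent
import Mathlib.AlgebraicGeometry.Morphisms.FlatDescent

/-!
# Weil restriction of a closed subscheme along a smooth morphism with connected geometric fibres
-/

set_option autoImplicit false

universe u

open CategoryTheory Limits AlgebraicGeometry TopologicalSpace

set_option backward.isDefEq.respectTransparency.types false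

noncomputable section

namespace Groth.L02.SchDom

variable {X S W Y : Scheme.{u}} (f : X ⟶ S) (y : Y ⟶ W) (a : X ⟶ W)

/-- The condition: the base change of `X` maps into `Y`. -/
def Lands {S' : Scheme.{u}} (g : S' ⟶ S) : Prop := ∃ l, l ≫ y = pullback.fst f g ≫ a

variable {f y a}

theorem Lands.comp {S' S'' : Scheme.{u}} {g : S' ⟶ S} (h : Lands f y a g) (k : S'' ⟶ S') :
    Lands f y a (k ≫ g) := by
  obtain ⟨l, hl⟩ := h
  exact ⟨pullback.map f (k ≫ g) f g (𝟙 _) k (𝟙 _) (by simp) (by simp) ≫ l, by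
    rw [Category.assoc, hl, pullback.lift_fst_assoc, Category.comp_id]⟩

theorem Lands.of_cov [Mono y] {S' S'' : Scheme.{u}} {g : S' ⟶ S} (p : S'' ⟶ S')
    [Groth.L20.SchDesc.Cov p] (h : Lands f y a (p ≫ g)) : Lands f y a g := by
  obtain ⟨l, hl⟩ := h
  let q := pullback.fst (pullback.snd f g) p
  haveI : Groth.L20.SchDesc.Cov q :=
    Groth.L20.SchDesc.Cov.of_isPullback (IsPullback.of_hasPullback (pullback.snd f g) p).flip
  refine Groth.L25.Locus.factors_of_cov y _ q
    (pullback.lift (q ≫ pullback.fst f g) (pullback.snd _ _) (by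
      rw [Category.assoc, pullback.condition, pullback.condition_assoc]) ≫ l) ?_
  rw [Category.assoc, hl, pullback.lift_fst_assoc, Category.assoc]

/-- Transitivity of base change. -/
theorem lands_iff {S' S'' : Scheme.{u}} (j : S' ⟶ S) (g : S'' ⟶ S') :
    (∃ l, l ≫ y = pullback.fst (pullback.snd f j) g ≫ pullback.fst f j ≫ a) ↔ Lands f y a (g ≫ j) := by
  let e := pullbackLeftPullbackSndIso f j g
  constructor
  · rintro ⟨l, hl⟩
    refine ⟨e.inv ≫ l, ?_⟩
    rw [Category.assoc, hl, pullbackLeftPullbackSndIso_inv_fst_assoc]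
  · rintro ⟨l, hl⟩
    refine ⟨e.hom ≫ l, ?_⟩
    rw [Category.assoc, hl, pullbackLeftPullbackSndIso_hom_fst_assoc]

/-- The closed piece over an etale chart with a section. -/
theorem exists_piece [Smooth f] (hf : IrrFib f) [IsClosedImmersion y] (x : X) :
    ∃ (A : CommRingCat.{u}) (j : Spec A ⟶ S) (T : Scheme.{u}) (i : T ⟶ Spec A), Etale j ∧
      f x ∈ Set.range j ∧ IsClosedImmersion i ∧
      (LocallyOfFinitePresentation y → LocallyOfFinitePresentation i) ∧
      ∀ (S' : Scheme.{u}) (v : S' ⟶ Spec A), Lands f y a (v ≫ j) ↔ ∃ w, w ≫ i = v := by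
  classical
  obtain ⟨S₁, g₁, s₁, h₁, hg₁, hs₁, hh₁⟩ := Groth.L24.Boot.exists_etale_nhd_section f x
  haveI := hg₁
  obtain ⟨V, hV, hsV, -⟩ := exists_isAffineOpen_mem_and_subset (U := (⊤ : S₁.Opens)) (x := s₁)
    (Opens.mem_top _)
  obtain ⟨t₁, ht₁⟩ : s₁ ∈ Set.range hV.fromSpec := by rw [hV.range_fromSpec]; exact hsV
  let j₁ : Spec Γ(S₁, V) ⟶ S := hV.fromSpec ≫ g₁
  let σ₁ : Spec Γ(S₁, V) ⟶ pullback f j₁ := pullback.lift (hV.fromSpec ≫ h₁) (𝟙 _) (by
    rw [Category.assoc, hh₁, Category.id_comp])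
  obtain ⟨U, hU, hσU, -⟩ := exists_isAffineOpen_mem_and_subset (U := (⊤ : (pullback f j₁).Opens))
    (x := σ₁ t₁) (Opens.mem_top _)
  obtain ⟨_, ⟨r, rfl⟩, htr, hrsub⟩ :=
    PrimeSpectrum.isTopologicalBasis_basic_opens.exists_subset_of_mem_open
      (show t₁ ∈ (σ₁ ⁻¹ᵁ U : Set (Spec Γ(S₁, V))) from hσU) (σ₁ ⁻¹ᵁ U).2
  let A : Type u := Localization.Away r
  let loc : Spec (CommRingCat.of A) ⟶ Spec Γ(S₁, V) :=
    Spec.map (CommRingCat.ofHom (algebraMap Γ(S₁, V) A))
  haveI : IsOpenImmersion loc := IsOpenImmersion.of_isLocalization r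
  have hloc : Set.range loc = (SetLike.coe (PrimeSpectrum.basicOpen r) : Set (PrimeSpectrum Γ(S₁, V))) :=
    PrimeSpectrum.localization_away_comap_range A r
  let j : Spec (CommRingCat.of A) ⟶ S := loc ≫ j₁
  let m : pullback f j ⟶ pullback f j₁ :=
    pullback.map f j f j₁ (𝟙 _) loc (𝟙 _) (by simp) (by simp [j])
  haveI : IsOpenImmersion m := by
    have e : m = (pullbackLeftPullbackSndIso f j₁ loc).inv ≫ pullback.fst (pullback.snd f j₁) loc := by
      apply pullback.hom_ext
      · rw [Category.assoc, pullbackLeftPullbackSndIso_inv_fst, pullback.lift_fst, Category.comp_id]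
      · rw [Category.assoc, pullback.lift_snd, pullbackLeftPullbackSndIso_inv_fst_snd]
    rw [e]; infer_instance
  let σ : Spec (CommRingCat.of A) ⟶ pullback f j := pullback.lift (loc ≫ hV.fromSpec ≫ h₁) (𝟙 _) (by
    simp only [Category.assoc, hh₁, Category.id_comp]; rfl)
  have hσm : σ ≫ m = loc ≫ σ₁ := by
    apply pullback.hom_ext
    · rw [Category.assoc, pullback.lift_fst, Category.comp_id, pullback.lift_fst, Category.assoc,
        pullback.lift_fst]
    · rw [Category.assoc, pullback.lift_snd, ← Category.assoc, pullback.lift_snd, Category.id_comp,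
        Category.assoc, pullback.lift_snd, Category.comp_id]
  let U₂ : (pullback f j).Opens := m ⁻¹ᵁ U
  have hU₂ : IsAffineOpen U₂ := by
    let rU : Γ(pullback f j₁, U) := (Spec.preimage (hU.fromSpec ≫ pullback.snd f j₁)).hom r
    have hsub : ∀ z, z ∈ (pullback f j₁).basicOpen rU ↔
        z ∈ U ∧ pullback.snd f j₁ z ∈ PrimeSpectrum.basicOpen r := by
      intro z
      have hfU : ∀ q : Spec Γ(pullback f j₁, U), pullback.snd f j₁ (hU.fromSpec q) =
          PrimeSpectrum.comap (Spec.preimage (hU.fromSpec ≫ pullback.snd f j₁)).hom q := fun q => by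
        rw [← Scheme.Hom.comp_apply]
        conv_lhs => rw [← Spec.map_preimage (hU.fromSpec ≫ pullback.snd f j₁)]
        rfl
      constructor
      · intro hz
        have hzU := (pullback f j₁).basicOpen_le rU hz
        refine ⟨hzU, ?_⟩
        obtain ⟨q, rfl⟩ : z ∈ Set.range hU.fromSpec := by rw [hU.range_fromSpec]; exact hzU
        rw [hfU]
        have : q ∈ PrimeSpectrum.basicOpen rU := by
          rw [← hU.fromSpec_preimage_basicOpen rU]
          exact hz
        exact this
      · rintro ⟨hzU, hzD⟩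
        obtain ⟨q, rfl⟩ : z ∈ Set.range hU.fromSpec := by rw [hU.range_fromSpec]; exact hzU
        rw [hfU] at hzD
        have : q ∈ hU.fromSpec ⁻¹ᵁ (pullback f j₁).basicOpen rU := by
          rw [hU.fromSpec_preimage_basicOpen rU]
          exact hzD
        exact this
    have heq : U₂ = m ⁻¹ᵁ (pullback f j₁).basicOpen rU := by
      ext w
      show m w ∈ U ↔ m w ∈ (pullback f j₁).basicOpen rU
      rw [hsub]
      refine ⟨fun h => ⟨h, ?_⟩, fun h => h.1⟩
      rw [← Scheme.Hom.comp_apply, pullback.lift_snd, Scheme.Hom.comp_apply]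
      exact hloc.le ⟨_, rfl⟩
    rw [heq]
    refine (hU.basicOpen rU).preimage_of_isOpenImmersion m fun z hz => ?_
    obtain ⟨q, hq⟩ := hloc.ge ((hsub z).1 hz).2
    obtain ⟨w, hw, -⟩ := Scheme.Pullback.exists_preimage_pullback (f := pullback.snd f j₁) (g := loc) z q hq.symm
    refine ⟨(pullbackLeftPullbackSndIso f j₁ loc).hom w, ?_⟩
    have e : (pullbackLeftPullbackSndIso f j₁ loc).hom ≫ m = pullback.fst (pullback.snd f j₁) loc := by
      apply pullback.hom_ext
      · rw [Category.assoc, pullback.lift_fst, Category.comp_id, pullbackLeftPullbackSndIso_hom_fst]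
      · rw [Category.assoc, pullback.lift_snd, pullback.condition,
          pullbackLeftPullbackSndIso_hom_snd_assoc]
    show m _ = z
    rw [← Scheme.Hom.comp_apply, e, hw]
  have hσU₂ : Set.range σ ⊆ U₂ := by
    rintro _ ⟨q, rfl⟩
    show m (σ q) ∈ U
    rw [← Scheme.Hom.comp_apply, hσm, Scheme.Hom.comp_apply]
    exact hrsub (hloc.le ⟨q, rfl⟩)
  obtain ⟨c, hcfg, hc⟩ := exists_ideal_of_section (pullback.snd f j) y (pullback.fst f j ≫ a)
    (hf.baseChange j) hU₂ σ (pullback.lift_snd _ _ _) hσU₂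
  refine ⟨CommRingCat.of A, j, _, Spec.map (CommRingCat.ofHom (Ideal.Quotient.mk c)), inferInstance,
    ?_, IsClosedImmersion.spec_of_surjective _ Ideal.Quotient.mk_surjective, fun hy => ?_, fun S' v => ?_⟩
  · obtain ⟨q, hq⟩ := hloc.ge htr
    refine ⟨q, ?_⟩
    rw [Scheme.Hom.comp_apply, Scheme.Hom.comp_apply]
    exact (congrArg g₁ ((congrArg hV.fromSpec hq).trans ht₁)).trans hs₁
  · rw [HasRingHomProperty.Spec_iff (P := @LocallyOfFinitePresentation)]
    haveI : Algebra.FinitePresentation A (A ⧸ c) := Algebra.FinitePresentation.quotient (hcfg hy)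
    exact RingHom.finitePresentation_algebraMap.2 this
  haveI : IsClosedImmersion (Spec.map (CommRingCat.ofHom (Ideal.Quotient.mk c))) :=
    IsClosedImmersion.spec_of_surjective _ Ideal.Quotient.mk_surjective
  constructor
  · intro hv
    refine Groth.L25.Locus.factors_of_cover _ v fun z => ?_
    obtain ⟨D, hD, hzD, -⟩ := exists_isAffineOpen_mem_and_subset (U := (⊤ : S'.Opens)) (x := z)
      (Opens.mem_top _)
    obtain ⟨φ, hφ⟩ := Spec.map_surjective (hD.fromSpec ≫ v)
    letI : Algebra A Γ(S', D) := φ.hom.toAlgebra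
    have h1 := (hv.comp hD.fromSpec)
    rw [← Category.assoc, ← hφ] at h1
    have h2 := (hc Γ(S', D)).1 ((lands_iff (f := f) (y := y) (a := a) j
      (Spec.map (CommRingCat.ofHom (algebraMap A Γ(S', D))))).2 h1)
    refine ⟨_, hD.fromSpec, inferInstance, hD.range_fromSpec.ge hzD,
      Spec.map (CommRingCat.ofHom (Ideal.Quotient.lift c φ.hom fun r hr => h2 hr)), ?_⟩
    rw [← Spec.map_comp, ← CommRingCat.ofHom_comp, Ideal.Quotient.lift_comp_mk, CommRingCat.ofHom_hom, hφ]
  · rintro ⟨w, rfl⟩
    rw [Category.assoc]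
    refine Lands.comp ?_ w
    exact (lands_iff (f := f) (y := y) (a := a) j _).1 ((hc (A ⧸ c)).2 Ideal.mk_ker.ge)

/-- Closed loci glue along a jointly surjective fppf family of charts. -/
theorem exists_closed_of_pieces [Mono y] {ι : Type u} (A : ι → CommRingCat.{u}) (j : ∀ i, Spec (A i) ⟶ S)
    (hjf : ∀ i, Flat (j i)) (hjl : ∀ i, LocallyOfFinitePresentation (j i))
    (hcov : ∀ s : S, ∃ i, s ∈ Set.range (j i))
    (Ts : ι → Scheme.{u}) (is : ∀ i, Ts i ⟶ Spec (A i)) (his : ∀ i, IsClosedImmersion (is i))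
    (hiff : ∀ i (S' : Scheme.{u}) (v : S' ⟶ Spec (A i)), Lands f y a (v ≫ j i) ↔ ∃ w, w ≫ is i = v)
    (Pfp : Prop) (hlfp : Pfp → ∀ i, LocallyOfFinitePresentation (is i)) :
    ∃ (T : Scheme.{u}) (t : T ⟶ S), IsClosedImmersion t ∧
      (Pfp → LocallyOfFinitePresentation t) ∧
      ∀ (S' : Scheme.{u}) (g : S' ⟶ S), (∃ g', g' ≫ t = g) ↔ Lands f y a g := by
  classical
  let P : ι → Scheme.{u} := fun x => Spec (A x)
  let p : ∐ P ⟶ S := Sigma.desc j
  haveI : Flat p := IsZariskiLocalAtSource.sigmaDesc hjf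
  haveI : LocallyOfFinitePresentation p := IsZariskiLocalAtSource.sigmaDesc hjl
  haveI : Surjective p := ⟨fun s => by
    obtain ⟨x, q, hq⟩ := hcov s
    refine ⟨Sigma.ι P x q, ?_⟩
    rw [← Scheme.Hom.comp_apply, Sigma.ι_desc]
    exact hq⟩
  let U : Over S := Over.mk p
  let V : ι → (∐ P).Opens := fun x => (Sigma.ι P x).opensRange
  -- the locus on the disjoint union
  obtain ⟨W', i', hi', hW'⟩ := Groth.L11.Magnet.exists_closed_of_openCover (X := U) V
    (fun z => by
      obtain ⟨x, q, hq⟩ := Groth.L20.SchDesc.exists_sigmaι_eq z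
      exact ⟨x, q, hq⟩)
    (fun T v => Lands f y a (v.left ≫ p))
    (fun k v h => by rw [Over.comp_left, Category.assoc]; exact h.comp k.left)
    (fun {T κ} T' k hkf hkl hks v h => by
      let Q : κ → Scheme.{u} := fun i => (T' i).left
      let q : ∐ Q ⟶ T.left := Sigma.desc fun i => (k i).left
      haveI : Flat q := IsZariskiLocalAtSource.sigmaDesc hkf
      haveI : LocallyOfFinitePresentation q := IsZariskiLocalAtSource.sigmaDesc hkl
      haveI : Surjective q := ⟨fun z => by
        obtain ⟨i, w, hw⟩ := hks z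
        exact ⟨Sigma.ι Q i w, by rw [← Scheme.Hom.comp_apply, Sigma.ι_desc]; exact hw⟩⟩
      refine Lands.of_cov q ?_
      choose l hl using h
      let g' := q ≫ v.left ≫ p
      refine Groth.L25.Locus.factors_of_cover y _ fun w => ?_
      obtain ⟨i, u₀, hu₀⟩ := Groth.L20.SchDesc.exists_sigmaι_eq (pullback.snd f g' w)
      let o := pullback.fst (pullback.snd f g') (Sigma.ι Q i)
      refine ⟨_, o, inferInstance, ?_, pullback.lift (o ≫ pullback.fst f g') (pullback.snd _ _) ?_ ≫ l i, ?_⟩
      · obtain ⟨z, hz, -⟩ := Scheme.Pullback.exists_preimage_pullback (f := pullback.snd f g')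
          (g := Sigma.ι Q i) w u₀ hu₀.symm
        exact ⟨z, hz⟩
      · simp only [Category.assoc, pullback.condition, o, g', pullback.condition_assoc, Over.comp_left,
          Sigma.ι_desc_assoc, q]
      · rw [Category.assoc, hl, pullback.lift_fst_assoc, Category.assoc])
    (fun x => by
      let e := (Sigma.ι P x).isoOpensRange
      haveI := his x
      refine ⟨Over.mk ((is x ≫ e.hom) ≫ (V x).ι ≫ U.hom), Over.homMk (is x ≫ e.hom) rfl,
        inferInstanceAs (IsClosedImmersion (is x ≫ e.hom)), fun T v => ?_⟩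
      have hv : v.left ≫ (V x).ι ≫ p = (v.left ≫ e.inv) ≫ j x := by
        have he : (V x).ι ≫ p = e.inv ≫ j x := by
          rw [Iso.eq_inv_comp, Scheme.Hom.isoOpensRange_hom_ι_assoc, Sigma.ι_desc]
        rw [Category.assoc, he]
      show Lands f y a ((v.left ≫ (V x).ι) ≫ p) ↔ _
      rw [Category.assoc, hv, hiff x]
      constructor
      · rintro ⟨w, hw⟩
        have hw' : w ≫ is x ≫ e.hom = v.left := by
          rw [← Category.assoc, hw, Category.assoc, e.inv_hom_id]
          exact Category.comp_id _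
        exact ⟨Over.homMk w (by
          show w ≫ (is x ≫ e.hom) ≫ (V x).ι ≫ U.hom = T.hom
          rw [← Category.assoc, hw']
          exact Over.w v), Over.OverMorphism.ext hw'⟩
      · rintro ⟨w, rfl⟩
        exact ⟨w.left, by simp⟩)
  haveI := hi'
  -- descent
  let X₀ : Over S := Over.mk (𝟙 S)
  let p₀ : U ⟶ X₀ := Over.homMk p (Category.comp_id _)
  haveI : Flat p₀.left := inferInstanceAs (Flat p)
  haveI : Surjective p₀.left := inferInstanceAs (Surjective p)
  haveI : LocallyOfFinitePresentation p₀.left := inferInstanceAs (LocallyOfFinitePresentation p)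
  obtain ⟨T, t, ht, hT⟩ := Groth.L11.Magnet.exists_closed_of_cover p₀
    (fun T v => Lands f y a v.left)
    (fun k v h => by rw [Over.comp_left]; exact h.comp k.left)
    (fun k _ _ _ v h => Lands.of_cov k.left h)
    W' i' (fun T v => hW' T v)
  haveI := ht
  have hmain : ∀ (S' : Scheme.{u}) (g : S' ⟶ S), (∃ g', g' ≫ t.left = g) ↔ Lands f y a g := by
    intro S' g
    refine Iff.trans ?_ (hT (Over.mk g) (Over.homMk g (Category.comp_id g) : Over.mk g ⟶ X₀)).symm
    constructor
    · rintro ⟨g', hg'⟩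
      refine ⟨Over.homMk g' ?_, Over.OverMorphism.ext hg'⟩
      have ht2 : t.left ≫ 𝟙 S = T.hom := Over.w t
      show g' ≫ T.hom = g
      rw [← ht2]
      exact (congrArg (g' ≫ ·) (Category.comp_id _)).trans hg'
    · rintro ⟨g', hg'⟩
      exact ⟨g'.left, congrArg CommaMorphism.left hg'⟩
  refine ⟨T.left, t.left, ht, fun hy => ?_, hmain⟩
  refine MorphismProperty.of_pullback_snd_of_descendsAlong
    (Q := @Surjective ⊓ @Flat ⊓ @LocallyOfFinitePresentation) (f := t.left) (g := p)
    ⟨⟨inferInstance, inferInstance⟩, inferInstance⟩ ?_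
  refine IsZariskiLocalAtTarget.of_openCover (P := @LocallyOfFinitePresentation) (sigmaOpenCover P) fun x => ?_
  let π := pullback.snd (pullback.snd t.left p) (Sigma.ι P x)
  have hcond : Lands f y a (π ≫ j x) := (hmain _ _).1
    ⟨pullback.fst _ _ ≫ pullback.fst _ _, by
      rw [Category.assoc, pullback.condition, ← Category.assoc, pullback.condition, Category.assoc, Sigma.ι_desc]⟩
  obtain ⟨w, hw⟩ := (hiff x _ π).1 hcond
  obtain ⟨g', hg'⟩ := (hmain _ (is x ≫ j x)).2 ((hiff x _ (is x)).2 ⟨𝟙 _, Category.id_comp _⟩)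
  let k : Ts x ⟶ pullback (pullback.snd t.left p) (Sigma.ι P x) :=
    pullback.lift (pullback.lift g' (is x ≫ Sigma.ι P x) (by rw [hg', Category.assoc, Sigma.ι_desc]))
      (is x) (pullback.lift_snd _ _ _)
  haveI := his x
  haveI : IsClosedImmersion π := inferInstance
  have hk : k ≫ π = is x := pullback.lift_snd _ _ _
  haveI : IsIso w := ⟨k, (cancel_mono π).1 (by rw [Category.assoc, hk, hw, Category.id_comp]),
    (cancel_mono (is x)).1 (by rw [Category.assoc, hw, hk, Category.id_comp])⟩
  haveI := hlfp hy x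
  show LocallyOfFinitePresentation π
  rw [← hw]
  infer_instance

/-- **Weil restriction of closed subschemes along smooth morphisms with connected geometric fibres.** -/
theorem exists_weilLocus [Smooth f] (hf : IrrFib f) [IsClosedImmersion y] :
    ∃ (T : Scheme.{u}) (t : T ⟶ S), IsClosedImmersion t ∧
      (LocallyOfFinitePresentation y → LocallyOfFinitePresentation t) ∧
      ∀ (S' : Scheme.{u}) (g : S' ⟶ S), (∃ g', g' ≫ t = g) ↔ Lands f y a g := by
  classical
  have hne : ∀ s : S, ∃ x : X, f x = s := fun s => by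
    haveI := hf (AlgebraicClosure (S.residueField s)) (Red.geomPt s)
    obtain ⟨z⟩ := (inferInstance : Nonempty ↥(pullback f (Red.geomPt s)))
    refine ⟨pullback.fst f (Red.geomPt s) z, ?_⟩
    rw [← Scheme.Hom.comp_apply, pullback.condition, Scheme.Hom.comp_apply, Scheme.Hom.comp_apply]
    exact Scheme.fromSpecResidueField_apply s _
  choose A j Ts is hj hs his hlfp hiff using fun x : X => exists_piece (a := a) (y := y) hf x
  exact exists_closed_of_pieces A j (fun x => by haveI := hj x; infer_instance)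
    (fun x => by haveI := hj x; infer_instance)
    (fun s => by obtain ⟨x, rfl⟩ := hne s; exact ⟨x, hs x⟩) Ts is his hiff _ fun h x => hlfp x h

end Groth.L02.SchDom
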