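import Groth.Agent.L02.SchDom.MonoChart
import Groth.Agent.L02.SchDom.WeilSmooth

/-!
# The locus where a monomorphism contains a neighbourhood of a section
-/

set_option autoImplicit false

universe u

open CategoryTheory Limits AlgebraicGeometry TopologicalSpace
open scoped TensorProduct

set_option backward.isDefEq.respectTransparency.types false
set_option backward.isDefEq.respectTransparency false

noncomputable section

namespace Groth.L02.SchDom

lemma ker_evalSection {A E : Type u} [CommRing A] [CommRing E] [Algebra A E] (w : E →ₐ[A] A)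
    (R : Type u) [CommRing R] [Algebra A R] :
    RingHom.ker (evalSection w R).toRingHom = sectionIdeal w R := by
  refine le_antisymm (fun t ht => ?_) (Ideal.map_le_iff_le_comap.2 fun x hx => ?_)
  · have h1 : ∀ t : R ⊗[A] E, t - (evalSection w R t) ⊗ₜ (1 : E) ∈ sectionIdeal w R := by
      intro t
      induction t using TensorProduct.induction_on with
      | zero => simp
      | add a b ha hb =>
        rw [map_add, TensorProduct.add_tmul, add_sub_add_comm]
        exact add_mem ha hb
      | tmul r x =>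
        have hmem : x - algebraMap A E (w x) ∈ RingHom.ker w.toRingHom := by simp [RingHom.mem_ker]
        have h2 := Ideal.mul_mem_left (sectionIdeal w R) (r ⊗ₜ (1 : E)) (Ideal.mem_map_of_mem
          (Algebra.TensorProduct.includeRight : E →ₐ[A] R ⊗[A] E) hmem)
        convert h2 using 1
        rw [evalSection_tmul, Algebra.TensorProduct.includeRight_apply, Algebra.TensorProduct.tmul_mul_tmul,
          mul_one, one_mul, TensorProduct.tmul_sub]
        simp [Algebra.algebraMap_eq_smul_one, TensorProduct.smul_tmul', TensorProduct.tmul_smul]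
    have h3 := h1 t
    rwa [show evalSection w R t = 0 from ht, TensorProduct.zero_tmul, sub_zero] at h3
  · show evalSection w R ((1 : R) ⊗ₜ x) = 0
    rw [evalSection_tmul, show w x = 0 from hx, map_zero, mul_zero]

/-- The thickenings of a section. -/
lemma exists_thickening {A E : Type u} [CommRing A] [CommRing E] [Algebra A E] (w : E →ₐ[A] A)
    (R : Type u) [CommRing R] [Algebra A R] (n : ℕ) (hn : 0 < n) :
    ∃ (Q : CommRingCat.{u}) (mk : R ⊗[A] E →+* Q) (evQ : Q →+* R), Function.Surjective evQ ∧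
      IsNilpotent (RingHom.ker evQ) ∧ (∀ t, evQ (mk t) = evalSection w R t) ∧
      ∀ t, mk t = 0 → t ∈ sectionIdeal w R ^ n := by
  let I := sectionIdeal w R
  let evQ : (R ⊗[A] E ⧸ I ^ n) →+* R := Ideal.Quotient.lift (I ^ n) (evalSection w R).toRingHom
    fun t ht => (ker_evalSection w R).ge (Ideal.pow_le_self hn.ne' ht)
  refine ⟨CommRingCat.of (R ⊗[A] E ⧸ I ^ n), Ideal.Quotient.mk _, evQ, fun r =>
    ⟨Ideal.Quotient.mk (I ^ n) (r ⊗ₜ[A] (1 : E)), ?_⟩, ⟨n, ?_⟩, fun t => rfl,
    fun t ht => Ideal.Quotient.eq_zero_iff_mem.1 ht⟩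
  · show evalSection w R (r ⊗ₜ (1 : E)) = r
    rw [evalSection_tmul, map_one, map_one, mul_one]
  · have : RingHom.ker evQ = I.map (Ideal.Quotient.mk (I ^ n)) := by
      refine le_antisymm (fun t ht => ?_) (Ideal.map_le_iff_le_comap.2 fun t ht => ?_)
      · obtain ⟨t, rfl⟩ := Ideal.Quotient.mk_surjective t
        exact Ideal.mem_map_of_mem _ ((ker_evalSection w R).le ht)
      · exact (ker_evalSection w R).ge ht
    rw [this, ← Ideal.map_pow]
    exact Ideal.map_quotient_self _

/-- A basic open neighbourhood, bundled. -/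
lemma exists_away {T : Type u} [CommRing T] (h : T) : ∃ (L : CommRingCat.{u}) (o : T →+* L),
    IsOpenImmersion (Spec.map (CommRingCat.ofHom o)) ∧
      (∀ q : PrimeSpectrum T, h ∉ q.asIdeal → q ∈ Set.range (Spec.map (CommRingCat.ofHom o))) ∧
      ∀ x, h * x = 0 → o x = 0 := by
  refine ⟨CommRingCat.of (Localization.Away h), algebraMap T _, IsOpenImmersion.of_isLocalization h,
    fun q hq => (PrimeSpectrum.localization_away_comap_range (Localization.Away h) h).ge hq,
    fun x hx => ?_⟩
  refine ((IsLocalization.Away.algebraMap_isUnit (S := Localization.Away h) h).mul_right_eq_zero).1 ?_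
  rw [← map_mul, hx, map_zero]

variable {X S P : Scheme.{u}} {f : X ⟶ S} {y : P ⟶ X}

/-- The closed piece for a monomorphism. -/
theorem exists_mono_piece [Smooth f] [Mono y] [LocallyOfFinitePresentation y] (σP : S ⟶ P)
    (hσ : (σP ≫ y) ≫ f = 𝟙 S) (s : S) :
    ∃ (A : CommRingCat.{u}) (j : Spec A ⟶ S) (c : Ideal A), IsOpenImmersion j ∧ s ∈ Set.range j ∧ c.FG ∧
      ∀ (R : Type u) [CommRing R] (χ : A →+* R),
        (Lands f y (𝟙 X) (Spec.map (CommRingCat.ofHom χ) ≫ j) → c ≤ RingHom.ker χ) ∧
        (c ≤ RingHom.ker χ → ∃ V : (pullback f (Spec.map (CommRingCat.ofHom χ) ≫ j)).Opens,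
          Set.range (pullback.lift ((Spec.map (CommRingCat.ofHom χ) ≫ j) ≫ σP ≫ y) (𝟙 _)
            (by simp only [Category.assoc] at hσ; simp [hσ]) :
              Spec (CommRingCat.of R) ⟶ pullback f (Spec.map (CommRingCat.ofHom χ) ≫ j)) ⊆ V ∧
          ∃ l, l ≫ y = V.ι ≫ pullback.fst f _) := by
  classical
  obtain ⟨M⟩ := exists_monoChart f y (σP s)
  letI := M.instA; letI := M.instB; letI := M.algB; letI := M.instE; letI := M.algE
  letI := M.instC; letI := M.algC
  haveI := M.open_j₀; haveI := M.open_bU; haveI := M.open_c; haveI := M.smoothB; haveI := M.etaleE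
  obtain ⟨s₀, hs₀⟩ : s ∈ Set.range M.j₀ := by
    have := M.mem_j₀
    rw [← Scheme.Hom.comp_apply, ← Scheme.Hom.comp_apply, ← Category.assoc, hσ] at this
    exact this
  let U₀ : (Spec (CommRingCat.of M.A₀)).Opens := (M.j₀ ≫ σP) ⁻¹ᵁ M.c.opensRange
  obtain ⟨_, ⟨r, rfl⟩, hsr, hrsub⟩ :=
    PrimeSpectrum.isTopologicalBasis_basic_opens.exists_subset_of_mem_open
      (show s₀ ∈ (U₀ : Set (Spec (CommRingCat.of M.A₀))) from by
        show (M.j₀ ≫ σP) s₀ ∈ Set.range M.c
        rw [Scheme.Hom.comp_apply, hs₀]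
        exact M.mem_c) U₀.2
  let A : Type u := Localization.Away r
  let loc : Spec (CommRingCat.of A) ⟶ Spec (CommRingCat.of M.A₀) :=
    Spec.map (CommRingCat.ofHom (algebraMap M.A₀ A))
  haveI : IsOpenImmersion loc := IsOpenImmersion.of_isLocalization r
  have hloc : Set.range loc = (SetLike.coe (PrimeSpectrum.basicOpen r) : Set (PrimeSpectrum M.A₀)) :=
    PrimeSpectrum.localization_away_comap_range A r
  let j : Spec (CommRingCat.of A) ⟶ S := loc ≫ M.j₀
  have hjc : Set.range (j ≫ σP) ⊆ Set.range M.c := by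
    rintro _ ⟨z, rfl⟩
    exact hrsub (hloc.le ⟨z, rfl⟩)
  let vS : Spec (CommRingCat.of A) ⟶ Spec (CommRingCat.of M.C) := IsOpenImmersion.lift M.c (j ≫ σP) hjc
  have hvS : vS ≫ M.c = j ≫ σP := IsOpenImmersion.lift_fac _ _ _
  let v : M.C →+* A := (Spec.preimage vS).hom
  have hv : Spec.map (CommRingCat.ofHom v) = vS := Spec.map_preimage vS
  letI : Algebra M.A₀ M.E := ((algebraMap M.B M.E).comp (algebraMap M.A₀ M.B)).toAlgebra
  haveI : IsScalarTower M.A₀ M.B M.E := IsScalarTower.of_algebraMap_eq fun _ => rfl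
  haveI : Algebra.Smooth M.B M.E := inferInstance
  haveI : Algebra.Smooth M.A₀ M.E := Algebra.Smooth.comp M.A₀ M.B M.E
  -- the section over `A`
  have hvA : ∀ a : M.A₀, v (algebraMap M.B M.C (algebraMap M.A₀ M.B a)) = algebraMap M.A₀ A a := by
    have h1 : vS ≫ M.c ≫ y ≫ f = j := by
      rw [reassoc_of% hvS, show σP ≫ y ≫ f = 𝟙 S by rw [← Category.assoc, hσ], Category.comp_id]
    rw [reassoc_of% M.comm_c, M.comm_bU, ← hv, ← Spec.map_comp_assoc, ← Spec.map_comp_assoc,
      cancel_mono] at h1
    intro a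
    exact congrArg (fun g : CommRingCat.of M.A₀ ⟶ CommRingCat.of A => g.hom a) (Spec.map_injective h1)
  let w₀ : M.E →ₐ[M.A₀] A :=
    { v.comp M.φ.toRingHom with
      commutes' := fun a => by
        show v (M.φ (algebraMap M.B M.E (algebraMap M.A₀ M.B a))) = _
        rw [M.φ.commutes]
        exact hvA a }
  let E' := A ⊗[M.A₀] M.E
  let w : E' →ₐ[A] A := Algebra.TensorProduct.lift (AlgHom.id A A) w₀ fun _ _ => Commute.all _ _
  let ι : M.E →+* E' := (Algebra.TensorProduct.includeRight : M.E →ₐ[M.A₀] E').toRingHom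
  have hwι : ∀ x, w (ι x) = v (M.φ x) := fun x => by
    show w ((1 : A) ⊗ₜ x) = _
    rw [Algebra.TensorProduct.lift_tmul, map_one, one_mul]
    rfl
  obtain ⟨c, N, hcfg, hc⟩ := exists_section_locus w (M.G.image ι)
  refine ⟨CommRingCat.of A, j, c, inferInstance, ?_, hcfg, fun R _ χ => ?_⟩
  · obtain ⟨q, hq⟩ := hloc.ge hsr
    exact ⟨q, by rw [Scheme.Hom.comp_apply]; exact (congrArg M.j₀ hq).trans hs₀⟩
  letI : Algebra A R := χ.toAlgebra
  let T := R ⊗[A] E'
  let g : Spec (CommRingCat.of R) ⟶ S := Spec.map (CommRingCat.ofHom χ) ≫ j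
  -- the etale chart over `A`
  let bE : Spec (CommRingCat.of M.E) ⟶ X := Spec.map (CommRingCat.ofHom (algebraMap M.B M.E)) ≫ M.bU
  haveI : Etale (Spec.map (CommRingCat.ofHom (algebraMap M.B M.E))) :=
    (HasRingHomProperty.Spec_iff (P := @Etale)).2 (RingHom.etale_algebraMap.2 inferInstance)
  haveI : Etale bE := inferInstance
  let b : Spec (CommRingCat.of E') ⟶ X := Spec.map (CommRingCat.ofHom ι) ≫ bE
  haveI : IsOpenImmersion (Spec.map (CommRingCat.ofHom ι)) := by
    have e : Spec.map (CommRingCat.ofHom ι) = (pullbackSpecIso M.A₀ A M.E).inv ≫ pullback.snd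
        (Spec.map (CommRingCat.ofHom (algebraMap M.A₀ A))) (Spec.map (CommRingCat.ofHom (algebraMap M.A₀ M.E))) :=
      (pullbackSpecIso_inv_snd M.A₀ A M.E).symm
    rw [e]; infer_instance
  haveI : Etale b := inferInstance
  have hb : b ≫ f = Spec.map (CommRingCat.ofHom (algebraMap A E')) ≫ j := by
    simp only [b, bE, Category.assoc, M.comm_bU, j, loc, ← Spec.map_comp_assoc, ← CommRingCat.ofHom_comp]
    congr 3
    ext a
    show ι (algebraMap M.B M.E (algebraMap M.A₀ M.B a)) = algebraMap A E' (algebraMap M.A₀ A a)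
    rw [← IsScalarTower.algebraMap_apply M.A₀ A E']
    exact (Algebra.TensorProduct.includeRight : M.E →ₐ[M.A₀] E').commutes a
  have hg : 𝟙 _ ≫ g = Spec.map (CommRingCat.ofHom (algebraMap A R)) ≫ j := Category.id_comp _
  let q : Spec (CommRingCat.of T) ⟶ pullback f g :=
    bcChart f g (A := A) (A' := R) (B := E') (g₀ := 𝟙 _) hg hb
  haveI : Etale q := by
    show Etale (bcChart f g (A := A) (A' := R) (B := E') (g₀ := 𝟙 _) hg hb)
    rw [bcChart_eq]
    let k := pullback.map (Spec.map (CommRingCat.ofHom (algebraMap A E')) ≫ j)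
      (Spec.map (CommRingCat.ofHom (algebraMap A R)) ≫ j) f g b (𝟙 _) (𝟙 S)
      (by rw [Category.comp_id, hb]) (by rw [Category.comp_id, hg])
    haveI : Etale k := MorphismProperty.pullbackMap (P := @Etale) ‹Etale b› inferInstance hb.symm hg.symm
    have hk : pullback.map _ _ f g b (𝟙 _) j hb.symm hg.symm =
        pullback.map (Spec.map (CommRingCat.ofHom (algebraMap A E')))
          (Spec.map (CommRingCat.ofHom (algebraMap A R))) _ _ (𝟙 _) (𝟙 _) j
          (Category.id_comp _).symm (Category.id_comp _).symm ≫ k := by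
      apply pullback.hom_ext <;> simp [k]
    rw [hk]
    haveI : IsIso (pullback.map (Spec.map (CommRingCat.ofHom (algebraMap A E')))
          (Spec.map (CommRingCat.ofHom (algebraMap A R)))
          (Spec.map (CommRingCat.ofHom (algebraMap A E')) ≫ j)
          (Spec.map (CommRingCat.ofHom (algebraMap A R)) ≫ j) (𝟙 _) (𝟙 _) j
          (Category.id_comp _).symm (Category.id_comp _).symm) := by
      refine ⟨pullback.lift (pullback.fst _ _) (pullback.snd _ _) ((cancel_mono j).1 ?_), ?_, ?_⟩
      · simpa only [Category.assoc] using pullback.condition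
      · apply pullback.hom_ext <;> simp
      · apply pullback.hom_ext <;> simp
    infer_instance
  let η : M.E →+* T := ((Algebra.TensorProduct.includeRight : E' →ₐ[A] T).toRingHom).comp ι
  have hqfst : q ≫ pullback.fst f g = Spec.map (CommRingCat.ofHom η) ≫ bE := by
    show bcChart f g hg hb ≫ _ = _
    rw [show bcChart f g (A := A) (A' := R) (B := E') (g₀ := 𝟙 _) hg hb = pullback.lift _ _ _ from rfl,
      pullback.lift_fst]
    simp only [b, η, ← Spec.map_comp_assoc, ← CommRingCat.ofHom_comp]
  let ev : T →+* R := (evalSection w R).toRingHom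
  have hevη : ev.comp η = χ.comp (v.comp M.φ.toRingHom) := by
    ext x
    show evalSection w R ((1 : R) ⊗ₜ ι x) = _
    rw [evalSection_tmul, one_mul, hwι]
    rfl
  have hev : Spec.map (CommRingCat.ofHom ev) ≫ q = pullback.lift (g ≫ σP ≫ y) (𝟙 _)
      (by simp only [Category.assoc] at hσ; simp [hσ]) := by
    apply pullback.hom_ext
    · rw [Category.assoc, hqfst, pullback.lift_fst, ← Spec.map_comp_assoc, ← CommRingCat.ofHom_comp,
        hevη]
      simp only [g, Category.assoc, bE, ← reassoc_of% hvS, M.comm_c, ← hv, ← Spec.map_comp_assoc,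
        ← CommRingCat.ofHom_comp]
      congr 3
      ext x
      exact congrArg (fun z => χ (v z)) (M.φ.commutes x)
    · rw [Category.assoc, pullback.lift_snd]
      show _ ≫ bcChart f g hg hb ≫ _ = _
      rw [show bcChart f g (A := A) (A' := R) (B := E') (g₀ := 𝟙 _) hg hb = pullback.lift _ _ _ from rfl,
        pullback.lift_snd, Category.comp_id, ← Spec.map_comp, ← CommRingCat.ofHom_comp, ← Spec.map_id]
      congr 1
      ext x
      show evalSection w R (x ⊗ₜ (1 : E')) = x
      rw [evalSection_tmul, map_one, map_one, mul_one]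
  constructor
  · rintro ⟨l, hl⟩
    refine (hc R).1 fun x hx => ?_
    obtain ⟨x, hxG, rfl⟩ := Finset.mem_image.1 hx
    let n := N + 1
    have hn : 0 < n := Nat.succ_pos N
    obtain ⟨Q, mk, evQ, hQs, hnil, hevQ, hmk0⟩ := exists_thickening w R n hn
    let m : Spec Q ⟶ P := (Spec.map (CommRingCat.ofHom mk) ≫ q) ≫ l
    have hm : m ≫ y = Spec.map (CommRingCat.ofHom (mk.comp η)) ≫ bE := by
      rw [Category.assoc, hl, Category.comp_id, Category.assoc, hqfst, ← Spec.map_comp_assoc,
        ← CommRingCat.ofHom_comp]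
    have hmev : Spec.map (CommRingCat.ofHom evQ) ≫ m = (Spec.map (CommRingCat.ofHom χ) ≫ vS) ≫ M.c := by
      rw [← cancel_mono y, Category.assoc, hm, ← Spec.map_comp_assoc, ← CommRingCat.ofHom_comp,
        ← RingHom.comp_assoc, show evQ.comp mk = ev from RingHom.ext fun t => hevQ t]
      rw [Category.assoc, Category.assoc, reassoc_of% hvS, CommRingCat.ofHom_comp, Spec.map_comp,
        Category.assoc, ← hqfst, ← Category.assoc, hev, pullback.lift_fst]
      simp [g, j]
    have hsurj : ∀ z : Spec Q, z ∈ Set.range (Spec.map (CommRingCat.ofHom evQ)) := by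
      intro z
      refine (range_comap_of_surjective (S := R) evQ hQs).ge ?_
      obtain ⟨k, hk⟩ := hnil
      intro t ht
      exact z.2.mem_of_pow_mem k (by
        rw [show t ^ k = 0 from Ideal.mem_bot.1 (hk.le (Ideal.pow_mem_pow ht k))]
        exact zero_mem _)
    have hmc : Set.range m ⊆ Set.range M.c := by
      rintro _ ⟨z, rfl⟩
      obtain ⟨z', rfl⟩ := hsurj z
      refine ⟨vS (Spec.map (CommRingCat.ofHom χ) z'), ?_⟩
      exact (congrArg (fun φ : Spec (CommRingCat.of R) ⟶ P => φ z') hmev).symm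
    let ψS := IsOpenImmersion.lift M.c m hmc
    let ψ : M.C →+* Q := (Spec.preimage ψS).hom
    have hψ : Spec.map (CommRingCat.ofHom ψ) ≫ M.c = m := by
      show Spec.map (Spec.preimage ψS) ≫ _ = _
      rw [Spec.map_preimage, IsOpenImmersion.lift_fac]
    have hψB : ∀ x : M.B, ψ (algebraMap M.B M.C x) = mk (η (algebraMap M.B M.E x)) := by
      have h1 : Spec.map (CommRingCat.ofHom (ψ.comp (algebraMap M.B M.C))) ≫ M.bU =
          Spec.map (CommRingCat.ofHom ((mk.comp η).comp (algebraMap M.B M.E))) ≫ M.bU := by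
        rw [CommRingCat.ofHom_comp, Spec.map_comp, Category.assoc, ← M.comm_c, reassoc_of% hψ, hm,
          CommRingCat.ofHom_comp (algebraMap M.B M.E) (mk.comp η), Spec.map_comp, Category.assoc]
      intro x
      exact congrArg (fun g : CommRingCat.of M.B ⟶ Q => g.hom x)
        (Spec.map_injective ((cancel_mono M.bU).1 h1))
    letI : Algebra M.B Q := ((mk.comp η).comp (algebraMap M.B M.E)).toAlgebra
    let g₁ : M.E →ₐ[M.B] Q := { mk.comp η with commutes' := fun _ => rfl }
    let g₂ : M.E →ₐ[M.B] Q :=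
      { ψ.comp M.φ.toRingHom with
        commutes' := fun a => by
          show ψ (M.φ (algebraMap M.B M.E a)) = _
          rw [M.φ.commutes]
          exact hψB a }
    have hψev : evQ.comp ψ = χ.comp v := by
      have h1 : Spec.map (CommRingCat.ofHom (evQ.comp ψ)) ≫ M.c =
          Spec.map (CommRingCat.ofHom (χ.comp v)) ≫ M.c := by
        rw [CommRingCat.ofHom_comp, Spec.map_comp, Category.assoc, hψ, hmev, CommRingCat.ofHom_comp,
          Spec.map_comp, hv]
      exact congrArg CommRingCat.Hom.hom (Spec.map_injective ((cancel_mono M.c).1 h1))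
    have heq : g₁ = g₂ := by
      refine Algebra.FormallyUnramified.ext' _ hnil g₁ g₂ fun z => ?_
      show evQ (mk (η z)) = evQ (ψ (M.φ z))
      refine (hevQ _).trans ((RingHom.congr_fun hevη z).trans ?_)
      exact (congrArg (fun φ : M.C →+* R => φ (M.φ z)) hψev).symm
    have hx0 : M.φ x = 0 := RingHom.mem_ker.1 (M.span_G.le (Ideal.subset_span hxG))
    refine hmk0 _ ?_
    have h4 : g₁ x = g₂ x := by rw [heq]
    exact h4.trans (by show ψ (M.φ x) = 0; rw [hx0, map_zero])
  · intro hker
    obtain ⟨h, hh, hG⟩ := (hc R).2 hker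
    obtain ⟨Th, oh, ho, hrange, hzero⟩ := exists_away h
    let o : Spec Th ⟶ Spec (CommRingCat.of T) := Spec.map (CommRingCat.ofHom oh)
    haveI : IsOpenImmersion o := ho
    have hker' : RingHom.ker M.φ.toRingHom ≤ RingHom.ker (oh.comp η) := by
      rw [← M.span_G, Ideal.span_le]
      intro x hx
      exact hzero _ (hG (ι x) (Finset.mem_image_of_mem _ hx))
    let ζ : M.C →+* Th := (M.φ.toRingHom.liftOfSurjective M.surj) ⟨_, hker'⟩
    have hζ : ∀ x, ζ (M.φ x) = oh (η x) := fun x =>
      M.φ.toRingHom.liftOfRightInverse_comp_apply _ _ _ x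
    let oq := o ≫ q
    haveI : Etale oq := inferInstance
    have hop : IsOpen (Set.range oq) := oq.isOpenMap.isOpen_range
    let V : (pullback f g).Opens := ⟨Set.range oq, hop⟩
    refine ⟨V, ?_, ?_⟩
    · rintro _ ⟨z, rfl⟩
      let evS : Spec (CommRingCat.of R) ⟶ Spec (CommRingCat.of T) := Spec.map (CommRingCat.ofHom ev)
      obtain ⟨z', hz'⟩ := hrange (evS z)
        (by
          show h ∉ Ideal.comap ev z.asIdeal
          rw [Ideal.mem_comap, show ev h = 1 from hh]
          exact z.2.one_notMem)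
      refine ⟨z', ?_⟩
      rw [Scheme.Hom.comp_apply]
      exact (congrArg q hz').trans (congrArg
        (fun φ : Spec (CommRingCat.of R) ⟶ pullback f g => φ z) hev)
    · let oqV : Spec Th ⟶ (V : Scheme.{u}) :=
        IsOpenImmersion.lift V.ι oq (by rw [Scheme.Opens.range_ι]; exact subset_rfl)
      have hoqV : oqV ≫ V.ι = oq := IsOpenImmersion.lift_fac _ _ _
      haveI : Etale oqV := by
        refine MorphismProperty.of_postcomp (W := @Etale) (W' := @IsOpenImmersion) oqV V.ι inferInstance ?_
        rw [hoqV]; infer_instance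
      haveI : Surjective oqV := ⟨fun z => by
        obtain ⟨z', hz'⟩ := z.2
        exact ⟨z', V.ι.isOpenEmbedding.injective (by rw [← Scheme.Hom.comp_apply, hoqV]; exact hz')⟩⟩
      refine Groth.L25.Locus.factors_of_cov y _ oqV (Spec.map (CommRingCat.ofHom ζ) ≫ M.c) ?_
      rw [Category.assoc, M.comm_c, reassoc_of% hoqV]
      show _ = (o ≫ q) ≫ _
      rw [Category.assoc, hqfst]
      simp only [bE, o, ← Spec.map_comp_assoc, ← CommRingCat.ofHom_comp]
      congr 3
      ext x
      show ζ (algebraMap M.B M.C x) = oh (η (algebraMap M.B M.E x))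
      rw [← M.φ.commutes, hζ]

end Groth.L02.SchDom
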