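import Groth.Agent.L02.SchDom.Content

/-!
# Smooth algebras with a section: the locus where given elements vanish near the section

For a smooth `A`-algebra `E` with a section `w` and finitely many elements of `E` there is a finitely
generated ideal `c` of `A`: if the elements vanish on all infinitesimal neighbourhoods of the section after
a base change to `R` then `c` dies in `R`; if `c` dies in `R` then they vanish on a neighbourhood of
the section.
-/

set_option autoImplicit false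

universe u

open TensorProduct

noncomputable section

namespace Groth.L02.SchDom

variable {A E : Type u} [CommRing A] [CommRing E] [Algebra A E] [Algebra.Smooth A E]

/-- Evaluation at the base change of a section. -/
def evalSection (w : E →ₐ[A] A) (R : Type u) [CommRing R] [Algebra A R] : R ⊗[A] E →ₐ[R] R :=
  Algebra.TensorProduct.lift (AlgHom.id R R) ((Algebra.ofId A R).comp w) fun _ _ => Commute.all _ _

omit [Algebra.Smooth A E] in
@[simp] lemma evalSection_tmul (w : E →ₐ[A] A) (R : Type u) [CommRing R] [Algebra A R] (r : R) (x : E) :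
    evalSection w R (r ⊗ₜ x) = r * algebraMap A R (w x) := by
  simp [evalSection, Algebra.ofId_apply]

/-- The ideal of the base change of a section. -/
def sectionIdeal (w : E →ₐ[A] A) (R : Type u) [CommRing R] [Algebra A R] : Ideal (R ⊗[A] E) :=
  (RingHom.ker w.toRingHom).map (Algebra.TensorProduct.includeRight : E →ₐ[A] R ⊗[A] E)

/-- **Vanishing near a section.** -/
theorem exists_section_locus (w : E →ₐ[A] A) (G : Finset E) :
    ∃ (c : Ideal A) (N : ℕ), c.FG ∧ ∀ (R : Type u) [CommRing R] [Algebra A R],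
      ((∀ x ∈ G, (1 : R) ⊗ₜ[A] x ∈ sectionIdeal w R ^ (N + 1)) → c ≤ RingHom.ker (algebraMap A R)) ∧
      (c ≤ RingHom.ker (algebraMap A R) → ∃ h : R ⊗[A] E,
        evalSection w R h = 1 ∧ ∀ x ∈ G, h * ((1 : R) ⊗ₜ[A] x) = 0) := by
  classical
  obtain ⟨A₁, E₁, _, _, _, _, _, _, e, hS, hu⟩ := exists_smooth_model G {w}
  obtain ⟨w₁, hw₁⟩ := hu w (Finset.mem_singleton_self w)
  choose! x₁ hx₁ using hS
  let L₁ := RingHom.ker w₁.toRingHom
  haveI : IsNoetherianRing E₁ := Algebra.FiniteType.isNoetherianRing A₁ E₁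
  have hproj : ∀ n, Module.Projective A₁ (E₁ ⧸ L₁ ^ n) := fun n => (projective_quotient_ker_pow w₁ n).2
  let Gs : Set E₁ := x₁ '' (G : Set E)
  let c₁ : Ideal A₁ := ⨆ n : ℕ,
    Groth.L13.FixedLocus.coeffIdeal A₁ (Ideal.Quotient.mk (L₁ ^ n) '' Gs)
  let I : ℕ →o Ideal A₁ :=
    { toFun := fun n => Groth.L13.FixedLocus.coeffIdeal A₁ (Ideal.Quotient.mk (L₁ ^ n) '' Gs)
      monotone' := fun n m hnm => by
        refine Ideal.span_mono ?_
        rintro _ ⟨_, ⟨x, hx, rfl⟩, l, rfl⟩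
        exact ⟨_, ⟨x, hx, rfl⟩, l.comp (Ideal.Quotient.factorₐ A₁ (Ideal.pow_le_pow_right hnm)).toLinearMap,
          congrArg l (Ideal.Quotient.factor_mk (Ideal.pow_le_pow_right hnm) x)⟩ }
  obtain ⟨N, hN⟩ := monotone_stabilizes_iff_noetherian.mpr (inferInstance : IsNoetherian A₁ A₁) I
  have hstab : c₁ ≤ I (N + 1) := iSup_le fun n => by
    rcases le_total n (N + 1) with h | h
    · exact I.monotone h
    · exact ((hN n (le_trans (Nat.le_succ N) h)).symm.trans (hN (N + 1) (Nat.le_succ N))).le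
  refine ⟨c₁.map (algebraMap A₁ A), N, Ideal.FG.map (IsNoetherian.noetherian c₁) _, fun R _ _ => ?_⟩
  letI : Algebra A₁ R := ((algebraMap A R).comp (algebraMap A₁ A)).toAlgebra
  haveI : IsScalarTower A₁ A R := IsScalarTower.of_algebraMap_eq fun _ => rfl
  rw [Ideal.map_le_iff_le_comap, RingHom.comap_ker, ← IsScalarTower.algebraMap_eq]
  let M := modelBaseChange e R
  have hM : ∀ (r : R) (y : E₁), M (r ⊗ₜ e.symm (1 ⊗ₜ y)) = r ⊗ₜ y := fun r y =>
    modelBaseChange_tmul e R (e.apply_symm_apply _) r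
  have hMG : ∀ x ∈ G, M ((1 : R) ⊗ₜ x) = 1 ⊗ₜ x₁ x := fun x hx => modelBaseChange_tmul e R (hx₁ x hx) 1
  let K₁ : Ideal (R ⊗[A₁] E₁) := L₁.map (Algebra.TensorProduct.includeRight : E₁ →ₐ[A₁] R ⊗[A₁] E₁)
  constructor
  · intro hz
    have hker : RingHom.ker w.toRingHom ≤ L₁.map (e.symm.toRingEquiv.toRingHom.comp
        (Algebra.TensorProduct.includeRight : E₁ →ₐ[A₁] A ⊗[A₁] E₁).toRingHom) := by
      intro y hy
      have h1 : e y ∈ RingHom.ker (Algebra.TensorProduct.map (AlgHom.id A₁ A) w₁) := by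
        have h2 : ∀ t : A ⊗[A₁] E₁,
            Algebra.TensorProduct.rid A₁ A A (Algebra.TensorProduct.map (AlgHom.id A₁ A) w₁ t) =
              w (e.symm t) := by
          intro t
          induction t using TensorProduct.induction_on with
          | zero => simp
          | add a b ha hb => simp only [map_add, ha, hb]
          | tmul a b =>
            have : (a ⊗ₜ[A₁] b : A ⊗[A₁] E₁) = a • ((1 : A) ⊗ₜ[A₁] b) := by
              rw [TensorProduct.smul_tmul', smul_eq_mul, mul_one]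
            conv_rhs => rw [this, map_smul, map_smul, hw₁, smul_eq_mul]
            rw [Algebra.TensorProduct.map_tmul, AlgHom.id_apply, Algebra.TensorProduct.rid_tmul,
              Algebra.smul_def, mul_comm]
        rw [RingHom.mem_ker]
        apply (Algebra.TensorProduct.rid A₁ A A).injective
        rw [map_zero, h2, e.symm_apply_apply]
        exact hy
      rw [Algebra.TensorProduct.lTensor_ker _ (fun a => ⟨algebraMap A₁ E₁ a, w₁.commutes a⟩)] at h1
      have h3 := Ideal.mem_map_of_mem e.symm.toRingEquiv.toRingHom h1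
      rw [show e.symm.toRingEquiv.toRingHom (e y) = y from e.symm_apply_apply y] at h3
      rw [← Ideal.map_map]
      exact h3
    have hK : sectionIdeal w R ≤ K₁.comap M := by
      refine Ideal.map_le_iff_le_comap.2 (hker.trans (Ideal.map_le_iff_le_comap.2 fun l hl => ?_))
      show M ((1 : R) ⊗ₜ e.symm (1 ⊗ₜ l)) ∈ K₁
      rw [hM]
      exact Ideal.mem_map_of_mem _ hl
    refine hstab.trans ?_
    show Groth.L13.FixedLocus.coeffIdeal A₁ (Ideal.Quotient.mk (L₁ ^ (N + 1)) '' Gs) ≤ _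
    haveI := hproj (N + 1)
    rw [← Groth.L13.FixedLocus.tmul_eq_zero_iff]
    rintro _ ⟨_, ⟨x, hx, rfl⟩, rfl⟩
    have h1 : M ((1 : R) ⊗ₜ x) ∈ K₁ ^ (N + 1) := Ideal.mem_comap.1
      (Ideal.le_comap_pow M (N + 1) ((Ideal.pow_right_mono hK (N + 1)) (hz x hx)))
    rw [hMG x hx, ← Ideal.map_pow] at h1
    have h3 : (L₁ ^ (N + 1)).map (Algebra.TensorProduct.includeRight : E₁ →ₐ[A₁] R ⊗[A₁] E₁) ≤
        RingHom.ker (Algebra.TensorProduct.map (AlgHom.id A₁ R)
          (Ideal.Quotient.mkₐ A₁ (L₁ ^ (N + 1)))).toRingHom := by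
      refine Ideal.map_le_iff_le_comap.2 fun l hl => ?_
      show (1 : R) ⊗ₜ[A₁] Ideal.Quotient.mk (L₁ ^ (N + 1)) l = 0
      rw [Ideal.Quotient.eq_zero_iff_mem.2 hl, TensorProduct.tmul_zero]
    exact h3 h1
  · intro hc
    let A₂ := A₁ ⧸ c₁
    let E₂ := A₂ ⊗[A₁] E₁
    haveI : IsNoetherianRing E₂ := Algebra.FiniteType.isNoetherianRing A₂ E₂
    let K₂ : Ideal E₂ := L₁.map (Algebra.TensorProduct.includeRight : E₁ →ₐ[A₁] E₂)
    have hmem : ∀ x ∈ G, ∀ n, (1 : A₂) ⊗ₜ[A₁] x₁ x ∈ K₂ ^ n := by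
      intro x hx n
      haveI := hproj n
      have h0 : (1 : A₂) ⊗ₜ[A₁] Ideal.Quotient.mk (L₁ ^ n) (x₁ x) = 0 := by
        refine (Groth.L13.FixedLocus.tmul_eq_zero_iff A₁ (Ideal.Quotient.mk (L₁ ^ n) '' Gs) A₂).2 ?_ _
          ⟨_, ⟨x, hx, rfl⟩, rfl⟩
        rw [show RingHom.ker (algebraMap A₁ A₂) = c₁ from Ideal.mk_ker]
        exact le_iSup (fun n => Groth.L13.FixedLocus.coeffIdeal A₁ (Ideal.Quotient.mk (L₁ ^ n) '' Gs)) n
      have h1 : (1 : A₂) ⊗ₜ[A₁] x₁ x ∈ RingHom.ker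
          (Algebra.TensorProduct.map (AlgHom.id A₁ A₂) (Ideal.Quotient.mkₐ A₁ (L₁ ^ n))) := h0
      rw [Algebra.TensorProduct.lTensor_ker _ (Ideal.Quotient.mkₐ_surjective A₁ _)] at h1
      rw [← Ideal.map_pow]
      rwa [show RingHom.ker (Ideal.Quotient.mkₐ A₁ (L₁ ^ n)) = L₁ ^ n from Ideal.mk_ker] at h1
    have hr : ∀ x ∈ G, ∃ r : E₂, r ∈ K₂ ∧ (1 - r) * ((1 : A₂) ⊗ₜ[A₁] x₁ x) = 0 := by
      intro x hx
      obtain ⟨⟨r, hr⟩, hrz⟩ := (Ideal.mem_iInf_smul_pow_eq_bot_iff K₂ ((1 : A₂) ⊗ₜ[A₁] x₁ x)).1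
        (Submodule.mem_iInf _ |>.2 fun n => by simpa using hmem x hx n)
      refine ⟨r, hr, ?_⟩
      rw [sub_mul, one_mul, show r * ((1 : A₂) ⊗ₜ[A₁] x₁ x) = _ from hrz, sub_self]
    choose! r hrK hrz using hr
    let β : A₂ →ₐ[A₁] R := Ideal.Quotient.liftₐ c₁ (Algebra.ofId A₁ R) fun a ha => hc ha
    let φ : E₂ →+* R ⊗[A] E :=
      M.symm.toRingEquiv.toRingHom.comp (Algebra.TensorProduct.map β (AlgHom.id A₁ E₁)).toRingHom
    have hφ : ∀ y : E₁, φ ((1 : A₂) ⊗ₜ[A₁] y) = (1 : R) ⊗ₜ[A] e.symm (1 ⊗ₜ y) := fun y => by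
      show M.symm (β 1 ⊗ₜ[A₁] y) = _
      rw [map_one]
      exact (M.symm_apply_eq).2 (hM 1 y).symm
    have hev : ∀ k ∈ K₂, evalSection w R (φ k) = 0 := by
      intro k hk
      refine (Ideal.map_le_iff_le_comap (f := (Algebra.TensorProduct.includeRight : E₁ →ₐ[A₁] E₂))
        (K := RingHom.ker ((evalSection w R).toRingHom.comp φ))).2 (fun l hl => ?_) hk
      show evalSection w R (φ ((1 : A₂) ⊗ₜ[A₁] l)) = 0
      rw [hφ, evalSection_tmul, hw₁, show w₁ l = 0 from hl, map_zero, map_zero, mul_zero]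
    refine ⟨∏ x ∈ G, φ (1 - r x), ?_, fun x hx => ?_⟩
    · rw [map_prod]
      refine Finset.prod_eq_one fun x hx => ?_
      rw [map_sub, map_one, map_sub, map_one, hev _ (hrK x hx), sub_zero]
    · have hx' : φ ((1 : A₂) ⊗ₜ[A₁] x₁ x) = (1 : R) ⊗ₜ[A] x := by
        rw [hφ, ← hx₁ x hx, e.symm_apply_apply]
      rw [← Finset.mul_prod_erase G _ hx, mul_right_comm, ← hx', ← map_mul, hrz x hx, map_zero, zero_mul]

end Groth.L02.SchDom
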