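import Groth.Agent.L11.Magnet.SymCore
import Mathlib.RingTheory.MvPolynomial.Ideal
import Mathlib.RingTheory.Smooth.Basic
import Mathlib.RingTheory.Smooth.Flat
import Mathlib.RingTheory.FinitePresentation
import Mathlib.RingTheory.Ideal.Cotangent
import Mathlib.RingTheory.OrzechProperty
import Mathlib.Data.Finsupp.Weight
import Mathlib.Tactic

/-!
# The infinitesimal neighbourhoods of a section of a smooth algebra are finite projective
-/

set_option autoImplicit false

universe u

open MvPolynomial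

noncomputable section

namespace Groth.L02.SchDom

/-- An algebra map whose range contains generators of a nilpotent augmentation ideal is
surjective. -/
theorem surjective_of_generators {A T C : Type u} [CommRing A] [CommRing T] [CommRing C]
    [Algebra A T] [Algebra A C] (f : C →ₐ[A] T) (ε : T →ₐ[A] A) (s : Set T)
    (hs : Ideal.span s = RingHom.ker ε.toRingHom) (hsr : s ⊆ f.range) (n : ℕ)
    (hn : RingHom.ker ε.toRingHom ^ n = ⊥) : Function.Surjective f := by
  set K := RingHom.ker ε.toRingHom with hK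
  have hsub : ∀ t : T, t - algebraMap A T (ε t) ∈ K := fun t => by simp [hK, RingHom.mem_ker]
  have step : ∀ d ∈ K, ∃ r ∈ f.range, d - r ∈ K ^ 2 := by
    intro d hd
    rw [← hs] at hd
    induction hd using Submodule.span_induction with
    | mem x hx => exact ⟨x, hsr hx, by simp⟩
    | zero => exact ⟨0, zero_mem _, by simp⟩
    | add x y _ _ hx hy =>
      obtain ⟨r, hr, hr'⟩ := hx
      obtain ⟨r', hr2, hr2'⟩ := hy
      exact ⟨r + r', add_mem hr hr2, by rw [add_sub_add_comm]; exact add_mem hr' hr2'⟩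
    | smul c x hxs hx =>
      obtain ⟨r, hr, hr'⟩ := hx
      refine ⟨algebraMap A T (ε c) * r, mul_mem (Subalgebra.algebraMap_mem _ _) hr, ?_⟩
      rw [smul_eq_mul, show c * x - algebraMap A T (ε c) * r =
        (c - algebraMap A T (ε c)) * x + algebraMap A T (ε c) * (x - r) by ring]
      refine add_mem ?_ (Ideal.mul_mem_left _ _ hr')
      rw [pow_two]
      exact Ideal.mul_mem_mul (hsub c) (hs ▸ hxs)
  have stepk : ∀ (k : ℕ), ∀ d ∈ K ^ (k + 1), ∃ r ∈ f.range, d - r ∈ K ^ (k + 2) := by
    intro k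
    induction k with
    | zero => simpa using step
    | succ k ih =>
      intro d hd
      rw [pow_succ] at hd
      refine Submodule.mul_induction_on hd (fun a ha b hb => ?_) fun a b ha hb => ?_
      · obtain ⟨r, hr, hr'⟩ := ih a ha
        obtain ⟨r', hr2, hr2'⟩ := step b hb
        refine ⟨r * r', mul_mem hr hr2, ?_⟩
        have hr2K : r' ∈ K := by
          have := sub_mem hb (Ideal.pow_le_self two_ne_zero hr2')
          simpa using this
        rw [show a * b - r * r' = a * (b - r') + (a - r) * r' by ring]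
        refine add_mem ?_ ?_
        · have := Ideal.mul_mem_mul ha hr2'
          rw [← pow_add] at this
          exact this
        · have := Ideal.mul_mem_mul hr' hr2K
          rw [← pow_succ] at this
          exact this
      · obtain ⟨r, hr, hr'⟩ := ha
        obtain ⟨r', hr2, hr2'⟩ := hb
        exact ⟨r + r', add_mem hr hr2, by rw [add_sub_add_comm]; exact add_mem hr' hr2'⟩
  have all : ∀ (k : ℕ) (t : T), ∃ r ∈ f.range, t - r ∈ K ^ (k + 1) := by
    intro k
    induction k with
    | zero => exact fun t => ⟨algebraMap A T (ε t), Subalgebra.algebraMap_mem _ _, by simpa using hsub t⟩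
    | succ k ih =>
      intro t
      obtain ⟨r, hr, hr'⟩ := ih t
      obtain ⟨r', hr2, hr2'⟩ := stepk k _ hr'
      exact ⟨r + r', add_mem hr hr2, by rwa [← sub_sub]⟩
  intro t
  obtain ⟨r, hr, hr'⟩ := all n t
  have : t - r ∈ K ^ n := Ideal.pow_le_pow_right (Nat.le_succ n) hr'
  rw [hn, Ideal.mem_bot, sub_eq_zero] at this
  exact this ▸ hr

/-- Truncated polynomial rings are finite projective. -/
theorem projective_quotient_idealOfVars (A : Type u) [CommRing A] (d n : ℕ) :
    Module.Finite A (MvPolynomial (Fin d) A ⧸ idealOfVars (Fin d) A ^ n) ∧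
      Module.Projective A (MvPolynomial (Fin d) A ⧸ idealOfVars (Fin d) A ^ n) := by
  classical
  let J := idealOfVars (Fin d) A ^ n
  let t := {x : Fin d →₀ ℕ | Finsupp.degree x < n}
  haveI : Fintype t := (Finsupp.finite_of_degree_lt n).fintype
  let F : (t → A) →ₗ[A] MvPolynomial (Fin d) A ⧸ J :=
    (Ideal.Quotient.mkₐ A J).toLinearMap ∘ₗ Fintype.linearCombination A fun x : t => monomial x.1 1
  let G₀ : MvPolynomial (Fin d) A →ₗ[A] (t → A) := LinearMap.pi fun x : t => MvPolynomial.lcoeff A x.1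
  let G : MvPolynomial (Fin d) A ⧸ J →ₗ[A] (t → A) :=
    Submodule.liftQ (J.restrictScalars A) G₀ (fun p hp => by
      ext x
      exact (mem_pow_idealOfVars_iff' n p).1 hp x.1 x.2) ∘ₗ
      (Submodule.Quotient.restrictScalarsEquiv A J).symm.toLinearMap
  have hFG : ∀ q, F (G q) = q := by
    intro q
    obtain ⟨p, rfl⟩ := Ideal.Quotient.mk_surjective q
    show Ideal.Quotient.mk J (Fintype.linearCombination A (fun x : t => monomial x.1 (1 : A)) (G₀ p)) = _
    rw [Ideal.Quotient.eq, mem_pow_idealOfVars_iff']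
    intro x hx
    rw [coeff_sub, Fintype.linearCombination_apply, coeff_sum,
      Finset.sum_eq_single (⟨x, hx⟩ : t)]
    · simp [G₀]
    · intro y _ hy
      rw [coeff_smul, coeff_monomial, if_neg (fun h => hy (Subtype.ext h)), smul_zero]
    · simp
  exact ⟨Module.Finite.of_surjective F fun q => ⟨G q, hFG q⟩,
    Module.Projective.of_split G F (LinearMap.ext hFG)⟩

variable {A B : Type u} [CommRing A] [CommRing B] [Algebra A B] (u : B →ₐ[A] A)

/-- **Infinitesimal neighbourhoods of a section of a smooth algebra are finite projective.** -/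
theorem projective_quotient_ker_pow [Algebra.Smooth A B] (n : ℕ) :
    Module.Finite A (B ⧸ RingHom.ker u.toRingHom ^ n) ∧
      Module.Projective A (B ⧸ RingHom.ker u.toRingHom ^ n) := by
  classical
  set K := RingHom.ker u.toRingHom with hK
  have hsubK : ∀ b : B, b - algebraMap A B (u b) ∈ K := fun b => by simp [hK, RingHom.mem_ker]
  -- generators of the kernel
  have hKfg : K.FG := Algebra.FinitePresentation.ker_fG_of_surjective u fun a => ⟨algebraMap A B a, u.commutes a⟩
  obtain ⟨d, x, hx⟩ := Submodule.fg_iff_exists_fin_generating_family.1 hKfg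
  have hxK : ∀ i, x i ∈ K := fun i => hx ▸ Submodule.subset_span ⟨i, rfl⟩
  -- the conormal module
  have hN : Module.Finite A K.Cotangent ∧ Module.Projective A K.Cotangent := by
    letI : Algebra B A := u.toRingHom.toAlgebra
    haveI : IsScalarTower A B A := IsScalarTower.of_algebraMap_eq fun a => (u.commutes a).symm
    haveI : Algebra.FormallySmooth A A := inferInstance
    exact Groth.L11.Magnet.finite_projective_cotangent (R := A) (C := B) (B := A)
      fun a => u.commutes a
  haveI := hN.1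
  haveI := hN.2
  let κ : B →ₗ[A] K.Cotangent := (K.toCotangent.restrictScalars A) ∘ₗ
    ((LinearMap.id - Algebra.linearMap A B ∘ₗ u.toLinearMap).codRestrict (K.restrictScalars A) hsubK :
      B →ₗ[A] K.restrictScalars A)
  have hκ : ∀ b, κ b = K.toCotangent ⟨b - algebraMap A B (u b), hsubK b⟩ := fun b => rfl
  let π : (Fin d → A) →ₗ[A] K.Cotangent :=
    Fintype.linearCombination A fun i => K.toCotangent ⟨x i, hxK i⟩
  have hπ : Function.Surjective π := by
    intro z
    obtain ⟨⟨b, hb⟩, rfl⟩ := K.toCotangent_surjective z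
    obtain ⟨c, hc⟩ := (Submodule.mem_span_range_iff_exists_fun B).1 (hx.symm ▸ hb)
    refine ⟨fun i => u (c i), ?_⟩
    have hsum : (∑ i, u (c i) • (⟨x i, hxK i⟩ : K) : K).1 = ∑ i, algebraMap A B (u (c i)) * x i := by
      rw [Submodule.coe_sum]
      exact Finset.sum_congr rfl fun i _ => by rw [Submodule.coe_smul_of_tower, Algebra.smul_def]
    rw [show π (fun i => u (c i)) = K.toCotangent (∑ i, u (c i) • (⟨x i, hxK i⟩ : K)) by
      rw [map_sum]
      simp only [LinearMap.map_smul_of_tower]
      simp [π, Fintype.linearCombination_apply]]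
    refine (Ideal.toCotangent_eq _).2 ?_
    show (∑ i, u (c i) • (⟨x i, hxK i⟩ : K) : K).1 - b ∈ K ^ 2
    rw [hsum, ← hc, ← Finset.sum_sub_distrib]
    refine Ideal.sum_mem _ fun i _ => ?_
    rw [smul_eq_mul, show algebraMap A B (u (c i)) * x i - c i * x i =
      -((c i - algebraMap A B (u (c i))) * x i) by ring, pow_two]
    exact neg_mem (Ideal.mul_mem_mul (hsubK _) (hxK i))
  obtain ⟨sp, hsp⟩ := Module.projective_lifting_property π LinearMap.id hπ
  let D : B →ₗ[A] (Fin d → A) := sp ∘ₗ κ
  have hDmul : ∀ s t, D (s * t) = u s • D t + u t • D s := by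
    intro s t
    show sp (κ (s * t)) = u s • sp (κ t) + u t • sp (κ s)
    rw [← map_smul sp, ← map_smul sp, ← map_add sp]
    congr 1
    rw [hκ, hκ, hκ, ← algebraMap_smul B (u s), ← algebraMap_smul B (u t), ← map_smul, ← map_smul,
      ← map_add, Ideal.toCotangent_eq]
    show s * t - algebraMap A B (u (s * t)) -
      (algebraMap A B (u s) * (t - algebraMap A B (u t)) +
        algebraMap A B (u t) * (s - algebraMap A B (u s))) ∈ K ^ 2
    rw [map_mul, map_mul, show s * t - algebraMap A B (u s) * algebraMap A B (u t) -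
      (algebraMap A B (u s) * (t - algebraMap A B (u t)) +
        algebraMap A B (u t) * (s - algebraMap A B (u s))) =
      (s - algebraMap A B (u s)) * (t - algebraMap A B (u t)) by ring, pow_two]
    exact Ideal.mul_mem_mul (hsubK s) (hsubK t)
  have hDalg : ∀ a, D (algebraMap A B a) = 0 := fun a => by
    show sp (κ _) = 0
    rw [hκ, show (⟨algebraMap A B a - algebraMap A B (u (algebraMap A B a)), hsubK _⟩ : K) = 0 from
      Subtype.ext (by simp), map_zero, map_zero]
  let P := MvPolynomial (Fin d) A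
  let J := idealOfVars (Fin d) A
  have hXJ : ∀ i, (X i : P) ∈ J := fun i => Ideal.subset_span ⟨i, rfl⟩
  have hlinJ : ∀ b, (∑ i, C (D b i) * X i : P) ∈ J := fun b =>
    Ideal.sum_mem _ fun i _ => Ideal.mul_mem_left _ _ (hXJ i)
  -- first order map
  let q₂ : B →ₐ[A] P ⧸ J ^ 2 :=
    { toFun := fun s => Ideal.Quotient.mk _ (C (u s) + ∑ i, C (D s i) * X i)
      map_one' := by
        have h : D 1 = 0 := by simpa using hDalg 1
        simp [h]
      map_zero' := by simp
      map_add' := fun s t => by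
        simp only [map_add, Pi.add_apply, add_mul, Finset.sum_add_distrib]
        ring
      map_mul' := fun s t => by
        rw [← map_mul (Ideal.Quotient.mk (J ^ 2)), Ideal.Quotient.eq]
        have : C (u (s * t)) + ∑ i, C (D (s * t) i) * (X i : P) -
            (C (u s) + ∑ i, C (D s i) * X i) * (C (u t) + ∑ i, C (D t i) * X i) =
            -((∑ i, C (D s i) * X i) * (∑ i, C (D t i) * X i)) := by
          rw [hDmul]
          simp only [map_mul, Pi.add_apply, Pi.smul_apply, smul_eq_mul, map_add, add_mul,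
            Finset.sum_add_distrib, mul_assoc, ← Finset.mul_sum]
          ring
        rw [this, pow_two]
        exact Submodule.neg_mem _ (Ideal.mul_mem_mul (hlinJ s) (hlinJ t))
      commutes' := fun r => by
        rw [u.commutes, hDalg r]
        simp only [Pi.zero_apply, map_zero, zero_mul, Finset.sum_const_zero, add_zero]
        rfl }
  have hle : J ^ (n + 2) ≤ J ^ 2 := Ideal.pow_le_pow_right (by omega)
  obtain ⟨ψ, hψ⟩ : ∃ ψ : B →ₐ[A] P ⧸ J ^ (n + 2), (Ideal.Quotient.factorₐ A hle).comp ψ = q₂ := by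
    refine ⟨_, Algebra.FormallySmooth.comp_liftOfSurjective q₂ (Ideal.Quotient.factorₐ A hle)
      (Ideal.Quotient.factor_surjective hle) ⟨n + 2, ?_⟩⟩
    rw [show RingHom.ker (Ideal.Quotient.factorₐ A hle : P ⧸ J ^ (n + 2) →+* P ⧸ J ^ 2) =
        (J ^ 2).map (Ideal.Quotient.mk (J ^ (n + 2))) from Ideal.Quotient.factor_ker hle,
      ← Ideal.map_pow, ← pow_mul]
    exact Ideal.map_mk_eq_bot_of_le (Ideal.pow_le_pow_right (by omega))
  -- evaluation
  let toB : P →ₐ[A] B := aeval x
  have htoB : ∀ m, J ^ m ≤ (K ^ m).comap toB.toRingHom := fun m => by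
    rw [← Ideal.map_le_iff_le_comap, Ideal.map_pow]
    refine Ideal.pow_right_mono ?_ m
    rw [Ideal.map_span, Ideal.span_le]
    rintro _ ⟨_, ⟨i, rfl⟩, rfl⟩
    show toB (X i) ∈ K
    rw [show toB (X i) = x i from aeval_X x i]
    exact hxK i
  have hJn : J ^ (n + 2) ≤ (K ^ n).comap toB.toRingHom :=
    le_trans (Ideal.pow_le_pow_right (by omega)) (htoB n)
  let φ : P ⧸ J ^ (n + 2) →ₐ[A] B ⧸ K ^ n := Ideal.quotientMapₐ (K ^ n) toB hJn
  have hψK : ∀ s ∈ K, ∃ q : P, ψ s = Ideal.Quotient.mk _ q ∧ q - ∑ i, C (D s i) * X i ∈ J ^ 2 := by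
    intro s hs
    obtain ⟨q, hq⟩ := Ideal.Quotient.mk_surjective (ψ s)
    refine ⟨q, hq.symm, ?_⟩
    have h2 := AlgHom.congr_fun hψ s
    rw [AlgHom.comp_apply, ← hq] at h2
    have h3 : q - (C (u s) + ∑ i, C (D s i) * X i) ∈ J ^ 2 := Ideal.Quotient.eq.mp h2
    rwa [show u s = 0 from RingHom.mem_ker.mp hs, map_zero, zero_add] at h3
  have hψmem : K.map ψ.toRingHom ≤ J.map (Ideal.Quotient.mk (J ^ (n + 2))) := by
    refine Ideal.map_le_iff_le_comap.mpr fun s hs => ?_
    obtain ⟨q, hq, hq2⟩ := hψK s hs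
    show ψ s ∈ J.map (Ideal.Quotient.mk _)
    rw [hq]
    refine Ideal.mem_map_of_mem _ ?_
    simpa using add_mem (Ideal.pow_le_self two_ne_zero hq2) (hlinJ s)
  have hψn : K ^ n ≤ RingHom.ker (φ.comp ψ).toRingHom := by
    intro s hs
    have h1 : ψ s ∈ (J ^ n).map (Ideal.Quotient.mk (J ^ (n + 2))) := by
      rw [Ideal.map_pow]
      refine Ideal.pow_right_mono hψmem n ?_
      rw [← Ideal.map_pow]
      exact Ideal.mem_map_of_mem ψ.toRingHom hs
    obtain ⟨q, hq, hq'⟩ := (Ideal.mem_map_iff_of_surjective _ Ideal.Quotient.mk_surjective).1 h1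
    rw [RingHom.mem_ker]
    show φ (ψ s) = 0
    rw [← hq']
    exact Ideal.Quotient.eq_zero_iff_mem.2 (htoB n hq)
  let η : B ⧸ K ^ n →ₐ[A] B ⧸ K ^ n :=
    Ideal.Quotient.liftₐ (K ^ n) (φ.comp ψ) fun s hs => hψn hs
  rcases Nat.eq_zero_or_pos n with rfl | hn
  · haveI : Subsingleton (B ⧸ K ^ 0) := Ideal.Quotient.subsingleton_iff.2 (by simp)
    exact ⟨inferInstance, Module.Projective.of_free⟩
  let ε : B ⧸ K ^ n →ₐ[A] A :=
    Ideal.Quotient.liftₐ (K ^ n) u fun s hs => RingHom.mem_ker.1 (Ideal.pow_le_self hn.ne' hs)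
  have hεker : RingHom.ker ε.toRingHom = K.map (Ideal.Quotient.mk (K ^ n)) := by
    refine le_antisymm (fun z hz => ?_) (Ideal.map_le_iff_le_comap.2 fun s hs => ?_)
    · obtain ⟨s, rfl⟩ := Ideal.Quotient.mk_surjective z
      exact Ideal.mem_map_of_mem _ (RingHom.mem_ker.2 (RingHom.mem_ker.1 hz : u s = 0))
    · exact RingHom.mem_ker.2 (RingHom.mem_ker.1 hs : u s = 0)
  have hεn : RingHom.ker ε.toRingHom ^ n = ⊥ := by
    rw [hεker, ← Ideal.map_pow, Ideal.map_quotient_self]
  let y : Fin d → B ⧸ K ^ n := fun i => η (Ideal.Quotient.mk _ (x i))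
  have hy : Ideal.span (Set.range y) = RingHom.ker ε.toRingHom := by
    rw [hεker]
    set L := K.map (Ideal.Quotient.mk (K ^ n)) with hL
    have hdiff : ∀ s ∈ K, η (Ideal.Quotient.mk _ s) - Ideal.Quotient.mk _ s ∈ L ^ 2 := by
      intro s hs
      obtain ⟨q, hq, hq2⟩ := hψK s hs
      show φ (ψ s) - Ideal.Quotient.mk _ s ∈ L ^ 2
      rw [hq, hL, ← Ideal.map_pow]
      show Ideal.Quotient.mk _ (toB q) - Ideal.Quotient.mk _ s ∈ _
      rw [← map_sub]
      refine Ideal.mem_map_of_mem _ ?_
      have h1 : toB q - ∑ i, algebraMap A B (D s i) * x i ∈ K ^ 2 := by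
        have h0 : toB (q - ∑ i, C (D s i) * X i) ∈ K ^ 2 := htoB 2 hq2
        rw [map_sub, map_sum] at h0
        simp only [map_mul] at h0
        have hC : ∀ a, toB (C a) = algebraMap A B a := fun a => aeval_C x a
        have hX : ∀ i, toB (X i) = x i := fun i => aeval_X x i
        simp only [hC, hX] at h0
        exact h0
      have h2 : (∑ i, algebraMap A B (D s i) * x i) - s ∈ K ^ 2 := by
        have hsum : (∑ i, D s i • (⟨x i, hxK i⟩ : K) : K).1 = ∑ i, algebraMap A B (D s i) * x i := by
          rw [Submodule.coe_sum]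
          exact Finset.sum_congr rfl fun i _ => by rw [Submodule.coe_smul_of_tower, Algebra.smul_def]
        rw [← hsum]
        refine (Ideal.toCotangent_eq _ (y := ⟨s, hs⟩)).1 ?_
        have h3 : π (sp (κ s)) = κ s := LinearMap.congr_fun hsp _
        rw [map_sum]
        simp only [LinearMap.map_smul_of_tower]
        refine Eq.trans (Eq.trans ?_ h3) ?_
        · simp [π, D, Fintype.linearCombination_apply]
        · rw [hκ]
          congr 2
          rw [show u s = 0 from RingHom.mem_ker.mp hs, map_zero, sub_zero]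
      simpa using add_mem h1 h2
    have hyL : Ideal.span (Set.range y) ≤ L := by
      rw [Ideal.span_le]
      rintro _ ⟨i, rfl⟩
      have := add_mem (Ideal.pow_le_self two_ne_zero (hdiff _ (hxK i)))
        (Ideal.mem_map_of_mem (Ideal.Quotient.mk (K ^ n)) (hxK i))
      simpa [y, hL] using this
    refine le_antisymm hyL ?_
    have h1 : L ≤ Ideal.span (Set.range y) ⊔ L ^ 2 := by
      have hgen : ∀ i, Ideal.Quotient.mk (K ^ n) (x i) ∈ Ideal.span (Set.range y) ⊔ L ^ 2 := by
        intro i
        rw [show Ideal.Quotient.mk (K ^ n) (x i) = y i + -(y i - Ideal.Quotient.mk _ (x i)) by ring]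
        exact Submodule.add_mem_sup (Ideal.subset_span ⟨i, rfl⟩) (neg_mem (hdiff _ (hxK i)))
      refine Ideal.map_le_iff_le_comap.2 fun z hz => ?_
      rw [← hx] at hz
      refine Submodule.span_induction (p := fun z _ => z ∈ Ideal.comap (Ideal.Quotient.mk (K ^ n))
        (Ideal.span (Set.range y) ⊔ L ^ 2)) ?_ (zero_mem _) (fun _ _ _ _ h h' => add_mem h h')
        (fun c _ _ h => Ideal.mul_mem_left _ c h) hz
      rintro _ ⟨i, rfl⟩
      exact hgen i
    have hm : ∀ m, L ≤ Ideal.span (Set.range y) ⊔ L ^ (m + 1) := by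
      intro m
      induction m with
      | zero => simp
      | succ m ih =>
        refine h1.trans (sup_le le_sup_left ?_)
        rw [pow_two]
        refine (Ideal.mul_mono le_rfl ih).trans ?_
        rw [Ideal.mul_sup]
        refine sup_le (le_trans Ideal.mul_le_right le_sup_left) (le_trans ?_ le_sup_right)
        rw [← pow_succ']
    refine (hm n).trans (sup_le le_rfl ?_)
    have : L ^ (n + 1) = ⊥ := by
      rw [pow_succ, hL, ← Ideal.map_pow, Ideal.map_quotient_self, Ideal.bot_mul]
    rw [this]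
    exact bot_le
  have hηsurj : Function.Surjective η := surjective_of_generators η ε _ hy
    (by rintro _ ⟨i, rfl⟩; exact ⟨_, rfl⟩) n hεn
  have hφsurj : Function.Surjective φ := fun z => by
    obtain ⟨w, rfl⟩ := hηsurj z
    obtain ⟨s, rfl⟩ := Ideal.Quotient.mk_surjective w
    exact ⟨ψ s, rfl⟩
  obtain ⟨hPfin, -⟩ := projective_quotient_idealOfVars A d (n + 2)
  haveI : Module.Finite A (B ⧸ K ^ n) := Module.Finite.of_surjective φ.toLinearMap hφsurj
  have hηbij : Function.Bijective η :=
    ⟨OrzechProperty.injective_of_surjective_endomorphism η.toLinearMap hηsurj, hηsurj⟩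
  let e := AlgEquiv.ofBijective η hηbij
  obtain ⟨hQfin, hQproj⟩ := projective_quotient_idealOfVars A d n
  let fac : P ⧸ J ^ (n + 2) →ₐ[A] P ⧸ J ^ n :=
    Ideal.Quotient.factorₐ A (Ideal.pow_le_pow_right (by omega))
  let φn : P ⧸ J ^ n →ₐ[A] B ⧸ K ^ n := Ideal.quotientMapₐ (K ^ n) toB (htoB n)
  let ψn : B ⧸ K ^ n →ₐ[A] P ⧸ J ^ n := Ideal.Quotient.liftₐ (K ^ n) (fac.comp ψ) fun s hs => by
    have h1 : ψ s ∈ (J ^ n).map (Ideal.Quotient.mk (J ^ (n + 2))) := by
      rw [Ideal.map_pow]
      refine Ideal.pow_right_mono hψmem n ?_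
      rw [← Ideal.map_pow]
      exact Ideal.mem_map_of_mem ψ.toRingHom hs
    obtain ⟨q, hq, hq'⟩ := (Ideal.mem_map_iff_of_surjective _ Ideal.Quotient.mk_surjective).1 h1
    show fac (ψ s) = 0
    rw [← hq']
    exact Ideal.Quotient.eq_zero_iff_mem.2 hq
  have hφψ : ∀ z, φn (ψn z) = η z := by
    intro z
    obtain ⟨s, rfl⟩ := Ideal.Quotient.mk_surjective z
    show φn (fac (ψ s)) = φ (ψ s)
    obtain ⟨q, hq⟩ := Ideal.Quotient.mk_surjective (ψ s)
    rw [← hq]
    rfl
  refine ⟨inferInstance, Module.Projective.of_split (ψn.toLinearMap ∘ₗ e.symm.toLinearMap)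
    φn.toLinearMap (LinearMap.ext fun z => ?_)⟩
  show φn (ψn (e.symm z)) = z
  rw [hφψ]
  exact e.apply_symm_apply z

end Groth.L02.SchDom
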