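import Mathlib.LinearAlgebra.TensorProduct.RightExactness
import Mathlib.LinearAlgebra.TensorProduct.Tower
import Mathlib.LinearAlgebra.DirectSum.Finsupp
import Mathlib.Algebra.Module.Projective
import Mathlib.RingTheory.Flat.Basic
import Mathlib.RingTheory.Ideal.Operations
import Mathlib.RingTheory.TensorProduct.Maps
import Mathlib.RingTheory.Ideal.Quotient.Operations

/-!
# Separating families of linear maps and ring maps (EGA IV 11.9)
-/

universe u v v' w

namespace Groth.L02.SchDom

open TensorProduct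

/-- A family of linear maps `φ j : M → N j`, compatible with endomorphisms `h`, `k j`, separates
`M` up to powers of `h`. -/
def LSep {R : Type u} [CommRing R] {M : Type v} [AddCommGroup M] [Module R M] {ι : Type w}
    {N : ι → Type v'} [∀ j, AddCommGroup (N j)] [∀ j, Module R (N j)]
    (h : M →ₗ[R] M) (k : ∀ j, N j →ₗ[R] N j) (φ : ∀ j, M →ₗ[R] N j) : Prop :=
  ∀ x : M, (∀ j, ∃ n : ℕ, (k j ^ n) (φ j x) = 0) → ∃ n : ℕ, (h ^ n) x = 0

/-- A family of ring maps which is jointly injective on every principal open. -/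
def LocSep {B : Type u} [CommRing B] {ι : Type w} {C : ι → Type v} [∀ j, CommRing (C j)]
    (φ : ∀ j, B →+* C j) : Prop :=
  ∀ h x : B, (∀ j, ∃ n : ℕ, φ j (h ^ n * x) = 0) → ∃ n : ℕ, h ^ n * x = 0

lemma LocSep.eq_zero {B : Type u} [CommRing B] {ι : Type w} {C : ι → Type v}
    [∀ j, CommRing (C j)] {φ : ∀ j, B →+* C j} (H : LocSep φ) {x : B} (hx : ∀ j, φ j x = 0) :
    x = 0 := by
  obtain ⟨n, hn⟩ := H 1 x fun j => ⟨0, by simpa using hx j⟩
  simpa using hn

lemma LocSep.of_equiv {B : Type u} [CommRing B] {B₂ : Type v} [CommRing B₂] {ι : Type w}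
    {C : ι → Type u} [∀ j, CommRing (C j)] {C₂ : ι → Type v} [∀ j, CommRing (C₂ j)]
    {φ : ∀ j, B →+* C j} {φ₂ : ∀ j, B₂ →+* C₂ j} (e : B ≃+* B₂) (eC : ∀ j, C j ≃+* C₂ j)
    (hc : ∀ j b, eC j (φ j b) = φ₂ j (e b)) (H : LocSep φ) : LocSep φ₂ := by
  intro h x hx
  obtain ⟨n, hn⟩ := H (e.symm h) (e.symm x) fun j => by
    obtain ⟨n, hn⟩ := hx j
    refine ⟨n, (eC j).injective ?_⟩
    rw [hc, map_mul, map_pow, e.apply_symm_apply, e.apply_symm_apply, map_zero, hn]
  exact ⟨n, by simpa using congrArg e hn⟩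

section Proj

variable {R : Type u} [CommRing R] {M : Type v} [AddCommGroup M] [Module R M] {ι : Type w}
  {N : ι → Type v'} [∀ j, AddCommGroup (N j)] [∀ j, Module R (N j)]
  {h : M →ₗ[R] M} {k : ∀ j, N j →ₗ[R] N j} {φ : ∀ j, M →ₗ[R] N j}

lemma lTensor_pow_apply {P : Type*} [AddCommGroup P] [Module R P] {Q : Type*} [AddCommGroup Q]
    [Module R Q] (f : Q →ₗ[R] Q) (n : ℕ) :
    (f ^ n).lTensor P = (f.lTensor P) ^ n := by
  induction n with
  | zero => simp [pow_zero, Module.End.one_eq_id]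
  | succ n ih => rw [pow_succ, pow_succ, ← ih, Module.End.mul_eq_comp, Module.End.mul_eq_comp,
      LinearMap.lTensor_comp]

lemma finsuppScalarLeft_lTensor {κ : Type*} [DecidableEq κ] {Q : Type*} [AddCommGroup Q] [Module R Q]
    {Q' : Type*} [AddCommGroup Q'] [Module R Q'] (f : Q →ₗ[R] Q') (y : (κ →₀ R) ⊗[R] Q) :
    TensorProduct.finsuppScalarLeft R Q' κ (f.lTensor _ y) =
      (TensorProduct.finsuppScalarLeft R Q κ y).mapRange f f.map_zero := by
  induction y with
  | zero => simp
  | tmul a q => ext l; simp [finsuppScalarLeft_apply_tmul_apply]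
  | add a b ha hb =>
      simp only [map_add, ha, hb]
      ext l; simp

lemma lTensor_rTensor_comm {G : Type*} [AddCommGroup G] [Module R G] {G' : Type*}
    [AddCommGroup G'] [Module R G'] (s : G →ₗ[R] G') {Q : Type*} [AddCommGroup Q] [Module R Q]
    {Q' : Type*} [AddCommGroup Q'] [Module R Q'] (f : Q →ₗ[R] Q') (y : G ⊗[R] Q) :
    f.lTensor _ (s.rTensor Q y) = s.rTensor Q' (f.lTensor G y) := by
  induction y with
  | zero => simp
  | tmul a q => simp
  | add a b ha hb => simp only [map_add, ha, hb]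

lemma LSep.lTensor_finsupp {κ : Type*} (H : LSep h k φ) :
    LSep (M := (κ →₀ R) ⊗[R] M) (N := fun j => (κ →₀ R) ⊗[R] N j) (h.lTensor (κ →₀ R)) (fun j => (k j).lTensor (κ →₀ R))
      (fun j => (φ j).lTensor (κ →₀ R)) := by
  classical
  intro x hx
  let e := TensorProduct.finsuppScalarLeft R M κ
  have hcoord : ∀ l, ∃ n, (h ^ n) (e x l) = 0 := by
    intro l
    refine H _ fun j => ?_
    obtain ⟨n, hn⟩ := hx j
    refine ⟨n, ?_⟩
    have := congrArg (TensorProduct.finsuppScalarLeft R (N j) κ) hn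
    rw [map_zero, ← lTensor_pow_apply, ← LinearMap.comp_apply, ← LinearMap.lTensor_comp, finsuppScalarLeft_lTensor]
      at this
    simpa [e] using congr($this l)
  choose n hn using hcoord
  refine ⟨(e x).support.sup n, e.injective ?_⟩
  rw [← lTensor_pow_apply, finsuppScalarLeft_lTensor, map_zero]
  ext l
  simp only [Finsupp.mapRange_apply, Finsupp.coe_zero, Pi.zero_apply]
  by_cases hl : l ∈ (e x).support
  · obtain ⟨d, hd⟩ := Nat.exists_eq_add_of_le (Finset.le_sup (f := n) hl)
    rw [hd, add_comm, pow_add, Module.End.mul_apply, hn l, map_zero]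
  · simp [e, Finsupp.notMem_support_iff.mp hl]

/-- Separation is preserved by tensoring with a projective module. -/
lemma LSep.lTensor_projective (G : Type*) [AddCommGroup G] [Module R G] [Module.Projective R G]
    (H : LSep h k φ) :
    LSep (M := G ⊗[R] M) (N := fun j => G ⊗[R] N j) (h.lTensor G) (fun j => (k j).lTensor G) (fun j => (φ j).lTensor G) := by
  intro x hx
  obtain ⟨s, hs⟩ := Module.projective_def'.mp (inferInstance : Module.Projective R G)
  let q : (G →₀ R) →ₗ[R] G := Finsupp.linearCombination R id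
  obtain ⟨n, hn⟩ := (H.lTensor_finsupp (κ := G)) (s.rTensor M x) fun j => by
    obtain ⟨n, hn⟩ := hx j
    refine ⟨n, ?_⟩
    rw [← lTensor_pow_apply] at hn ⊢
    rw [lTensor_rTensor_comm, lTensor_rTensor_comm, hn, map_zero]
  refine ⟨n, ?_⟩
  rw [← lTensor_pow_apply] at hn ⊢
  rw [lTensor_rTensor_comm] at hn
  have := congrArg (q.rTensor M) hn
  rwa [map_zero, ← LinearMap.comp_apply, ← LinearMap.rTensor_comp, hs, LinearMap.rTensor_id,
    LinearMap.id_apply] at this

lemma lSep_id_iff : LSep (LinearMap.id : M →ₗ[R] M) (fun _ => LinearMap.id) φ ↔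
    ∀ x : M, (∀ j, φ j x = 0) → x = 0 := by
  simp [LSep, ← Module.End.one_eq_id]

end Proj

end Groth.L02.SchDom
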