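import Groth.Agent.L02.SchDom.Apply
import Mathlib.CategoryTheory.Monoidal.Cartesian.Over
import Mathlib.CategoryTheory.Monoidal.Cartesian.Grp
import Mathlib.AlgebraicGeometry.Noetherian
import Groth.Prelude.Def_MoreMor

/-!
# Kernels of power maps and schematically dense families of them
-/

set_option autoImplicit false

universe u

open CategoryTheory Limits AlgebraicGeometry MonoidalCategory CartesianMonoidalCategory MonObj

set_option backward.isDefEq.respectTransparency.types false

noncomputable section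

namespace Groth.L02.SchDom

variable {S : Scheme.{u}} (H : Over S) [GrpObj H]

/-- The inclusion of the kernel of the `n`-th power map. -/
abbrev kerιLeft (n : ℕ) : pullback η[H].left (𝟙 H ^ n : H ⟶ H).left ⟶ H.left :=
  pullback.snd η[H].left (𝟙 H ^ n : H ⟶ H).left

/-- The kernel of the `n`-th power map as an object over `S`. -/
abbrev kerOver (n : ℕ) : Over S := Over.mk (kerιLeft H n ≫ H.hom)

/-- The inclusion of the kernel as a morphism over `S`. -/
abbrev kerι (n : ℕ) : kerOver H n ⟶ H := Over.homMk (kerιLeft H n) rfl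

theorem toUnit_left (X : Over S) : (toUnit X).left = X.hom :=
  (Category.comp_id _).symm.trans (Over.w (toUnit X))

theorem one_left (X : Over S) : (1 : X ⟶ H).left = X.hom ≫ η[H].left := by
  rw [Hom.one_def, Over.comp_left, toUnit_left]

/-- Points of the kernel. -/
theorem factors_kerι_iff (n : ℕ) {X : Over S} (h : X ⟶ H) :
    (∃ z : X ⟶ kerOver H n, z ≫ kerι H n = h) ↔ h ^ n = 1 := by
  have hw : (kerι H n) ≫ (𝟙 H ^ n : H ⟶ H) = 1 := by
    apply Over.OverMorphism.ext
    rw [one_left, Over.comp_left]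
    show kerιLeft H n ≫ (𝟙 H ^ n : H ⟶ H).left = (kerιLeft H n ≫ H.hom) ≫ η[H].left
    rw [← pullback.condition]
    congr 1
    have h1 : pullback.fst η[H].left (𝟙 H ^ n : H ⟶ H).left =
        pullback.fst η[H].left (𝟙 H ^ n : H ⟶ H).left ≫ η[H].left ≫ H.hom := by
      rw [show η[H].left ≫ H.hom = 𝟙 S from Over.w η[H]]
      exact (Category.comp_id _).symm
    rw [h1, ← Category.assoc, pullback.condition, Category.assoc, Over.w (𝟙 H ^ n : H ⟶ H)]
  constructor
  · rintro ⟨z, rfl⟩
    have h1 : ((z ≫ kerι H n) ^ n : X ⟶ H) = (z ≫ kerι H n) ≫ (𝟙 H ^ n : H ⟶ H) := by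
      rw [MonObj.comp_pow, Category.comp_id]
    rw [h1, Category.assoc, hw, MonObj.comp_one]
  · intro hh
    have h1 : h ≫ (𝟙 H ^ n : H ⟶ H) = 1 := by rw [MonObj.comp_pow, Category.comp_id, hh]
    have h2 : h.left ≫ (𝟙 H ^ n : H ⟶ H).left = X.hom ≫ η[H].left := by
      rw [← Over.comp_left, h1, one_left]
    refine ⟨Over.homMk (pullback.lift X.hom h.left h2.symm) ?_, ?_⟩
    · show pullback.lift X.hom h.left h2.symm ≫ kerιLeft H n ≫ H.hom = X.hom
      rw [pullback.lift_snd_assoc, Over.w h]
    · exact Over.OverMorphism.ext (pullback.lift_snd _ _ _)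

theorem kerι_pow (n : ℕ) : (kerι H n) ^ n = 1 :=
  (factors_kerι_iff H n _).1 ⟨𝟙 _, Category.id_comp _⟩

theorem exists_kerι_of_dvd {m n : ℕ} (h : m ∣ n) :
    ∃ z : kerOver H m ⟶ kerOver H n, z ≫ kerι H n = kerι H m := by
  obtain ⟨k, rfl⟩ := h
  rw [factors_kerι_iff, pow_mul, kerι_pow, one_pow]

variable (E : Set ℕ)

/-- The family of the inclusions of the kernels. -/
abbrev kerFam (n : ULift.{u} E) : pullback η[H].left (𝟙 H ^ (n.down : ℕ) : H ⟶ H).left ⟶ H.left :=
  kerιLeft H n.down

/-- Kernels of power maps with schematically dense fibres are universally schematically dominant. -/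
theorem kerFam_dom_bc [IsLocallyNoetherian S] [LocallyOfFiniteType H.hom]
    (ha : ∀ n ∈ E, Flat (kerιLeft H n ≫ H.hom))
    (hb : ∀ (s : S) (V : (H.hom.fiber s).Opens) (t : Γ(H.hom.fiber s, V)),
      (∀ n ∈ E, (MoreMor.fiberMap (kerιLeft H n) H.hom s).app V t = 0) → t = 0)
    {S' : Scheme.{u}} (g : S' ⟶ S) : Dom (bcMap H.hom g (kerFam H E)) := by
  haveI : IsLocallyNoetherian H.left := LocallyOfFiniteType.isLocallyNoetherian H.hom
  haveI : ∀ n : ULift.{u} E, Flat (kerFam H E n ≫ H.hom) := fun n => ha _ n.down.2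
  refine Dom.baseChange_of_fibrewise H.hom (fun s V t ht => hb s V t fun n hn => ?_) g
  have e : MoreMor.fiberMap (kerιLeft H n) H.hom s =
      bcMap H.hom (S.fromSpecResidueField s) (kerFam H E) ⟨⟨n, hn⟩⟩ := by
    apply pullback.hom_ext
    · exact (pullback.lift_fst _ _ _).trans (pullback.lift_fst _ _ _).symm
    · exact (pullback.lift_snd _ _ _).trans
        ((pullback.lift_snd _ _ _).trans (Category.comp_id _)).symm
  rw [e]
  exact ht _

end Groth.L02.SchDom
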