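import Groth.Agent.L07.DimToolkit
import Groth.Agent.L07.DimSub
import Groth.Agent.L07.EquidimQF
import Groth.Agent.L22.Cyc.FieldExt
import Groth.Agent.L23.FibreDimBC
import Groth.Agent.L22.FibreDim
import Mathlib.RingTheory.Valuation.LocalSubring
import Mathlib.AlgebraicGeometry.Morphisms.UniversallyOpen
import Mathlib.Topology.NoetherianSpace

/-!
# Dimension of closures of images of universally open families in fibres (EGA IV 14)
-/

universe u v

open CategoryTheory Limits AlgebraicGeometry Topology TopologicalSpace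

set_option autoImplicit false
set_option linter.style.haveILetI false
set_option maxSynthPendingDepth 3
set_option backward.isDefEq.respectTransparency.types false

namespace Groth.L02.UnivOpenDim

open Groth.L07.Equidim

/-- Elements independent over a residue field stay independent at a generisation, over a valuation
ring. -/
theorem algebraicIndependent_of_valuation {K : Type u} [Field K] (A : ValuationSubring K)
    {O : Type u} [CommRing O] {kt κ L : Type u} [Field kt] [Field κ] [Field L]
    [Algebra kt κ] [Algebra K L] (res : O →+* κ) (hres : ∀ e, res e ≠ 0 → IsUnit e)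
    (φ : A →+* O) (θ : A →+* kt) (hθ : ∀ a, res (φ a) = algebraMap kt κ (θ a))
    (ev : O →+* L) (hev : ∀ a : A, ev (φ a) = algebraMap K L (a : K))
    {J : Type v} (l : J → O) (hl : AlgebraicIndependent kt (res ∘ l)) :
    AlgebraicIndependent K (ev ∘ l) := by
  classical
  rw [algebraicIndependent_iff]
  intro G hG
  by_contra hne
  obtain ⟨m₀, hm₀, hmax⟩ := G.support.exists_max_image (fun m => A.valuation (G.coeff m))
    (MvPolynomial.support_nonempty.mpr hne)
  have hc0 : G.coeff m₀ ≠ 0 := MvPolynomial.mem_support_iff.mp hm₀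
  let G₀ : MvPolynomial J K := MvPolynomial.C (G.coeff m₀)⁻¹ * G
  have hcoeff : ∀ m, G₀.coeff m = (G.coeff m₀)⁻¹ * G.coeff m := fun m => MvPolynomial.coeff_C_mul _ _ _
  have hmem : ∀ m, G₀.coeff m ∈ A := by
    intro m
    rw [hcoeff, ← A.valuation_le_one_iff, map_mul, map_inv₀]
    by_cases hm : m ∈ G.support
    · have h0 : A.valuation (G.coeff m₀) ≠ 0 := by simpa using hc0
      calc (A.valuation (G.coeff m₀))⁻¹ * A.valuation (G.coeff m)
          ≤ (A.valuation (G.coeff m₀))⁻¹ * A.valuation (G.coeff m₀) :=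
            mul_le_mul_right (hmax m hm) _
        _ = 1 := inv_mul_cancel₀ h0
    · rw [MvPolynomial.notMem_support_iff.mp hm, map_zero, mul_zero]
      exact zero_le
  obtain ⟨G₁, hG₁⟩ : G₀ ∈ Set.range (MvPolynomial.map A.subtype) := by
    rw [MvPolynomial.mem_range_map_iff_coeffs_subset]
    intro c hc
    obtain ⟨m, -, rfl⟩ := MvPolynomial.mem_coeffs_iff.mp hc
    exact ⟨⟨_, hmem m⟩, rfl⟩
  have hG₁m : G₁.coeff m₀ = 1 := by
    apply Subtype.val_injective
    have := congrArg (MvPolynomial.coeff m₀) hG₁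
    rw [MvPolynomial.coeff_map, hcoeff, inv_mul_cancel₀ hc0] at this
    exact this
  let e : O := MvPolynomial.eval₂ φ l G₁
  have hue : IsUnit e := by
    refine hres e fun h0 => ?_
    have h1 : MvPolynomial.aeval (res ∘ l) (MvPolynomial.map θ G₁) = 0 := by
      rw [MvPolynomial.aeval_def, MvPolynomial.eval₂_map, ← h0]
      show _ = res (MvPolynomial.eval₂ φ l G₁)
      rw [MvPolynomial.hom_eval₂]
      congr 1
      exact RingHom.ext fun a => (hθ a).symm
    have h2 := congrArg (MvPolynomial.coeff m₀) (algebraicIndependent_iff.mp hl _ h1)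
    rw [MvPolynomial.coeff_map, hG₁m, map_one, MvPolynomial.coeff_zero] at h2
    exact one_ne_zero h2
  have h3 : ev e = MvPolynomial.aeval (ev ∘ l) G₀ := by
    rw [← hG₁, MvPolynomial.aeval_def, MvPolynomial.eval₂_map]
    show ev (MvPolynomial.eval₂ φ l G₁) = _
    rw [MvPolynomial.hom_eval₂]
    congr 1
    exact RingHom.ext fun a => hev a
  have h4 : MvPolynomial.aeval (ev ∘ l) G₀ = 0 := by rw [map_mul, hG, mul_zero]
  exact (hue.map ev).ne_zero (h3.trans h4)

variable {K : Type u} [Field K] (A : ValuationSubring K)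

/-- The evaluation of the valuation ring at a point of its spectrum. -/
noncomputable def evalV (t : Spec (CommRingCat.of A)) :
    CommRingCat.of A ⟶ (Spec (CommRingCat.of A)).residueField t :=
  (Scheme.ΓSpecIso (CommRingCat.of A)).inv ≫
    (Spec (CommRingCat.of A)).evaluation ⊤ t trivial

/-- The generic point of the spectrum of a valuation ring. -/
noncomputable def genV : Spec (CommRingCat.of A) := (⟨⊥, Ideal.isPrime_bot⟩ : PrimeSpectrum A)

theorem exists_psi : ∃ ψ : (Spec (CommRingCat.of A)).residueField (genV A) ⟶ CommRingCat.of K,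
    Function.Bijective ψ.hom ∧ ∀ a : A, ψ.hom ((evalV A (genV A)).hom a) = (a : K) := by
  let p : Ideal A := (genV A).asIdeal
  have hp : p = ⊥ := rfl
  have hker : p ≤ RingHom.ker A.subtype := hp ▸ bot_le
  have hunit : p.primeCompl ≤ (IsUnit.submonoid K).comap A.subtype := fun a ha =>
    isUnit_iff_ne_zero.mpr fun h => ha (Subtype.val_injective (a₁ := a) (a₂ := 0) h ▸ p.zero_mem)
  let e : p.ResidueField →+* K := Ideal.ResidueField.lift p A.subtype hker hunit
  have he : ∀ a : A, e (algebraMap A p.ResidueField a) = (a : K) := fun a =>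
    Ideal.ResidueField.lift_algebraMap _ _ hker hunit a
  refine ⟨(Scheme.Spec.residueFieldIso (CommRingCat.of A) (genV A)).hom ≫ CommRingCat.ofHom e, ?_, ?_⟩
  · have hsurj : Function.Surjective e := fun k => by
      obtain ⟨a, b, -, rfl⟩ := IsFractionRing.div_surjective A k
      exact ⟨algebraMap A p.ResidueField a / algebraMap A p.ResidueField b, by
        rw [map_div₀, he, he]; rfl⟩
    show Function.Bijective
      (e ∘ (Scheme.Spec.residueFieldIso (CommRingCat.of A) (genV A)).hom.hom)
    exact Function.Bijective.comp ⟨e.injective, hsurj⟩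
      (ConcreteCategory.bijective_of_isIso (Scheme.Spec.residueFieldIso (CommRingCat.of A) (genV A)).hom)
  · intro a
    have h1 : evalV A (genV A) = CommRingCat.ofHom (algebraMap A p.ResidueField) ≫
        (Scheme.Spec.residueFieldIso (CommRingCat.of A) (genV A)).inv :=
      (Scheme.Spec.algebraMap_residueFieldIso_inv (CommRingCat.of A) (genV A)).symm
    rw [h1]
    show e ((Scheme.Spec.residueFieldIso (CommRingCat.of A) (genV A)).hom.hom
      ((Scheme.Spec.residueFieldIso (CommRingCat.of A) (genV A)).inv.hom _)) = _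
    rw [← CommRingCat.comp_apply, Iso.inv_hom_id]
    exact he a

variable {Z : Scheme.{u}} (π : Z ⟶ Spec (CommRingCat.of A)) [LocallyOfFiniteType π]

/-- Over a valuation ring the dimension of the closure in the fibre can only drop under
specialisation from the generic fibre. -/
theorem fdim_le_of_specializes_generic {Q Q' : Z} (h : Q' ⤳ Q) (hQ' : π Q' = genV A) :
    fdim π Q ≤ fdim π Q' := by
  obtain ⟨n, hn, hnt⟩ := Groth.L07.DimToolkit.exists_fdim_rtrdeg π Q
  obtain ⟨n', hn', hnt'⟩ := Groth.L07.DimToolkit.exists_fdim_rtrdeg π Q'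
  rw [hn, hn']
  suffices (n : Cardinal.{u}) ≤ n' by exact_mod_cast (Nat.cast_le.mp this)
  rw [← hnt, ← hnt']
  letI algQ := (π.residueFieldMap Q).hom.toAlgebra
  letI algQ' := (π.residueFieldMap Q').hom.toAlgebra
  obtain ⟨s, hs⟩ := exists_isTranscendenceBasis ((Spec (CommRingCat.of A)).residueField (π Q))
    (Z.residueField Q)
  have hlift : ∀ b : s, ∃ e : Z.presheaf.stalk Q, Z.residue Q e = b.1 := fun b =>
    Z.residue_surjective Q b.1
  choose l hl using hlift
  obtain ⟨ψ₀, hψb, hψ⟩ := exists_psi A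
  let ψ : (Spec (CommRingCat.of A)).residueField (π Q') ⟶ CommRingCat.of K :=
    ((Spec (CommRingCat.of A)).residueFieldCongr hQ').hom ≫ ψ₀
  have hψbij : Function.Bijective ψ.hom :=
    hψb.comp (ConcreteCategory.bijective_of_isIso ((Spec (CommRingCat.of A)).residueFieldCongr hQ').hom)
  have hψ' : ∀ a : A, ψ.hom ((evalV A (π Q')).hom a) = (a : K) := by
    have : ∀ (t : Spec (CommRingCat.of A)) (e : t = genV A) (a : A),
        ψ₀.hom (((Spec (CommRingCat.of A)).residueFieldCongr e).hom ((evalV A t).hom a)) = (a : K) := by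
      rintro t rfl a
      exact hψ a
    exact this _ hQ'
  let ψe := RingEquiv.ofBijective ψ.hom hψbij
  letI algKL : Algebra K (Z.residueField Q') :=
    ((π.residueFieldMap Q').hom.comp ψe.symm.toRingHom).toAlgebra
  let ev : Z.presheaf.stalk Q →+* Z.residueField Q' :=
    (Z.presheaf.stalkSpecializes h ≫ Z.residue Q').hom
  let φ : A →+* Z.presheaf.stalk Q :=
    ((Scheme.ΓSpecIso (CommRingCat.of A)).inv ≫ π.appTop ≫ Z.presheaf.germ ⊤ Q trivial).hom
  have hθ : ∀ a, (Z.residue Q).hom (φ a) = algebraMap _ (Z.residueField Q) ((evalV A (π Q)).hom a) :=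
    fun a => (Scheme.Γevaluation_naturality_apply π Q ((Scheme.ΓSpecIso (CommRingCat.of A)).inv.hom a)).symm
  have hev : ∀ a : A, ev (φ a) = algebraMap K (Z.residueField Q') (a : K) := by
    intro a
    have h1 : ev (φ a) = (π.residueFieldMap Q').hom ((evalV A (π Q')).hom a) := by
      refine Eq.trans ?_ (Scheme.Γevaluation_naturality_apply π Q'
        ((Scheme.ΓSpecIso (CommRingCat.of A)).inv.hom a)).symm
      show Z.residue Q' (Z.presheaf.stalkSpecializes h (Z.presheaf.germ ⊤ Q trivial _)) = _
      rw [TopCat.Presheaf.germ_stalkSpecializes_apply]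
      rfl
    rw [h1]
    show _ = (π.residueFieldMap Q').hom (ψe.symm (a : K))
    congr 1
    exact (ψe.symm_apply_eq.mpr (hψ' a).symm).symm
  have hres : ∀ e, (Z.residue Q).hom e ≠ 0 → IsUnit e := fun e he =>
    IsLocalRing.notMem_maximalIdeal.mp fun hm => he ((IsLocalRing.residue_eq_zero_iff e).mpr hm)
  have hfun : ((Z.residue Q).hom ∘ l) = ((↑) : s → Z.residueField Q) := funext hl
  have hind : AlgebraicIndependent ((Spec (CommRingCat.of A)).residueField (π Q))
      ((Z.residue Q).hom ∘ l) := by rw [hfun]; exact hs.1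
  have hK := algebraicIndependent_of_valuation A (Z.residue Q).hom hres φ (evalV A (π Q)).hom hθ
    ev hev l hind
  have h5 : Algebra.trdeg K (Z.residueField Q') =
      Algebra.trdeg ((Spec (CommRingCat.of A)).residueField (π Q')) (Z.residueField Q') :=
    Groth.L22.Cyc.trdeg_eq_of_square ψe.symm (RingEquiv.refl _) fun _ => rfl
  show Algebra.trdeg _ (Z.residueField Q) ≤ Algebra.trdeg _ (Z.residueField Q')
  rw [← h5, ← hs.cardinalMk_eq_trdeg]
  exact hK.cardinalMk_le_trdeg

omit [Field K] in
/-- Transport of the dimension of the closure of a point in a fibre. -/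
theorem dim_closure_fiber {X S : Scheme.{u}} (f : X ⟶ S) (s : S) (w : f.fiber s) :
    topologicalKrullDim (closure ({w} : Set (f.fiber s))) = fdim f (f.fiberι s w) := by
  refine (Groth.L22.SchemeDim.topologicalKrullDim_eq_of_isEmbedding
    (f := fun v : closure ({w} : Set (f.fiber s)) => f.fiberι s v.1)
    ((f.fiberι s).isEmbedding.comp IsEmbedding.subtypeVal) ?_).symm
  have := (f.fiberι s).isEmbedding.isInducing.closure_eq_preimage_closure_image {w}
  rw [Set.image_singleton] at this
  rw [Set.range_comp', Subtype.range_coe, this, Set.image_preimage_eq_inter_range, f.range_fiberι]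
  have hw : f (f.fiberι s w) = s := apply_fiberι f s w
  rw [hw]

omit [Field K] in
/-- Base change to a field extension does not lower the dimension of a suitable point above. -/
theorem exists_point_fieldExt {k k' : Type u} [Field k] [Field k'] {F F' : Scheme.{u}}
    (p : F ⟶ Spec (CommRingCat.of k)) (hp : LocallyOfFiniteType p)
    (ψ : CommRingCat.of k ⟶ CommRingCat.of k') (p' : F' ⟶ Spec (CommRingCat.of k'))
    (m : F' ⟶ F) (hpb : IsPullback m p' p (Spec.map ψ)) (w : F) :
    ∃ q : F', m q = w ∧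
      topologicalKrullDim (closure ({w} : Set F)) ≤ topologicalKrullDim (closure ({q} : Set F')) := by
  haveI := hp
  let C : Closeds F := ⟨closure {w}, isClosed_closure⟩
  let i := (Scheme.IdealSheafData.vanishingIdeal C).subschemeι
  have hrange : Set.range i = closure {w} := Groth.L07.DimToolkit.range_subschemeι_vanishingIdeal C
  obtain ⟨hirr, hgen⟩ := Groth.L07.DimToolkit.irreducible_of_range_eq i w hrange
  haveI := hirr
  let Fc := (Scheme.IdealSheafData.vanishingIdeal C).subscheme
  haveI : Surjective (Spec.map ψ) := by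
    refine ⟨fun y => ⟨IsLocalRing.closedPoint k', ?_⟩⟩
    exact Subsingleton.elim _ _
  haveI : Surjective m := MorphismProperty.of_isPullback hpb.flip ‹_›
  have sq : IsPullback (pullback.fst i m) (pullback.snd i m ≫ p') (i ≫ p) (Spec.map ψ) :=
    (IsPullback.of_hasPullback i m).paste_vert hpb
  obtain ⟨z₀, hz₀⟩ := (pullback.fst i m).surjective (genericPoint Fc)
  obtain ⟨z, hz, hzmax⟩ := Groth.L23.exists_maximal_generization z₀
  have hzg : pullback.fst i m z = genericPoint Fc := by
    have h1 : pullback.fst i m z ⤳ genericPoint Fc := hz₀ ▸ hz.map (pullback.fst i m).continuous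
    exact (h1.antisymm ((genericPoint_spec Fc).specializes trivial)).eq
  letI : Fc.Over (Spec (CommRingCat.of k)) := ⟨i ≫ p⟩
  haveI : LocallyOfFiniteType (Fc ↘ Spec (CommRingCat.of k)) :=
    inferInstanceAs (LocallyOfFiniteType (i ≫ p))
  obtain ⟨n, hn, -⟩ := Groth.L22.SchemeDim.exists_dim_closure_eq_trdeg k Fc (genericPoint Fc)
  have hz2 := Groth.L22.Cyc.dim_closure_baseChange k k' (i ≫ p) ψ _ _ sq hzmax (hzg.symm ▸ hn)
  refine ⟨pullback.snd i m z, ?_, ?_⟩
  · rw [← Scheme.Hom.comp_apply, ← pullback.condition, Scheme.Hom.comp_apply, hzg]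
    exact hgen
  · have h1 : topologicalKrullDim (closure ({w} : Set F)) = (n : WithBot ℕ∞) := by
      rw [← hn]
      refine Groth.L22.SchemeDim.topologicalKrullDim_eq_of_isEmbedding
        (f := fun v : closure ({genericPoint Fc} : Set Fc) => i v.1)
        (i.isClosedEmbedding.isEmbedding.comp IsEmbedding.subtypeVal) ?_
      rw [Set.range_comp', Subtype.range_coe, genericPoint_closure, Set.image_univ, hrange]
    rw [h1, ← hz2]
    have hcl := (pullback.snd i m).isClosedEmbedding
    refine le_of_eq (Groth.L22.SchemeDim.topologicalKrullDim_eq_of_isEmbedding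
      (f := fun v : closure ({z} : Set _) => pullback.snd i m v.1)
      (hcl.isEmbedding.comp IsEmbedding.subtypeVal) ?_).symm
    rw [Set.range_comp', Subtype.range_coe, ← hcl.closure_image_eq, Set.image_singleton]

omit [Field K] in
/-- The main statement. -/
theorem dim_le_of_generization {X S : Scheme.{u}} (f : X ⟶ S) [LocallyOfFiniteType f]
    [QuasiCompact f] {ι : Type u} (Y : ι → Scheme.{u}) (g : ∀ i, Y i ⟶ S)
    [∀ i, UniversallyOpen (g i)] (v : ∀ i, Y i ⟶ X) (hv : ∀ i, v i ≫ f = g i) (s s' : S)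
    (hs : s' ⤳ s) :
    topologicalKrullDim ↥(f.base ⁻¹' {s} ∩
        closure ((⋃ i, Set.range (v i).base) ∩ f.base ⁻¹' {s})) ≤
      topologicalKrullDim ↥(f.base ⁻¹' {s'} ∩
        closure ((⋃ i, Set.range (v i).base) ∩ f.base ⁻¹' {s'})) := by
  let R : Set X := ⋃ i, Set.range (v i).base
  let C : S → Set X := fun t => f.base ⁻¹' {t} ∩ closure (R ∩ f.base ⁻¹' {t})
  show topologicalKrullDim ↥(C s) ≤ topologicalKrullDim ↥(C s')
  -- reduce to points
  have hrC : Set.range (f.fiberι s) = f.base ⁻¹' {s} := f.range_fiberι s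
  have hcl : IsClosed (f.fiberι s ⁻¹' C s) := by
    have : f.fiberι s ⁻¹' C s = f.fiberι s ⁻¹' closure (R ∩ f.base ⁻¹' {s}) := by
      ext w
      exact ⟨fun h => h.2, fun h => ⟨apply_fiberι f s w, h⟩⟩
    rw [this]
    exact isClosed_closure.preimage (Scheme.Hom.continuous _)
  rw [Groth.L22.SchemeDim.topologicalKrullDim_eq_of_isEmbedding
    (f := fun w : (f.fiberι s ⁻¹' C s : Set (f.fiber s)) => f.fiberι s w.1)
    ((f.fiberι s).isEmbedding.comp IsEmbedding.subtypeVal) (S := C s)
    (by rw [Set.range_comp', Subtype.range_coe, Set.image_preimage_eq_inter_range, hrC,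
          Set.inter_eq_left]
        exact fun x hx => hx.1)]
  haveI : QuasiSober (f.fiberι s ⁻¹' C s : Set (f.fiber s)) :=
    hcl.isClosedEmbedding_subtypeVal.quasiSober
  rw [Groth.L22.FibreDim.topologicalKrullDim_eq_iSup_closure]
  refine iSup_le fun w => ?_
  refine le_trans (b := topologicalKrullDim (closure ({w.1} : Set (f.fiber s)))) ?_ ?_
  · refine (Groth.L22.SchemeDim.topologicalKrullDim_eq_of_isEmbedding
      (f := fun z : closure ({w} : Set (f.fiberι s ⁻¹' C s : Set (f.fiber s))) => z.1.1)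
      (IsEmbedding.subtypeVal.comp IsEmbedding.subtypeVal) rfl).symm.le.trans
      (Groth.L22.SchemeDim.topologicalKrullDim_mono ?_)
    rintro _ ⟨⟨z, hz⟩, rfl⟩
    exact map_mem_closure continuous_subtype_val hz fun z' hz' => congrArg Subtype.val hz'
  -- base change to a valuation ring
  let stk : S.presheaf.stalk s ⟶ S.residueField s' :=
    S.presheaf.stalkSpecializes hs ≫ S.residue s'
  obtain ⟨V, hV, hVloc⟩ := IsLocalRing.exists_factor_valuationRing stk.hom
  let stkV : S.presheaf.stalk s ⟶ CommRingCat.of V :=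
    CommRingCat.ofHom (stk.hom.codRestrict V.toSubring hV)
  haveI : IsLocalHom stkV.hom := hVloc
  let a : Spec (CommRingCat.of V) ⟶ S := Spec.map stkV ≫ S.fromSpecStalk s
  let cl : Spec (CommRingCat.of V) := IsLocalRing.closedPoint V
  have hacl : a cl = s := by
    show S.fromSpecStalk s (Spec.map stkV (IsLocalRing.closedPoint V)) = s
    rw [show Spec.map stkV (IsLocalRing.closedPoint V) = IsLocalRing.closedPoint (S.presheaf.stalk s)
      from IsLocalRing.comap_closedPoint stkV.hom]
    exact S.fromSpecStalk_closedPoint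
  let inc : CommRingCat.of V ⟶ S.residueField s' := CommRingCat.ofHom V.subtype
  have haK : Spec.map inc ≫ a = S.fromSpecResidueField s' := by
    rw [Scheme.fromSpecResidueField, ← Scheme.SpecMap_stalkSpecializes_fromSpecStalk hs,
      ← Category.assoc, ← Category.assoc]
    show (Spec.map inc ≫ Spec.map stkV) ≫ _ = _
    rw [← Spec.map_comp, ← Spec.map_comp]
    rfl
  let gen : Spec (CommRingCat.of V) := genV V
  obtain ⟨ψ, hψb, hψ⟩ := exists_psi V
  have hincψ : Spec.map inc = Spec.map ψ ≫ (Spec (CommRingCat.of V)).fromSpecResidueField gen := by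
    rw [← Scheme.Spec.map_residueFieldIso_inv_eq_fromSpecResidueField, ← Spec.map_comp,
      ← Spec.map_comp]
    congr 1
    ext b
    show (b : S.residueField s') = _
    exact (hψ b).symm.trans (congrArg (fun z => ψ.hom z)
      congr($(Scheme.Spec.algebraMap_residueFieldIso_inv (CommRingCat.of V) gen).hom b).symm)
  have hagen : a gen = s' := by
    have h1 := congr($haK (IsLocalRing.closedPoint (S.residueField s')))
    rw [hincψ, Category.assoc, Scheme.Hom.comp_apply, Scheme.Hom.comp_apply,
      Scheme.fromSpecResidueField_apply, Scheme.fromSpecResidueField_apply] at h1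
    exact h1
  let π := pullback.snd f a
  let pr := pullback.fst f a
  have sq : IsPullback pr π f a := IsPullback.of_hasPullback f a
  -- the closed fibre
  let mc : π.fiber cl ⟶ f.fiber (a cl) :=
    pullback.map _ _ _ _ pr (Spec.map (a.residueFieldMap cl)) a sq.w.symm (by simp)
  have Hc := isPullback_fiberToSpecResidueField_of_isPullback sq cl
  have hmcι : ∀ q, f.fiberι (a cl) (mc q) = pr (π.fiberι cl q) := fun q => by
    have hcomm : mc ≫ f.fiberι (a cl) = π.fiberι cl ≫ pr := pullback.lift_fst _ _ _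
    rw [← Scheme.Hom.comp_apply, ← Scheme.Hom.comp_apply, hcomm]
  haveI : UniversallyOpen (Spec.map (a.residueFieldMap cl)) := inferInstance
  haveI : UniversallyOpen mc := MorphismProperty.of_isPullback (P := @UniversallyOpen) Hc.flip inferInstance
  haveI : LocallyOfFiniteType (f.fiberToSpecResidueField (a cl)) :=
    MorphismProperty.pullback_snd f (S.fromSpecResidueField (a cl)) inferInstance
  obtain ⟨w₁, hw₁⟩ : f.fiberι s w.1 ∈ Set.range (f.fiberι (a cl)) := by
    rw [f.range_fiberι, hacl]; exact apply_fiberι f s w.1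
  obtain ⟨q, hqw, hqdim⟩ := exists_point_fieldExt (k := S.residueField (a cl))
    (k' := (Spec (CommRingCat.of V)).residueField cl) (f.fiberToSpecResidueField (a cl))
    ‹LocallyOfFiniteType (f.fiberToSpecResidueField (a cl))›
    (a.residueFieldMap cl) (π.fiberToSpecResidueField cl) mc Hc w₁
  let Q := π.fiberι cl q
  have hprQ : pr Q = f.fiberι s w.1 := by rw [← hmcι, hqw, hw₁]
  rw [dim_closure_fiber f s w.1, ← hw₁, ← dim_closure_fiber]
  refine hqdim.trans ?_
  rw [dim_closure_fiber]
  -- `Q` is in the closure of the images in the generic fibre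
  let W₀ : Set ↑(pullback f a) := pr ⁻¹' R ∩ π ⁻¹' {gen}
  have hQW : Q ∈ closure W₀ := by
    rw [mem_closure_iff]
    intro O hO hQO
    have hOc : IsOpen (mc '' (π.fiberι cl ⁻¹' O)) :=
      mc.isOpenMap _ (hO.preimage (Scheme.Hom.continuous _))
    obtain ⟨T, hTo, hT⟩ := (f.fiberι (a cl)).isEmbedding.isInducing.isOpen_iff.mp hOc
    have hmem : f.fiberι s w.1 ∈ closure (R ∩ f.base ⁻¹' {s}) := w.2.2
    have hwT : f.fiberι s w.1 ∈ T := by
      rw [← hw₁]
      show w₁ ∈ f.fiberι (a cl) ⁻¹' T
      rw [hT]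
      exact ⟨q, hQO, hqw⟩
    obtain ⟨r, hrT, hrR, hrs⟩ := mem_closure_iff.mp hmem T hTo hwT
    obtain ⟨r₁, hr₁⟩ : r ∈ Set.range (f.fiberι (a cl)) := by
      rw [f.range_fiberι, hacl]; exact hrs
    have hr₁T : r₁ ∈ f.fiberι (a cl) ⁻¹' T := by rw [← hr₁] at hrT; exact hrT
    rw [hT] at hr₁T
    obtain ⟨q₁, hq₁O, hq₁⟩ := hr₁T
    have hprq₁ : pr (π.fiberι cl q₁) = r := by rw [← hmcι, hq₁, hr₁]
    obtain ⟨i, y, hy⟩ := Set.mem_iUnion.mp hrR
    have hpb : IsPullback (pullback.fst (v i) pr) (pullback.snd (v i) pr ≫ π) (g i) a := by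
      rw [← hv i]
      exact (IsPullback.of_hasPullback (v i) pr).paste_vert sq
    haveI : UniversallyOpen (pullback.snd (v i) pr ≫ π) :=
      MorphismProperty.of_isPullback (P := @UniversallyOpen) hpb (‹∀ i, UniversallyOpen (g i)› i)
    obtain ⟨yT, hyT1, hyT2⟩ := Scheme.Pullback.exists_preimage_pullback
      (f := v i) (g := pr) y (π.fiberι cl q₁) (hy.trans hprq₁.symm)
    have himg : IsOpen ((pullback.snd (v i) pr ≫ π) '' (pullback.snd (v i) pr ⁻¹' O)) :=
      (pullback.snd (v i) pr ≫ π).isOpenMap _ (hO.preimage (Scheme.Hom.continuous _))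
    have hclmem : cl ∈ (pullback.snd (v i) pr ≫ π) '' (pullback.snd (v i) pr ⁻¹' O) :=
      ⟨yT, by show pullback.snd (v i) pr yT ∈ O; rw [hyT2]; exact hq₁O, by
        rw [Scheme.Hom.comp_apply, hyT2]; exact apply_fiberι π cl q₁⟩
    have hgen : gen ⤳ cl :=
      (PrimeSpectrum.le_iff_specializes (R := V) ⟨⊥, Ideal.isPrime_bot⟩
        (IsLocalRing.closedPoint V)).mp (bot_le (α := Ideal V))
    obtain ⟨yT', hyO, hyg⟩ := hgen.mem_open himg hclmem
    refine ⟨pullback.snd (v i) pr yT', hyO, ?_, hyg⟩
    refine Set.mem_iUnion.mpr ⟨i, pullback.fst (v i) pr yT', ?_⟩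
    rw [← Scheme.Hom.comp_apply, ← Scheme.Hom.comp_apply, pullback.condition]
  -- the generic fibre is Noetherian
  let G := π.fiber gen
  haveI : LocallyOfFiniteType (π.fiberToSpecResidueField gen) :=
    MorphismProperty.pullback_snd π _ inferInstance
  haveI : IsLocallyNoetherian G :=
    LocallyOfFiniteType.isLocallyNoetherian (π.fiberToSpecResidueField gen)
  haveI : IsNoetherian G := {}
  let D : Closeds G := ⟨closure (π.fiberι gen ⁻¹' W₀), isClosed_closure⟩
  obtain ⟨𝒯, h𝒯f, h𝒯c, h𝒯i, h𝒯u⟩ :=
    NoetherianSpace.exists_finite_set_isClosed_irreducible (α := G) (s := (D : Set G)) D.isClosed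
  have hW0le : W₀ ⊆ ⋃ Tc ∈ 𝒯, closure (π.fiberι gen '' Tc) := by
    intro z hz
    obtain ⟨z₁, rfl⟩ : z ∈ Set.range (π.fiberι gen) := by rw [π.range_fiberι]; exact hz.2
    have : z₁ ∈ (D : Set G) := subset_closure hz
    rw [h𝒯u] at this
    obtain ⟨Tc, hTc, hzT⟩ := this
    exact Set.mem_iUnion₂.mpr ⟨Tc, hTc, subset_closure ⟨z₁, hzT, rfl⟩⟩
  have hQmem := closure_minimal hW0le (h𝒯f.isClosed_biUnion fun _ _ => isClosed_closure) hQW
  obtain ⟨Tc, hTc, hQT⟩ := Set.mem_iUnion₂.mp hQmem
  obtain ⟨η, hη⟩ := QuasiSober.sober (h𝒯i Tc hTc) (h𝒯c Tc hTc)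
  have hηD : η ∈ (D : Set G) := h𝒯u ▸ ⟨Tc, hTc, hη.mem⟩
  let Q' := π.fiberι gen η
  have hsp : Q' ⤳ Q := by
    refine specializes_iff_mem_closure.mpr (closure_minimal ?_ isClosed_closure hQT)
    rintro _ ⟨z, hz, rfl⟩
    exact ((hη.specializes hz).map (π.fiberι gen).continuous).mem_closure
  refine (fdim_le_of_specializes_generic V π hsp (apply_fiberι π gen η)).trans ?_
  -- back to the fibre over `s'`
  let mg : G ⟶ f.fiber (a gen) :=
    pullback.map _ _ _ _ pr (Spec.map (a.residueFieldMap gen)) a sq.w.symm (by simp)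
  have Hg := isPullback_fiberToSpecResidueField_of_isPullback sq gen
  haveI : IsIso (a.residueFieldMap gen) := by
    refine (ConcreteCategory.isIso_iff_bijective _).mpr ⟨RingHom.injective _, fun k => ?_⟩
    have h1 : Spec.map (a.residueFieldMap gen ≫ ψ) ≫ S.fromSpecResidueField (a gen) =
        Spec.map (S.residueFieldCongr hagen).hom ≫ S.fromSpecResidueField (a gen) := by
      rw [Spec.map_comp, Category.assoc, Scheme.Hom.SpecMap_residueFieldMap_fromSpecResidueField,
        ← Category.assoc, ← hincψ, haK, Scheme.residueFieldCongr_fromSpecResidueField]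
    have h2 := Spec.map_injective ((cancel_mono (S.fromSpecResidueField (a gen))).mp h1)
    obtain ⟨b, hb⟩ := (ConcreteCategory.bijective_of_isIso (S.residueFieldCongr hagen).hom).surjective (ψ.hom k)
    refine ⟨b, hψb.1 ?_⟩
    rw [← hb]
    exact congr($(h2).hom b)
  haveI : IsIso mg := MorphismProperty.of_isPullback
    (P := MorphismProperty.isomorphisms Scheme) Hg.flip
    (inferInstanceAs (IsIso (Spec.map (a.residueFieldMap gen))))
  have hmgι : ∀ z, f.fiberι (a gen) (mg z) = pr (π.fiberι gen z) := fun z => by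
    have hcomm : mg ≫ f.fiberι (a gen) = π.fiberι gen ≫ pr := pullback.lift_fst _ _ _
    rw [← Scheme.Hom.comp_apply, ← Scheme.Hom.comp_apply, hcomm]
  rw [← dim_closure_fiber]
  refine le_of_eq (Groth.L22.SchemeDim.topologicalKrullDim_eq_of_isEmbedding
    (f := fun z : closure ({η} : Set G) => f.fiberι (a gen) (mg z.1))
    (((f.fiberι (a gen)).isEmbedding.comp mg.isOpenEmbedding.isEmbedding).comp IsEmbedding.subtypeVal)
    rfl).symm |>.trans (Groth.L22.SchemeDim.topologicalKrullDim_mono ?_)
  rintro _ ⟨⟨z, hz⟩, rfl⟩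
  refine ⟨(apply_fiberι f (a gen) _).trans hagen, ?_⟩
  show f.fiberι (a gen) (mg z) ∈ _
  rw [hmgι]
  have hzD : z ∈ closure (π.fiberι gen ⁻¹' W₀) :=
    closure_minimal (Set.singleton_subset_iff.mpr hηD) D.isClosed hz
  refine map_mem_closure (f := fun z => pr (π.fiberι gen z))
    (pr.continuous.comp (π.fiberι gen).continuous) hzD fun z' hz' => ⟨hz'.1, ?_⟩
  show f (pr (π.fiberι gen z')) = s'
  rw [← Scheme.Hom.comp_apply pr f, sq.w, Scheme.Hom.comp_apply, apply_fiberι π gen z', hagen]

end Groth.L02.UnivOpenDim
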