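import Groth.Agent.L02.SchDom.MonoApps
import Groth.Agent.L02.SchDom.ClosedLocus

/-!
# Transporters of smooth or finite flat subschemes into closed subschemes
-/

set_option autoImplicit false

universe u

open CategoryTheory Limits MonoidalCategory CartesianMonoidalCategory MonObj GrpObj AlgebraicGeometry

set_option backward.isDefEq.respectTransparency.types false

noncomputable section

namespace Groth.L02.SchDom

variable {S : Scheme.{u}}

theorem irrFib_fst (G Y : Over S) (hf : IrrFib Y.hom) : IrrFib (fst G Y).left := by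
  intro K _ _ q
  haveI := hf K (q ≫ G.hom)
  have H := (IsPullback.of_hasPullback (fst G Y).left q).paste_horiz (isPullback_fst_snd G Y).flip
  exact H.isoPullback.inv.homeomorph.surjective.irreducibleSpace H.isoPullback.inv.continuous

/-- The locus of `g` where a morphism on `G ⊗ Y` lands in a closed subscheme, in terms of points. -/
theorem exists_pointLocus {G Y Z P : Over S} (y : P ⟶ Z) [IsClosedImmersion y.left] (c : G ⊗ Y ⟶ Z)
    (h : ∃ (T : Scheme.{u}) (t : T ⟶ G.left), IsClosedImmersion t ∧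
      (LocallyOfFinitePresentation y.left → LocallyOfFinitePresentation t) ∧
      ∀ (S' : Scheme.{u}) (g : S' ⟶ G.left), (∃ g', g' ≫ t = g) ↔
        ∃ l, l ≫ y.left = pullback.fst (fst G Y).left g ≫ c.left) :
    ∃ (C : Over S) (z : C ⟶ G), IsClosedImmersion z.left ∧
      (LocallyOfFinitePresentation y.left → LocallyOfFinitePresentation z.left) ∧
      ∀ (T : Over S) (g : T ⟶ G), (∃ w, w ≫ z = g) ↔
        ∀ (T' : Over S) (x : T' ⟶ T) (a : T' ⟶ Y), ∃ p : T' ⟶ P, p ≫ y = lift (x ≫ g) a ≫ c := by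
  obtain ⟨C, z, hz, hzl, hiff⟩ := h
  refine ⟨Over.mk (z ≫ G.hom), Over.homMk z, hz, hzl, fun T g => ?_⟩
  have H := isPullback_whiskerRight g Y
  refine Iff.trans ?_ ((hiff T.left g.left).trans ?_)
  · constructor
    · rintro ⟨w, rfl⟩
      exact ⟨w.left, rfl⟩
    · rintro ⟨w, hw⟩
      exact ⟨Over.homMk w (by show w ≫ z ≫ G.hom = T.hom; rw [reassoc_of% hw, Over.w g]), Over.OverMorphism.ext hw⟩
  · constructor
    · rintro ⟨l, hl⟩ T' x a
      have hc : (H.isoPullback.hom ≫ l) ≫ y.left = (g ▷ Y ≫ c).left := by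
        rw [Category.assoc, hl, IsPullback.isoPullback_hom_fst_assoc]
        rfl
      let p : T ⊗ Y ⟶ P := Over.homMk (H.isoPullback.hom ≫ l) (by
        rw [← Over.w y, ← Category.assoc, hc, Over.w (g ▷ Y ≫ c)])
      refine ⟨lift x a ≫ p, ?_⟩
      rw [Category.assoc, show p ≫ y = g ▷ Y ≫ c from Over.OverMorphism.ext hc, ← Category.assoc]
      congr 1
      apply CartesianMonoidalCategory.hom_ext <;> simp
    · intro hall
      obtain ⟨p, hp⟩ := hall (T ⊗ Y) (fst T Y) (snd T Y)
      have h1 : lift (fst T Y ≫ g) (snd T Y) = g ▷ Y := by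
        apply CartesianMonoidalCategory.hom_ext <;> simp
      rw [h1] at hp
      refine ⟨H.isoPullback.inv ≫ p.left, ?_⟩
      rw [Category.assoc, ← Over.comp_left, hp, Over.comp_left, ← Category.assoc,
        IsPullback.isoPullback_inv_fst]

theorem exists_smoothPointLocus {G Y Z P : Over S} [Smooth Y.hom] (hf : IrrFib Y.hom) (y : P ⟶ Z)
    [IsClosedImmersion y.left] (c : G ⊗ Y ⟶ Z) :
    ∃ (C : Over S) (z : C ⟶ G), IsClosedImmersion z.left ∧
      (LocallyOfFinitePresentation y.left → LocallyOfFinitePresentation z.left) ∧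
      ∀ (T : Over S) (g : T ⟶ G), (∃ w, w ≫ z = g) ↔
        ∀ (T' : Over S) (x : T' ⟶ T) (a : T' ⟶ Y), ∃ p : T' ⟶ P, p ≫ y = lift (x ≫ g) a ≫ c := by
  haveI : Smooth (fst G Y).left :=
    MorphismProperty.of_isPullback (isPullback_fst_snd G Y).flip inferInstance
  exact exists_pointLocus y c (exists_weilLocus (f := (fst G Y).left) (y := y.left) (a := c.left)
    (irrFib_fst G Y hf))

theorem exists_finitePointLocus {G Y Z P : Over S} [IsFinite Y.hom] [Flat Y.hom]
    [LocallyOfFinitePresentation Y.hom] (y : P ⟶ Z) [IsClosedImmersion y.left] (c : G ⊗ Y ⟶ Z) :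
    ∃ (C : Over S) (z : C ⟶ G), IsClosedImmersion z.left ∧
      (LocallyOfFinitePresentation y.left → LocallyOfFinitePresentation z.left) ∧
      ∀ (T : Over S) (g : T ⟶ G), (∃ w, w ≫ z = g) ↔
        ∀ (T' : Over S) (x : T' ⟶ T) (a : T' ⟶ Y), ∃ p : T' ⟶ P, p ≫ y = lift (x ≫ g) a ≫ c := by
  haveI : IsFinite (fst G Y).left :=
    MorphismProperty.of_isPullback (isPullback_fst_snd G Y).flip inferInstance
  haveI : Flat (fst G Y).left :=
    MorphismProperty.of_isPullback (isPullback_fst_snd G Y).flip inferInstance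
  haveI : LocallyOfFinitePresentation (fst G Y).left :=
    MorphismProperty.of_isPullback (isPullback_fst_snd G Y).flip inferInstance
  exact exists_pointLocus y c (exists_factorLocus (fst G Y).left y.left c.left)

theorem isClosedImmersion_diag (G : Over S) [IsSeparated G.hom] :
    IsClosedImmersion (lift (𝟙 G) (𝟙 G) : G ⟶ G ⊗ G).left :=
  IsSeparated.isClosedImmersion_diagonal

theorem fac_diag {G T : Over S} (a b : T ⟶ G) :
    (∃ p : T ⟶ G, p ≫ lift (𝟙 G) (𝟙 G) = lift a b) ↔ a = b := by
  constructor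
  · rintro ⟨p, hp⟩
    have h1 := congrArg (· ≫ fst G G) hp
    have h2 := congrArg (· ≫ snd G G) hp
    simp only [Category.assoc, lift_fst, lift_snd, Category.comp_id] at h1 h2
    exact h1.symm.trans h2
  · rintro rfl
    exact ⟨a, by rw [comp_lift, Category.comp_id]⟩

end Groth.L02.SchDom
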