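import Groth.Agent.L02.SchDom.GeomFibre
import Groth.Agent.L02.SchDom.Content
import Groth.Agent.L25.Locus.Factor
import Mathlib.AlgebraicGeometry.Morphisms.Smooth
import Mathlib.AlgebraicGeometry.Morphisms.UniversallyOpen

/-!
# The closed locus where a smooth scheme with a section lands in a closed subscheme: ring level
-/

set_option autoImplicit false

universe u

open CategoryTheory Limits AlgebraicGeometry TopologicalSpace
open scoped TensorProduct

noncomputable section

namespace Groth.L02.SchDom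

variable {A : Type u} [CommRing A] {X W Y : Scheme.{u}} (f : X ⟶ Spec (CommRingCat.of A))
  (y : Y ⟶ W) [IsClosedImmersion y] (a : X ⟶ W)

/-- Factorisation over an affine chart, as vanishing of an ideal. -/
theorem exists_ideal_chart {B : Type u} [CommRing B] [Algebra A B] (b : Spec (CommRingCat.of B) ⟶ X)
    (hb : b ≫ f = Spec.map (CommRingCat.ofHom (algebraMap A B))) :
    ∃ J : Ideal B, (LocallyOfFinitePresentation y → J.FG) ∧
      ∀ (C : Type u) [CommRing C] (ψ : B →+* C),
        (∃ l, l ≫ y = Spec.map (CommRingCat.ofHom ψ) ≫ b ≫ a) ↔ ∀ x ∈ J, ψ x = 0 :=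
  Groth.L25.Locus.exists_ideal_factors y (b ≫ a)

/-- Affine opens of smooth schemes over an affine scheme are smooth algebras. -/
theorem smooth_of_chart {B : Type u} [CommRing B] [Algebra A B] [Smooth f]
    (b : Spec (CommRingCat.of B) ⟶ X) [IsOpenImmersion b]
    (hb : b ≫ f = Spec.map (CommRingCat.ofHom (algebraMap A B))) : Algebra.Smooth A B := by
  have h : Smooth (b ≫ f) := inferInstance
  rw [hb, HasRingHomProperty.Spec_iff (P := @Smooth)] at h
  exact RingHom.smooth_algebraMap.1 h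

/-- A closed subscheme containing the base change of a fibrewise dense open contains everything. -/
theorem factors_of_open [Smooth f] (hf : IrrFib f) {U : X.Opens}
    (hUfib : ∀ t, ∃ z ∈ U, f z = t) (R : Type u) [CommRing R] [Algebra A R]
    (HU : ∀ (C : Type u) [CommRing C] [Algebra A C] (c : Spec (CommRingCat.of C) ⟶ X)
      (_ : c ≫ f = Spec.map (CommRingCat.ofHom (algebraMap A C))) (_ : Set.range c ⊆ U),
      ∃ l, l ≫ y = Spec.map (CommRingCat.ofHom
        (Algebra.TensorProduct.includeRight : C →ₐ[A] R ⊗[A] C).toRingHom) ≫ c ≫ a) :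
    ∃ l, l ≫ y = pullback.fst f (Spec.map (CommRingCat.ofHom (algebraMap A R))) ≫ a := by
  classical
  let g := Spec.map (CommRingCat.ofHom (algebraMap A R))
  refine Groth.L25.Locus.factors_of_cover y _ fun w => ?_
  let x : X := pullback.fst f g w
  obtain ⟨V, hV, hxV, -⟩ := exists_isAffineOpen_mem_and_subset (U := (⊤ : X.Opens)) (x := x)
    (Opens.mem_top _)
  obtain ⟨z, hzU, hzV, hz⟩ := hf.exists_mem_inter (s := f x) (U := U) (V := V) (hUfib _) ⟨x, hxV, rfl⟩
  obtain ⟨h₀, hle₀, hzh⟩ := hV.exists_basicOpen_le (V := U) ⟨z, hzU⟩ hzV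
  -- shrink the base so that the basic open meets every fibre
  have hop : IsOpen (f '' (X.basicOpen h₀ : Set X)) := f.isOpenMap _ (X.basicOpen h₀).2
  obtain ⟨_, ⟨r, rfl⟩, hxr, hrsub⟩ :=
    PrimeSpectrum.isTopologicalBasis_basic_opens.exists_subset_of_mem_open
      (show f x ∈ f '' (X.basicOpen h₀ : Set X) from ⟨z, hzh, hz⟩) hop
  let D : (Spec (CommRingCat.of A)).Opens := PrimeSpectrum.basicOpen r
  let rV : Γ(X, V) := (Spec.preimage (hV.fromSpec ≫ f)).hom r
  let V' : X.Opens := X.basicOpen rV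
  have hV' : IsAffineOpen V' := hV.basicOpen rV
  have hfV : ∀ q : Spec Γ(X, V), f (hV.fromSpec q) =
      PrimeSpectrum.comap (Spec.preimage (hV.fromSpec ≫ f)).hom q := fun q => by
    rw [← Scheme.Hom.comp_apply]
    conv_lhs => rw [← Spec.map_preimage (hV.fromSpec ≫ f)]
    rfl
  have hV'iff : ∀ v : X, v ∈ V' ↔ v ∈ V ∧ f v ∈ D := by
    intro v
    constructor
    · intro hv
      have hvV : v ∈ V := X.basicOpen_le rV hv
      refine ⟨hvV, ?_⟩
      obtain ⟨q, rfl⟩ : v ∈ Set.range hV.fromSpec := by rw [hV.range_fromSpec]; exact hvV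
      rw [hfV]
      have : q ∈ PrimeSpectrum.basicOpen rV := by
        rw [← hV.fromSpec_preimage_basicOpen rV]
        exact hv
      exact this
    · rintro ⟨hvV, hvD⟩
      obtain ⟨q, rfl⟩ : v ∈ Set.range hV.fromSpec := by rw [hV.range_fromSpec]; exact hvV
      rw [hfV] at hvD
      have : q ∈ hV.fromSpec ⁻¹ᵁ X.basicOpen rV := by
        rw [hV.fromSpec_preimage_basicOpen rV]
        exact hvD
      exact this
  let h : Γ(X, V') := X.presheaf.map (homOfLE (X.basicOpen_le rV)).op h₀
  have hhle : X.basicOpen h = V' ⊓ X.basicOpen h₀ := Scheme.basicOpen_res X h₀ _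
  let B' := Γ(X, V')
  letI : Algebra A B' := (Spec.preimage (hV'.fromSpec ≫ f)).hom.toAlgebra
  have hb' : hV'.fromSpec ≫ f = Spec.map (CommRingCat.ofHom (algebraMap A B')) := (Spec.map_preimage _).symm
  haveI : Algebra.Smooth A B' := smooth_of_chart f hV'.fromSpec hb'
  -- `h` is a non-zero-divisor universally
  have hnzd : Function.Injective fun z : R ⊗[A] B' => ((1 : R) ⊗ₜ h) * z := by
    refine mul_injective_of_fibres h (fun K _ _ => ?_) R
    haveI := hf.noZeroDivisors f hV'.fromSpec hb' K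
    by_cases hsub : Subsingleton (K ⊗[A] B')
    · exact fun p q _ => Subsingleton.elim _ _
    rw [not_subsingleton_iff_nontrivial] at hsub
    obtain ⟨P⟩ := (inferInstance : Nonempty (PrimeSpectrum (K ⊗[A] B')))
    let q₁ : PrimeSpectrum B' := PrimeSpectrum.comap Algebra.TensorProduct.includeRight.toRingHom P
    let p : PrimeSpectrum A := PrimeSpectrum.comap (algebraMap A K) ⟨⊥, Ideal.isPrime_bot⟩
    have hfq : ∀ q : PrimeSpectrum B', f (hV'.fromSpec q) = PrimeSpectrum.comap (algebraMap A B') q :=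
      fun q => by
        rw [← Scheme.Hom.comp_apply, hb']
        rfl
    have hq₁ : f (hV'.fromSpec q₁) = p := by
      rw [hfq]
      haveI : IsDomain (K ⊗[A] B') := NoZeroDivisors.to_isDomain _
      apply PrimeSpectrum.ext
      show Ideal.comap (algebraMap A B') (Ideal.comap Algebra.TensorProduct.includeRight.toRingHom P.asIdeal) = _
      rw [Ideal.comap_comap, AlgHom.toRingHom_eq_coe, AlgHom.comp_algebraMap,
        IsScalarTower.algebraMap_eq A K (K ⊗[A] B'), ← Ideal.comap_comap]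
      show Ideal.comap (algebraMap A K) _ = Ideal.comap (algebraMap A K) ⊥
      congr 1
      exact ((IsSimpleOrder.eq_bot_or_eq_top _).resolve_right (Ideal.comap_ne_top _ P.2.ne_top))
    have hpD : p ∈ D := hq₁ ▸ ((hV'iff _).1
      (hV'.range_fromSpec.le (Set.mem_range_self q₁))).2
    obtain ⟨v, hv, hvp⟩ := hrsub hpD
    obtain ⟨v', hv', hv'V, hv'p⟩ := hf.exists_mem_inter (s := p) (U := X.basicOpen h₀) (V := V')
      ⟨v, hv, hvp⟩ ⟨hV'.fromSpec q₁, hV'.range_fromSpec.le (Set.mem_range_self q₁), hq₁⟩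
    obtain ⟨q₂, rfl⟩ : v' ∈ Set.range hV'.fromSpec := by rw [hV'.range_fromSpec]; exact hv'V
    have hq₂ : h ∉ q₂.asIdeal := by
      have : q₂ ∈ hV'.fromSpec ⁻¹ᵁ X.basicOpen h := by
        show hV'.fromSpec q₂ ∈ X.basicOpen h
        rw [hhle]
        exact ⟨hv'V, hv'⟩
      rw [hV'.fromSpec_preimage_basicOpen h] at this
      exact this
    have hne := tmul_ne_zero_of_notMem K q₂.asIdeal (by
      have e := hv'p
      rw [hfq] at e
      exact (congrArg PrimeSpectrum.asIdeal e).trans rfl) h hq₂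
    exact fun z₁ z₂ hz₁₂ => mul_left_cancel₀ hne hz₁₂
  -- the ideal of the closed subscheme on the affine open vanishes
  obtain ⟨I, -, hI⟩ := exists_ideal_chart f y a hV'.fromSpec hb'
  let iR : B' →ₐ[A] R ⊗[A] B' := Algebra.TensorProduct.includeRight
  have hIzero : ∀ i ∈ I, iR i = 0 := by
    intro i hi
    let C := Localization.Away h
    let loc : B' →ₐ[A] C := IsScalarTower.toAlgHom A B' C
    let c : Spec (CommRingCat.of C) ⟶ X := Spec.map (CommRingCat.ofHom loc.toRingHom) ≫ hV'.fromSpec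
    have hc : c ≫ f = Spec.map (CommRingCat.ofHom (algebraMap A C)) := by
      rw [Category.assoc, hb', ← Spec.map_comp, ← CommRingCat.ofHom_comp]
      congr 2
    have hcU : Set.range c ⊆ U := by
      rintro _ ⟨P, rfl⟩
      refine hle₀ ((inf_le_right : V' ⊓ X.basicOpen h₀ ≤ X.basicOpen h₀) ?_)
      rw [← hhle, Scheme.Hom.comp_apply]
      show Spec.map (CommRingCat.ofHom loc.toRingHom) P ∈ hV'.fromSpec ⁻¹ᵁ X.basicOpen h
      rw [hV'.fromSpec_preimage_basicOpen h]
      exact (PrimeSpectrum.localization_away_comap_range C h).le ⟨P, rfl⟩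
    obtain ⟨l, hl⟩ := HU C c hc hcU
    have h0 : (1 : R) ⊗ₜ[A] (loc i) = 0 := (hI (R ⊗[A] C)
      ((Algebra.TensorProduct.includeRight : C →ₐ[A] R ⊗[A] C).comp loc).toRingHom).1
      ⟨l, by rw [hl]; simp only [c, Category.assoc, ← Spec.map_comp_assoc, ← CommRingCat.ofHom_comp]; rfl⟩
      i hi
    let L := Localization.Away (iR h)
    let ε : C →ₐ[A] L := IsLocalization.liftAlgHom (M := Submonoid.powers h)
      (f := (IsScalarTower.toAlgHom A (R ⊗[A] B') L).comp iR) (by
        rintro ⟨_, n, rfl⟩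
        rw [map_pow]
        exact (IsLocalization.Away.algebraMap_isUnit (S := L) (iR h)).pow n)
    let χ : R ⊗[A] C →ₐ[A] L := Algebra.TensorProduct.lift
      ((IsScalarTower.toAlgHom A (R ⊗[A] B') L).comp Algebra.TensorProduct.includeLeft) ε
      fun _ _ => Commute.all _ _
    have h1 : algebraMap (R ⊗[A] B') L (iR i) = 0 := by
      have h2 := congrArg χ h0
      rw [map_zero, Algebra.TensorProduct.lift_tmul, map_one, one_mul] at h2
      have h3 : ε (algebraMap B' C i) = algebraMap (R ⊗[A] B') L (iR i) :=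
        IsLocalization.lift_eq _ i
      rw [← h3]
      exact h2
    obtain ⟨⟨_, n, rfl⟩, hn⟩ := (IsLocalization.map_eq_zero_iff (Submonoid.powers (iR h)) L _).1 h1
    simp only at hn
    clear h1 h0
    induction n with
    | zero => simpa using hn
    | succ n ih =>
      refine ih (hnzd ?_)
      show (1 : R) ⊗ₜ[A] h * (iR h ^ n * iR i) = (1 : R) ⊗ₜ[A] h * 0
      rw [mul_zero, ← mul_assoc]
      rw [pow_succ'] at hn
      exact hn
  obtain ⟨l, hl⟩ := (hI (R ⊗[A] B') iR.toRingHom).2 hIzero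
  have hb'' : hV'.fromSpec ≫ f = Spec.map (CommRingCat.ofHom (algebraMap A B')) ≫ 𝟙 _ := by
    rw [Category.comp_id, hb']
  let E := bcChart f g (A := A) (A' := R) (a := 𝟙 _) (g₀ := 𝟙 _) (b := hV'.fromSpec)
    ((Category.id_comp _).trans (Category.comp_id _).symm) hb''
  refine ⟨_, E, bcChart_isOpenImmersion f g _ _, ?_, l, ?_⟩
  · rw [range_bcChart]
    refine ⟨?_, ⟨pullback.snd f g w, rfl⟩⟩
    show x ∈ Set.range hV'.fromSpec
    rw [hV'.range_fromSpec]
    exact (hV'iff x).2 ⟨hxV, hxr⟩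
  · rw [hl]
    show _ = bcChart f g _ _ ≫ _
    rw [bcChart, pullback.lift_fst_assoc, Category.assoc]

/-- **The locus on the base of a smooth scheme with a section.** -/
theorem exists_ideal_of_section [Smooth f] (hf : IrrFib f) {U : X.Opens} (hU : IsAffineOpen U)
    (σ : Spec (CommRingCat.of A) ⟶ X) (hσ : σ ≫ f = 𝟙 _) (hσU : Set.range σ ⊆ U) :
    ∃ c : Ideal A, (LocallyOfFinitePresentation y → c.FG) ∧
      ∀ (R : Type u) [CommRing R] [Algebra A R],
        (∃ l, l ≫ y = pullback.fst f (Spec.map (CommRingCat.ofHom (algebraMap A R))) ≫ a) ↔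
          c ≤ RingHom.ker (algebraMap A R) := by
  classical
  let B := Γ(X, U)
  letI : Algebra A B := (Spec.preimage (hU.fromSpec ≫ f)).hom.toAlgebra
  have hb : hU.fromSpec ≫ f = Spec.map (CommRingCat.ofHom (algebraMap A B)) := (Spec.map_preimage _).symm
  haveI : Algebra.Smooth A B := smooth_of_chart f hU.fromSpec hb
  let σU : Spec (CommRingCat.of A) ⟶ Spec Γ(X, U) :=
    IsOpenImmersion.lift hU.fromSpec σ (by rw [hU.range_fromSpec]; exact hσU)
  have hσU' : σU ≫ hU.fromSpec = σ := IsOpenImmersion.lift_fac _ _ _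
  let u : B →ₐ[A] A :=
    { (Spec.preimage σU).hom with
      commutes' := fun r => by
        have h1 : CommRingCat.ofHom (algebraMap A B) ≫ Spec.preimage σU = 𝟙 _ := by
          apply Spec.map_injective
          rw [Spec.map_comp, Spec.map_preimage, ← hb, reassoc_of% hσU', hσ, Spec.map_id]
        exact congrArg (fun φ : CommRingCat.of A ⟶ CommRingCat.of A => φ.hom r) h1 }
  obtain ⟨J, hJfg, hJ⟩ := exists_ideal_chart f y a hU.fromSpec hb
  obtain ⟨t, ht, htfin⟩ : ∃ t : Set B, Ideal.span t = J ∧ (LocallyOfFinitePresentation y → t.Finite) := by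
    by_cases hy : LocallyOfFinitePresentation y
    · obtain ⟨t, ht⟩ := hJfg hy
      exact ⟨t, ht, fun _ => t.finite_toSet⟩
    · exact ⟨J, Ideal.span_eq J, fun h => absurd h hy⟩
  obtain ⟨c, hcfg, hc⟩ := exists_content u (fun K _ _ => hf.noZeroDivisors f hU.fromSpec hb K) t
  refine ⟨c, fun hy => hcfg (htfin hy), fun R _ _ => ?_⟩
  let iR : B →ₐ[A] R ⊗[A] B := Algebra.TensorProduct.includeRight
  have hJt : (∀ z ∈ t, (1 : R) ⊗ₜ[A] z = 0) ↔ ∀ z ∈ J, iR z = 0 := by
    refine ⟨fun h z hz => ?_, fun h z hz => h z (ht ▸ Ideal.subset_span hz)⟩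
    exact (Ideal.span_le (I := RingHom.ker iR.toRingHom)).2 h (ht.symm ▸ hz)
  rw [← hc R, hJt, show (∀ z ∈ J, iR z = 0) ↔ _ from (hJ (R ⊗[A] B) iR.toRingHom).symm]
  constructor
  · rintro ⟨l, hl⟩
    have hb' : hU.fromSpec ≫ f = Spec.map (CommRingCat.ofHom (algebraMap A B)) ≫ 𝟙 _ := by
      rw [Category.comp_id, hb]
    let E := bcChart f (Spec.map (CommRingCat.ofHom (algebraMap A R))) (A := A) (A' := R) (a := 𝟙 _)
      (g₀ := 𝟙 _) (b := hU.fromSpec) ((Category.id_comp _).trans (Category.comp_id _).symm) hb'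
    refine ⟨E ≫ l, ?_⟩
    rw [Category.assoc, hl]
    show bcChart f _ _ _ ≫ _ = _
    rw [bcChart, pullback.lift_fst_assoc, Category.assoc]
  · rintro ⟨l, hl⟩
    refine factors_of_open f y a hf (U := U) (fun t => ⟨σ t, hσU ⟨t, rfl⟩, by
      rw [← Scheme.Hom.comp_apply, hσ]; rfl⟩) R ?_
    intro C _ _ c hcf hcU
    let cU : Spec (CommRingCat.of C) ⟶ Spec Γ(X, U) :=
      IsOpenImmersion.lift hU.fromSpec c (by rw [hU.range_fromSpec]; exact hcU)
    have hcU' : cU ≫ hU.fromSpec = c := IsOpenImmersion.lift_fac _ _ _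
    let θ : B →ₐ[A] C :=
      { (Spec.preimage cU).hom with
        commutes' := fun r => by
          have h1 : CommRingCat.ofHom (algebraMap A B) ≫ Spec.preimage cU =
              CommRingCat.ofHom (algebraMap A C) := by
            apply Spec.map_injective
            rw [Spec.map_comp, Spec.map_preimage, ← hb, reassoc_of% hcU', hcf]
          exact congrArg (fun φ : CommRingCat.of A ⟶ CommRingCat.of C => φ.hom r) h1 }
    let θR : R ⊗[A] B →ₐ[A] R ⊗[A] C := Algebra.TensorProduct.map (AlgHom.id A R) θ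
    refine ⟨Spec.map (CommRingCat.ofHom θR.toRingHom) ≫ l, ?_⟩
    rw [Category.assoc, hl, ← Spec.map_comp_assoc, ← hcU']
    conv_rhs => rw [← Spec.map_preimage cU, Category.assoc, ← Spec.map_comp_assoc]
    congr 2

end Groth.L02.SchDom
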